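import Cfsg.Agent.Lib.AltEightThree6.Spec

/-!
# S3329, brick Bad: finite facts on `(S3 × S5)+`
-/

set_option autoImplicit false
set_option synthInstance.maxSize 1024
set_option synthInstance.maxHeartbeats 200000

namespace Cfsg.Agent.Lib.AltEightThree6.BadAux

open Equiv Equiv.Perm

/-- The element `((01),(12))`. -/
def rL : L35 := evL (swap 0 1) (swap 1 2)

/-- A three cycle `(034)` of the second factor. -/
def bL : L35 := evL 1 (swap 0 3 * swap 3 4)

theorem rL_sq : rL * rL = 1 := by decide +kernel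

theorem rL_ne : rL ≠ 1 := by decide +kernel

theorem rL_t : rL * tL = tL * rL := by decide +kernel

theorem rL_v : rL * vL * rL⁻¹ = tL * vL := by decide +kernel

theorem rL_z : rL * zL * rL⁻¹ = zL⁻¹ := by decide +kernel

theorem rL_b : rL * bL = bL * rL := by decide +kernel

theorem bL_conj : ∃ n : L35, n * aL * n⁻¹ = bL :=
  by decide +kernel

theorem vt_basic : tL * tL = 1 ∧ vL * vL = 1 ∧ tL ≠ 1 ∧ vL ≠ 1 ∧ zL ^ 3 = 1 ∧ zL ≠ 1 ∧ vL * zL = zL * vL ∧
    tL * zL = zL * tL ∧ zL * aL = aL * zL ∧ aL ≠ 1 ∧ tL * vL = vL * tL := by decide +kernel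

theorem cent_za : ∀ m : L35, m * (zL * aL) = zL * aL * m →
    m ^ 3 = 1 ∧ (m = 1 ∨ m = zL ∨ m = zL⁻¹ ∨ m = aL ∨ m = aL⁻¹ ∨
      ∃ n : L35, n * m * n⁻¹ = zL * aL ∨ n * m * n⁻¹ = (zL * aL)⁻¹) := by decide +kernel

theorem invol_z : ∀ m : L35, m * m = 1 → m * zL = zL * m → m ≠ 1 →
    ∃ n : L35, n * m * n⁻¹ = tL := by decide +kernel

theorem cent_tz : ∀ m : L35, m * tL = tL * m → m * zL = zL * m → m * vL = vL * m := by decide +kernel

theorem cent_v_four : ∀ m : L35, m * tL = tL * m → m * vL = vL * m → m ^ 4 = 1 →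
    m * zL = zL * m → m = 1 ∨ m = tL ∨ m = vL ∨ m = tL * vL := by decide +kernel

theorem card_cv : (Finset.univ.filter fun m : L35 =>
    m * tL = tL * m ∧ m * vL = vL * m ∧ m * zL = zL * m).card = 12 := by decide +kernel

theorem cent_t_pow : ∀ m : L35, m * tL = tL * m → m ^ 4 = 1 ∨ m ^ 4 = zL ∨ m ^ 4 = zL⁻¹ := by decide +kernel

end Cfsg.Agent.Lib.AltEightThree6.BadAux
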