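import Cfsg.Agent.Lib.AltEightThree6.BadTwo
import Cfsg.Agent.Lib.AltEightThree6.BadTables

/-!
# S3329, brick Bad: the centraliser of the four-group cannot have order twelve
-/

set_option autoImplicit false

namespace Cfsg.Agent.Lib.AltEightThree6

open Subgroup
open scoped Pointwise

universe u

namespace BadAux

variable {G : Type u} [Group G] [Finite G]

/-- Elements of order three are conjugate up to inversion when nine does not divide the order. -/
theorem conj_three (H : Subgroup G) (h9 : ¬ 9 ∣ Nat.card H) {a b : G} (ha : a ∈ H) (hb : b ∈ H)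
    (ha3 : orderOf a = 3) (hb3 : orderOf b = 3) : ∃ h ∈ H, h * a * h⁻¹ ∈ zpowers b := by
  have : Fact (Nat.Prime 3) := ⟨Nat.prime_three⟩
  have hpg : ∀ x : H, orderOf (x : G) = 3 → IsPGroup 3 (zpowers x) := fun x hx =>
    IsPGroup.of_card (n := 1) (by rw [Nat.card_zpowers, ← orderOf_coe, hx, pow_one])
  obtain ⟨Pa, hPa⟩ := (hpg ⟨a, ha⟩ ha3).exists_le_sylow
  obtain ⟨Pb, hPb⟩ := (hpg ⟨b, hb⟩ hb3).exists_le_sylow
  obtain ⟨k, hk⟩ := MulAction.exists_smul_eq H Pa Pb
  have hPbeq : zpowers (⟨b, hb⟩ : H) = (Pb : Subgroup H) := by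
    refine eq_of_le_of_card_ge hPb ?_
    obtain ⟨j, hj⟩ := Pb.2.exists_card_eq
    have hd := (Pb : Subgroup H).card_subgroup_dvd_card
    rw [hj] at hd ⊢
    rw [Nat.card_zpowers, ← orderOf_coe, hb3]
    have hj1 : j ≤ 1 := by
      by_contra h
      exact h9 (dvd_trans ((show (9 : ℕ) = 3 ^ 2 by norm_num) ▸ pow_dvd_pow 3 (by omega)) hd)
    calc 3 ^ j ≤ 3 ^ 1 := Nat.pow_le_pow_right (by norm_num) hj1
      _ = 3 := pow_one 3
  refine ⟨k, k.2, ?_⟩
  have h1 : MulAut.conj k ⟨a, ha⟩ ∈ (Pb : Subgroup H) := by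
    rw [← hk]; exact Subgroup.smul_mem_pointwise_smul _ _ _ (hPa (mem_zpowers _))
  rw [← hPbeq] at h1
  obtain ⟨i, hi⟩ := h1
  exact ⟨i, congrArg Subtype.val hi⟩

theorem eq_or_inv_of_zpowers {z e : G} (hz : z ^ 3 = 1) (he : e ∈ zpowers z) (he1 : e ≠ 1) :
    e = z ∨ e = z⁻¹ := by
  obtain ⟨i, rfl⟩ := he
  have h3 : z ^ (3 : ℤ) = 1 := by rw [show (3 : ℤ) = ((3 : ℕ) : ℤ) from rfl, zpow_natCast, hz]
  have hmod : z ^ i = z ^ (i % 3) := by
    conv_lhs => rw [show i = i % 3 + 3 * (i / 3) by omega, zpow_add, zpow_mul, h3, one_zpow, mul_one]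
  show z ^ i = z ∨ z ^ i = z⁻¹
  rw [hmod]
  rcases (by omega : i % 3 = 0 ∨ i % 3 = 1 ∨ i % 3 = 2) with h | h | h
  · exact absurd (show z ^ i = 1 by rw [hmod, h, zpow_zero]) he1
  · exact Or.inl (by rw [h, zpow_one])
  · exact Or.inr (by rw [h]; exact eq_inv_of_mul_eq_one_left (by rw [← zpow_add_one]; exact h3))

section

variable (d : Data G)

theorem comm_map {m n : L35} (h : m * n = n * m) : d.φ m * d.φ n = d.φ n * d.φ m := by
  rw [← map_mul, h, map_mul]

theorem comm_of_map {m n : L35} (h : d.φ m * d.φ n = d.φ n * d.φ m) : m * n = n * m :=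
  d.φ_inj (by rw [map_mul, map_mul, h])

theorem z_cube : d.φ zL ^ 3 = 1 := by rw [← map_pow, vt_basic.2.2.2.2.1, map_one]

theorem z_ne : d.φ zL ≠ 1 := fun h => vt_basic.2.2.2.2.2.1 (d.φ_inj (by rw [h, map_one]))

theorem orderOf_z : orderOf (d.φ zL) = 3 := orderOf_eq_prime (z_cube d) (z_ne d)

theorem z_inv_ne : d.φ zL ≠ (d.φ zL)⁻¹ := fun h => z_ne d (by
  have h2 : d.φ zL ^ 2 = 1 := by rw [pow_two]; nth_rewrite 2 [h]; exact mul_inv_cancel _
  have h3 := z_cube d
  rwa [pow_succ, h2, one_mul] at h3)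

/-- An element sending `z` to itself or its inverse lies in the range. -/
theorem mem_range {g : G} (hg : g * d.φ zL * g⁻¹ = d.φ zL ∨ g * d.φ zL * g⁻¹ = (d.φ zL)⁻¹) :
    ∃ m, d.φ m = g := by
  show g ∈ d.φ.range
  rw [d.φ_range]
  refine mem_normalizer_fintype fun x hx => ?_
  obtain ⟨i, rfl⟩ := hx
  show g * d.φ zL ^ i * g⁻¹ ∈ zpowers _
  rw [← conj_zpow]
  rcases hg with e | e <;> rw [e]
  · exact zpow_mem (mem_zpowers _) i
  · exact zpow_mem (inv_mem (mem_zpowers _)) i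

theorem mem_CV {x : G} : x ∈ d.CV ↔ x * d.φ tL = d.φ tL * x ∧ x * d.φ vL = d.φ vL * x := by
  rw [Data.CV, mem_centralizer_iff]
  constructor
  · exact fun h => ⟨(h _ (Or.inl rfl)).symm, (h _ (Or.inr rfl)).symm⟩
  · rintro ⟨h1, h2⟩ y (rfl | rfl)
    exacts [h1.symm, h2.symm]

theorem CV_elem (h12 : Nat.card d.CV = 12) {x : G} (hx : x ∈ d.CV) :
    ∃ m, d.φ m = x ∧ m * tL = tL * m ∧ m * vL = vL * m ∧ m * zL = zL * m := by
  classical
  let := Fintype.ofFinite d.CV
  set U := Finset.univ.filter fun m : L35 => m * tL = tL * m ∧ m * vL = vL * m ∧ m * zL = zL * m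
  set W := (Finset.univ : Finset d.CV).image (Subtype.val : d.CV → G)
  have hsub : U.image d.φ ⊆ W := by
    intro y hy
    obtain ⟨m, hm, rfl⟩ := Finset.mem_image.1 hy
    obtain ⟨-, h1, h2, -⟩ := Finset.mem_filter.1 hm
    exact Finset.mem_image.2 ⟨⟨d.φ m, (mem_CV d).2 ⟨comm_map d h1, comm_map d h2⟩⟩, Finset.mem_univ _, rfl⟩
  have heq := Finset.eq_of_subset_of_card_le hsub (by
    rw [Finset.card_image_of_injective _ d.φ_inj, card_cv,
      Finset.card_image_of_injective _ Subtype.val_injective, Finset.card_univ, ← Nat.card_eq_fintype_card, h12])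
  have hxW : x ∈ W := Finset.mem_image.2 ⟨⟨x, hx⟩, Finset.mem_univ _, rfl⟩
  rw [← heq] at hxW
  obtain ⟨m, hm, rfl⟩ := Finset.mem_image.1 hxW
  obtain ⟨-, h1, h2, h3⟩ := Finset.mem_filter.1 hm
  exact ⟨m, rfl, h1, h2, h3⟩

/-- An involution centralising `z` is conjugate to `t`. -/
theorem invol_conj {u : G} (hu : u * u = 1) (hu1 : u ≠ 1) (huz : u * d.φ zL = d.φ zL * u) :
    IsConj u (d.φ tL) := by
  obtain ⟨m, rfl⟩ := mem_range d (Or.inl (mul_inv_eq_iff_eq_mul.2 huz))
  obtain ⟨n, hn⟩ := invol_z m (d.φ_inj (by rw [map_mul, hu, map_one])) (comm_of_map d huz)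
    fun h => hu1 (by rw [h, map_one])
  exact isConj_iff.2 ⟨d.φ n, by rw [← map_inv, ← map_mul, ← map_mul, hn]⟩

theorem not_nine (h12 : Nat.card d.CV = 12) :
    ¬ 9 ∣ Nat.card (centralizer ({d.φ tL} : Set G)) := by
  intro h9
  have : Fact (Nat.Prime 3) := ⟨Nat.prime_three⟩
  set H := centralizer ({d.φ tL} : Set G)
  have hzH : d.φ zL ∈ H := mem_centralizer_singleton_iff.2 (comm_map d (vt_basic.2.2.2.2.2.2.2.1).symm)
  obtain ⟨P, hP⟩ := (IsPGroup.of_card (p := 3) (n := 1) (by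
    rw [Nat.card_zpowers, Subgroup.orderOf_mk, orderOf_z, pow_one]) :
      IsPGroup 3 (zpowers (⟨d.φ zL, hzH⟩ : H))).exists_le_sylow
  obtain ⟨k, hk⟩ := P.2.exists_card_eq
  have hk2 : k = 2 := by
    have h1 : 3 ^ 2 ∣ Nat.card (P : Subgroup H) := P.pow_dvd_card_of_pow_dvd_card (by norm_num; exact h9)
    rw [hk, Nat.pow_dvd_pow_iff_le_right (by norm_num)] at h1
    by_contra hne
    refine d.sylow (dvd_trans ((show (27 : ℕ) = 3 ^ 3 by norm_num) ▸ pow_dvd_pow 3 (by omega : 3 ≤ k))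
      (hk ▸ (P : Subgroup H).card_subgroup_dvd_card.trans H.card_subgroup_dvd_card))
  have hab := IsPGroup.commutative_of_card_eq_prime_sq (p := 3) (hk2 ▸ hk)
  have hle : (P : Subgroup H).map H.subtype ≤ d.CV := by
    rintro _ ⟨x, hx, rfl⟩
    have h1 : (x : G) * d.φ tL = d.φ tL * x := mem_centralizer_singleton_iff.1 x.2
    have h2 : (x : G) * d.φ zL = d.φ zL * x := congrArg (fun q : (P : Subgroup H) => ((q : H) : G))
      (hab ⟨x, hx⟩ ⟨_, hP (mem_zpowers _)⟩)
    obtain ⟨m, hm⟩ := mem_range d (Or.inl (mul_inv_eq_iff_eq_mul.2 h2))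
    refine (mem_CV d).2 ⟨h1, ?_⟩
    show (x : G) * _ = _ * (x : G)
    rw [← hm] at h1 h2 ⊢
    exact comm_map d (cent_tz m (comm_of_map d h1) (comm_of_map d h2))
  have h3 := card_dvd_of_le hle
  rw [card_map_of_injective H.subtype_injective, hk, hk2, h12] at h3
  norm_num at h3

/-- An involution centralising `z a` moves `z` to `a` and is not conjugate to `t`. -/
theorem exists_swap (h12 : Nat.card d.CV = 12) : ∃ s : G, s * s = 1 ∧ s ≠ 1 ∧
    s * d.φ zL * s⁻¹ = d.φ aL ∧ ¬ IsConj s (d.φ tL) := by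
  classical
  have : Fact (Nat.Prime 2) := ⟨Nat.prime_two⟩
  have hza : d.φ zL * d.φ aL = d.φ (zL * aL) := (map_mul _ _ _).symm
  set K := centralizer ({d.φ zL * d.φ aL} : Set G) with hK
  obtain ⟨s', hs'⟩ := exists_prime_orderOf_dvd_card' (G := K) 2 (d.card_cent ▸ (by norm_num))
  set s : G := (s' : G) with hs
  have hs2 : orderOf s = 2 := by rw [hs, orderOf_coe]; exact hs'
  have hss : s * s = 1 := by rw [← pow_two, ← hs2, pow_orderOf_eq_one]
  have hs1 : s ≠ 1 := fun h => by rw [h, orderOf_one] at hs2; omega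
  have hsK : s * (d.φ zL * d.φ aL) = d.φ zL * d.φ aL * s := mem_centralizer_singleton_iff.1 s'.2
  -- `D` is the normal subgroup of index two
  set E := (centralizer ({zL * aL} : Set L35)).map d.φ with hE
  have hzE : d.φ zL ∈ E := by
    refine ⟨zL, mem_centralizer_singleton_iff.2 ?_, rfl⟩
    rw [← mul_assoc, mul_assoc zL aL zL, ← vt_basic.2.2.2.2.2.2.2.2.1, mul_assoc]
  have hzK : d.φ zL ∈ K := mem_centralizer_singleton_iff.2 (by
    rw [hza]; exact comm_map d (by rw [← mul_assoc, mul_assoc zL aL zL, ← vt_basic.2.2.2.2.2.2.2.2.1, mul_assoc]))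
  have hEK : E ≤ K := by
    rintro _ ⟨m, hm, rfl⟩
    exact mem_centralizer_singleton_iff.2 (by rw [hza]; exact comm_map d (mem_centralizer_singleton_iff.1 hm))
  have hKcube : ∀ x ∈ K, x * d.φ zL * x⁻¹ = d.φ zL ∨ x * d.φ zL * x⁻¹ = (d.φ zL)⁻¹ → x ^ 3 = 1 := by
    intro x hx hxz
    obtain ⟨m, rfl⟩ := mem_range d hxz
    have h := comm_of_map d (hza ▸ mem_centralizer_singleton_iff.1 hx)
    rw [← map_pow, (cent_za m h).1, map_one]
  have hnorm : s * d.φ zL * s⁻¹ ∈ E := by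
    -- the elements of `K` of order three form a subgroup of index two
    have hE9 : 9 ∣ Nat.card E := by
      have hP : IsPGroup 3 (centralizer ({zL * aL} : Set L35)) := fun x =>
        ⟨1, Subtype.ext (by rw [pow_one]; exact (cent_za x (mem_centralizer_singleton_iff.1 x.2)).1)⟩
      have : Fact (Nat.Prime 3) := ⟨Nat.prime_three⟩
      obtain ⟨k, hk⟩ := hP.exists_card_eq
      rw [hE, card_map_of_injective d.φ_inj, hk]
      have hle : ({1, zL, zL⁻¹, aL} : Finset L35) ⊆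
          Finset.univ.filter fun m => m ∈ centralizer ({zL * aL} : Set L35) := by
        intro m hm
        refine Finset.mem_filter.2 ⟨Finset.mem_univ _, mem_centralizer_singleton_iff.2 ?_⟩
        have hc : Commute zL aL := vt_basic.2.2.2.2.2.2.2.2.1
        simp only [Finset.mem_insert, Finset.mem_singleton] at hm
        rcases hm with rfl | rfl | rfl | rfl
        · exact (Commute.one_left _).eq
        · exact ((Commute.refl zL).mul_right hc).eq
        · exact ((Commute.refl zL).mul_right hc).inv_left.eq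
        · exact (hc.symm.mul_right (Commute.refl aL)).eq
      have h4 := Finset.card_le_card hle
      rw [show ({1, zL, zL⁻¹, aL} : Finset L35).card = 4 by decide +kernel, ← Fintype.card_subtype,
        ← Nat.card_eq_fintype_card] at h4
      have hk' : 4 ≤ 3 ^ k := hk ▸ h4
      rcases (by omega : k ≤ 1 ∨ 2 ≤ k) with h | h
      · have := Nat.pow_le_pow_right (show 0 < 3 by norm_num) h; omega
      · exact (show (9 : ℕ) = 3 ^ 2 by norm_num) ▸ pow_dvd_pow 3 h
    have hidx : (E.subgroupOf K).index ∣ 2 := by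
      have h := (E.subgroupOf K).index_mul_card
      rw [d.card_cent, Nat.card_congr (subgroupOfEquivOfLe hEK).toEquiv] at h
      obtain ⟨j, hj⟩ := hE9
      rw [hj] at h
      exact ⟨j, by rw [mul_left_comm] at h; omega⟩
    haveI hn : (E.subgroupOf K).Normal := by
      rcases (Nat.dvd_prime Nat.prime_two).1 hidx with h | h
      · rw [index_eq_one.1 h]; infer_instance
      · exact normal_of_index_eq_two h
    exact hn.conj_mem ⟨d.φ zL, hzK⟩ hzE s'
  obtain ⟨m, hm, he⟩ := hnorm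
  have hm' : m * (zL * aL) = zL * aL * m := mem_centralizer_singleton_iff.1 hm
  obtain ⟨hm3, hmcase⟩ := cent_za m hm'
  have hnot : ∀ e, (e = d.φ zL ∨ e = (d.φ zL)⁻¹) → s * d.φ zL * s⁻¹ ≠ e := by
    intro e he' heq
    have h3 : s ^ 3 = 1 := hKcube s s'.2 (by rcases he' with r' | r' <;> rw [heq, r'] <;> simp)
    refine hs1 ?_
    rwa [pow_succ, pow_two, hss, one_mul] at h3
  have hswap : s * d.φ zL * s⁻¹ = d.φ aL := by
    rcases hmcase with e | e | e | e | e | ⟨n, hn⟩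
    · exfalso
      rw [e, map_one] at he
      exact z_ne d (conj_eq_one_iff.1 he.symm)
    · exact absurd he.symm (hnot _ (Or.inl (congrArg d.φ e)))
    · exact absurd he.symm (hnot _ (Or.inr (by rw [e, map_inv])))
    · rw [← he, e]
    · exfalso
      rw [e, map_inv] at he
      have h1 : s * d.φ aL * s⁻¹ = (d.φ zL)⁻¹ := by
        rw [show d.φ aL = (s * d.φ zL * s⁻¹)⁻¹ by rw [← he, inv_inv]]
        calc s * (s * d.φ zL * s⁻¹)⁻¹ * s⁻¹ = s * s * (d.φ zL)⁻¹ * (s * s)⁻¹ := by group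
          _ = (d.φ zL)⁻¹ := by rw [hss, one_mul, inv_one, mul_one]
      have h2 : (d.φ aL)⁻¹ * (d.φ zL)⁻¹ = d.φ zL * d.φ aL := by
        conv_lhs => rw [← h1]; rw [he]
        calc s * d.φ zL * s⁻¹ * (s * d.φ aL * s⁻¹) = s * (d.φ zL * d.φ aL) * s⁻¹ := by group
          _ = d.φ zL * d.φ aL := mul_inv_eq_iff_eq_mul.2 hsK
      have h3 : d.φ (zL * aL) * d.φ (zL * aL) = d.φ 1 := by
        rw [← hza, map_one]
        calc d.φ zL * d.φ aL * (d.φ zL * d.φ aL) = (d.φ aL)⁻¹ * (d.φ zL)⁻¹ * (d.φ zL * d.φ aL) := by rw [h2]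
          _ = 1 := by group
      rw [← map_mul] at h3
      exact absurd (d.φ_inj h3) (by decide +kernel)
    · exfalso
      -- then `z` would have a centraliser of order eighteen
      have hconj : ∃ g : G, g * d.φ zL * g⁻¹ = d.φ zL * d.φ aL ∨ g * d.φ zL * g⁻¹ = (d.φ zL * d.φ aL)⁻¹ := by
        refine ⟨d.φ n * s, ?_⟩
        rw [show d.φ n * s * d.φ zL * (d.φ n * s)⁻¹ = d.φ n * (s * d.φ zL * s⁻¹) * (d.φ n)⁻¹ by group,
          ← he, ← map_inv, ← map_mul, ← map_mul, hza, ← map_inv]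
        exact hn.imp (congrArg _) (congrArg _)
      obtain ⟨g, hg⟩ := hconj
      have hle : d.CV.map (MulAut.conj g).toMonoidHom ≤ K := by
        rintro _ ⟨x, hx, rfl⟩
        obtain ⟨mx, rfl, -, -, h3⟩ := CV_elem d h12 hx
        refine mem_centralizer_singleton_iff.2 ?_
        have h := (show Commute (d.φ mx) (d.φ zL) from comm_map d h3).map (MulAut.conj g).toMonoidHom
        change Commute _ (g * d.φ zL * g⁻¹) at h
        rcases hg with r' | r' <;> rw [r'] at h
        · exact h.eq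
        · exact (Commute.inv_right_iff.1 h).eq
      have h := card_dvd_of_le hle
      rw [card_map_of_injective (MulAut.conj g).injective, h12, hK, d.card_cent] at h
      norm_num at h
  refine ⟨s, hss, hs1, hswap, fun hconj => ?_⟩
  -- the elements of order three centralising `t` are conjugate to `z`
  obtain ⟨g, hg⟩ := isConj_iff.1 hconj
  set e := g * (d.φ zL * d.φ aL) * g⁻¹ with he'
  have heo : orderOf e = 3 := by
    refine orderOf_eq_prime ?_ fun h => ?_
    · rw [he', conj_pow, hza, ← map_pow, (cent_za (zL * aL) rfl).1, map_one, mul_one, mul_inv_cancel]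
    · rw [he', conj_eq_one_iff, hza, ← map_one d.φ] at h
      exact absurd (d.φ_inj h) (by decide +kernel)
  have heH : e ∈ centralizer ({d.φ tL} : Set G) := by
    rw [mem_centralizer_singleton_iff, ← hg, he']
    exact ((show Commute s (d.φ zL * d.φ aL) from hsK).symm.map (MulAut.conj g).toMonoidHom).eq
  obtain ⟨h, -, hh⟩ := conj_three _ (not_nine d h12) heH
    (mem_centralizer_singleton_iff.2 (comm_map d vt_basic.2.2.2.2.2.2.2.1.symm)) heo (orderOf_z d)
  have hne : h * e * h⁻¹ ≠ 1 := fun h' => by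
    rw [conj_eq_one_iff.1 h', orderOf_one] at heo; omega
  have hle : d.CV.map (MulAut.conj (h * g)⁻¹).toMonoidHom ≤ K := by
    rintro _ ⟨x, hx, rfl⟩
    obtain ⟨mx, rfl, -, -, h3⟩ := CV_elem d h12 hx
    refine mem_centralizer_singleton_iff.2 ?_
    have hcx : Commute (d.φ mx) (h * e * h⁻¹) := by
      rcases eq_or_inv_of_zpowers (z_cube d) hh hne with r' | r' <;> rw [r']
      · exact comm_map d h3
      · exact Commute.inv_right (comm_map d h3)
    have := hcx.map (MulAut.conj (h * g)⁻¹).toMonoidHom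
    change Commute _ ((h * g)⁻¹ * (h * e * h⁻¹) * ((h * g)⁻¹)⁻¹) at this
    rw [he', show (h * g)⁻¹ * (h * (g * (d.φ zL * d.φ aL) * g⁻¹) * h⁻¹) * ((h * g)⁻¹)⁻¹ =
      d.φ zL * d.φ aL by group] at this
    exact this.eq
  have h' := card_dvd_of_le hle
  rw [card_map_of_injective (MulAut.conj _).injective, h12, hK, d.card_cent] at h'
  norm_num at h'

end

end BadAux

open BadAux in
theorem bad : BadStmt.{u} := by
  intro G _ _ d h12
  classical
  have h2f : Fact (Nat.Prime 2) := ⟨Nat.prime_two⟩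
  obtain ⟨htt, hvv, htn, hvn, -, -, hvz, htz, -, -, htv⟩ := vt_basic
  obtain ⟨s, hss, hs1, hsw, hnst⟩ := exists_swap d h12
  set t := d.φ tL with ht
  set v := d.φ vL with hv
  set r := d.φ rL with hr
  set z := d.φ zL with hz
  have ht2 : t * t = 1 := by rw [ht, ← map_mul, htt, map_one]
  have hv2 : v * v = 1 := by rw [hv, ← map_mul, hvv, map_one]
  have hr2 : r * r = 1 := by rw [hr, ← map_mul, rL_sq, map_one]
  have ht1 : t ≠ 1 := fun h => htn (d.φ_inj (by rw [map_one]; exact h))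
  have hv1 : v ≠ 1 := fun h => hvn (d.φ_inj (by rw [map_one]; exact h))
  have hrvr : r * v * r⁻¹ = t * v := by rw [hr, hv, ht, ← map_inv, ← map_mul, ← map_mul, rL_v, map_mul]
  have hrzr : r * z * r⁻¹ = z⁻¹ := by rw [hr, hz, ← map_inv, ← map_mul, ← map_mul, rL_z, map_inv]
  have hrt : r * t = t * r := comm_map d rL_t
  have hvt : v * t = t * v := comm_map d htv.symm
  have hconjt : ∀ x u : G, IsConj u t → IsConj (x * u * x⁻¹) t := fun x u h =>
    (isConj_iff.2 ⟨x, rfl⟩ : IsConj u (x * u * x⁻¹)).symm.trans h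
  have hvP : IsConj v t := invol_conj d hv2 hv1 (comm_map d hvz)
  have hrP : IsConj r t := by
    obtain ⟨n, hn⟩ := bL_conj
    set g := d.φ n * s with hg
    have hga : g * z * g⁻¹ = d.φ bL := by
      rw [hg, show d.φ n * s * z * (d.φ n * s)⁻¹ = d.φ n * (s * z * s⁻¹) * (d.φ n)⁻¹ by group, hsw, ← map_inv,
        ← map_mul, ← map_mul, hn]
    have hc : Commute (g⁻¹ * r * g) z := by
      have h : Commute r (g * z * g⁻¹) := by rw [hga]; exact comm_map d rL_b
      have h' := h.map (MulAut.conj g⁻¹).toMonoidHom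
      change Commute (g⁻¹ * r * g⁻¹⁻¹) (g⁻¹ * (g * z * g⁻¹) * g⁻¹⁻¹) at h'
      rw [inv_inv, show g⁻¹ * (g * z * g⁻¹) * g = z by group] at h'
      exact h'
    have h1 := invol_conj d (u := g⁻¹ * r * g) (by
      calc g⁻¹ * r * g * (g⁻¹ * r * g) = g⁻¹ * (r * r) * g := by group
        _ = 1 := by rw [hr2]; group) (fun h => rL_ne (d.φ_inj (by
          rw [map_one]
          calc d.φ rL = g * (g⁻¹ * r * g) * g⁻¹ := by rw [hr]; group
            _ = 1 := by rw [h]; group))) hc.eq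
    have := hconjt g _ h1
    rwa [show g * (g⁻¹ * r * g) * g⁻¹ = r by group] at this
  set H := centralizer ({t} : Set G) with hH
  have hmemH : ∀ {g : G}, g ∈ H ↔ g * t = t * g := mem_centralizer_singleton_iff
  have htH : t ∈ H := hmemH.2 rfl
  have hvH : v ∈ H := hmemH.2 hvt
  have hrH : r ∈ H := hmemH.2 hrt
  have hzH : z ∈ H := hmemH.2 (comm_map d htz.symm)
  set rv : H := ⟨r, hrH⟩ * ⟨v, hvH⟩ with hrv
  have hrv2 : (rv : G) * rv = t := by
    show r * v * (r * v) = t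
    calc r * v * (r * v) = r * v * r⁻¹ * (r * r) * v := by group
      _ = t := by rw [hrvr, hr2, mul_one, mul_assoc, hv2, mul_one]
  have hrv4 : rv ^ 4 = 1 := Subtype.ext (by
    show (rv : G) ^ 4 = 1
    rw [show (4 : ℕ) = 2 * 2 from rfl, pow_mul, pow_two, pow_two, hrv2, ht2])
  have hrvinv : (⟨r, hrH⟩ : H) * rv * (⟨r, hrH⟩ : H)⁻¹ = rv⁻¹ := by
    rw [eq_inv_iff_mul_eq_one]
    refine Subtype.ext ?_
    show r * (r * v) * r⁻¹ * (r * v) = 1
    calc r * (r * v) * r⁻¹ * (r * v) = r * r * (v * v) := by group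
      _ = 1 := by rw [hr2, hv2, mul_one]
  have hB : IsPGroup 2 (zpowers rv ⊔ zpowers (⟨r, hrH⟩ : H) : Subgroup H) := by
    refine IsPGroup.to_sup_of_normal_left' ?_ ?_ (zpowers_le.2 (mem_normalizer_fintype fun x hx => ?_))
    · obtain ⟨j, -, hj⟩ := (Nat.dvd_prime_pow Nat.prime_two).1
        (orderOf_dvd_of_pow_eq_one (show rv ^ 2 ^ 2 = 1 from hrv4))
      exact IsPGroup.of_card (n := j) (by rw [Nat.card_zpowers, hj])
    · refine IsPGroup.of_card (n := 1) ?_
      rw [Nat.card_zpowers, pow_one, Subgroup.orderOf_mk]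
      exact orderOf_eq_prime (by rw [pow_two, hr2]) fun h => rL_ne (d.φ_inj (by rw [map_one]; exact h))
    · obtain ⟨i, rfl⟩ := hx
      show _ * rv ^ i * _ ∈ zpowers rv
      rw [← conj_zpow, hrvinv]
      exact zpow_mem (inv_mem (mem_zpowers _)) i
  obtain ⟨S, hBS⟩ := hB.exists_le_sylow
  have hrS : (⟨r, hrH⟩ : H) ∈ (S : Subgroup H) := hBS (mem_sup_right (mem_zpowers _))
  have hvS : (⟨v, hvH⟩ : H) ∈ (S : Subgroup H) := by
    have h := mul_mem (inv_mem hrS) (hBS (mem_sup_left (mem_zpowers rv)))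
    rwa [hrv, inv_mul_cancel_left] at h
  have htS : (⟨t, htH⟩ : H) ∈ (S : Subgroup H) := by
    have h := mul_mem (hBS (mem_sup_left (mem_zpowers rv))) (hBS (mem_sup_left (mem_zpowers rv)))
    rwa [show rv * rv = ⟨t, htH⟩ from Subtype.ext hrv2] at h
  have hrv' : r * v ≠ v * r := fun h => ht1 (by
    rw [h, mul_inv_cancel_right] at hrvr; exact mul_eq_right.1 hrvr.symm)
  have hcv : ∀ u : (S : Subgroup H), ((u : H) : G) * v = v * ((u : H) : G) →
      ((u : H) : G) = 1 ∨ ((u : H) : G) = t ∨ ((u : H) : G) = v ∨ ((u : H) : G) = t * v := by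
    intro u hu
    have huCV : ((u : H) : G) ∈ d.CV := (mem_CV d).2 ⟨hmemH.1 (u : H).2, hu⟩
    obtain ⟨m, hm, h1, h2, h3⟩ := CV_elem d h12 huCV
    obtain ⟨k, hk⟩ := S.2 u
    have hd1 : orderOf m ∣ 2 ^ k := by
      rw [← orderOf_injective d.φ d.φ_inj, hm]
      exact orderOf_dvd_of_pow_eq_one (congrArg (fun q : (S : Subgroup H) => ((q : H) : G)) hk)
    have hd2 : orderOf m ∣ 12 := by
      rw [← orderOf_injective d.φ d.φ_inj, hm, ← h12]
      exact d.CV.orderOf_dvd_natCard huCV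
    have hd4 : orderOf m ∣ 4 := by
      obtain ⟨j, -, hj⟩ := (Nat.dvd_prime_pow Nat.prime_two).1 hd1
      rw [hj] at hd2 ⊢
      exact (Nat.Coprime.pow_left j (by norm_num)).dvd_of_dvd_mul_left (m := 3) (by norm_num; exact hd2)
    rcases cent_v_four m h1 h2 (orderOf_dvd_iff_pow_eq_one.1 hd4) h3 with e | e | e | e <;> subst e <;> rw [← hm]
    · exact Or.inl (map_one _)
    · exact Or.inr (Or.inl rfl)
    · exact Or.inr (Or.inr (Or.inl rfl))
    · exact Or.inr (Or.inr (Or.inr (map_mul _ _ _)))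
  -- `S` is a Sylow subgroup of `G`
  set S₀ := (S : Subgroup H).map H.subtype with hS₀
  obtain ⟨P₀, hP₀⟩ := (S.2.map H.subtype).exists_le_sylow
  have hSeq : (P₀ : Subgroup G) ≤ S₀ := by
    by_contra hle
    haveI : Group.IsNilpotent (P₀ : Subgroup G) := P₀.2.isNilpotent
    have hlt : S₀.subgroupOf (P₀ : Subgroup G) < ⊤ := lt_top_iff_ne_top.2 fun h =>
      hle (subgroupOf_eq_top.1 h)
    obtain ⟨x, hx, hxS⟩ := SetLike.exists_of_lt (Group.normalizerCondition_of_isNilpotent _ hlt)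
    have hxn : ∀ y ∈ S₀, (x : G) * y * (x : G)⁻¹ ∈ S₀ := fun y hy =>
      (mem_normalizer_iff.1 hx ⟨y, hP₀ hy⟩).1 hy
    obtain ⟨u, huS, hu⟩ := hxn t ⟨_, htS, rfl⟩
    have hu' : (u : G) = x * t * (x : G)⁻¹ := hu
    have hcomm : ∀ y : H, y ∈ (S : Subgroup H) → (u : G) * y = y * u := by
      intro y hy
      obtain ⟨y₁, hy₁S, hy₁⟩ : (x : G)⁻¹ * y * x ∈ S₀ := by
        have hx' : x⁻¹ ∈ normalizer (S₀.subgroupOf (P₀ : Subgroup G) : Set (P₀ : Subgroup G)) := inv_mem hx
        have := (mem_normalizer_iff.1 hx' ⟨y, hP₀ ⟨y, hy, rfl⟩⟩).1 ⟨y, hy, rfl⟩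
        rw [mem_subgroupOf] at this
        simpa using this
      have hy₁' : (y₁ : G) = (x : G)⁻¹ * y * x := hy₁
      have h := hmemH.1 y₁.2
      rw [hy₁'] at h
      rw [hu']
      calc (x : G) * t * (x : G)⁻¹ * y = x * (t * ((x : G)⁻¹ * y * x)) * (x : G)⁻¹ := by group
        _ = y * (x * t * (x : G)⁻¹) := by rw [← h]; group
    have hut : (u : G) = t := by
      have hcr := hcomm _ hrS
      rcases hcv ⟨u, huS⟩ (hcomm _ hvS) with e | e | e | e <;> simp only at e
      · exact absurd (conj_eq_one_iff.1 (hu'.symm.trans e)) ht1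
      · exact e
      · exact absurd (by rw [e] at hcr; exact hcr.symm) hrv'
      · refine absurd ?_ hrv'
        rw [e] at hcr
        have h1 : t * (v * r) = t * (r * v) := by
          rw [← mul_assoc, hcr, ← mul_assoc, hrt, mul_assoc]
        exact (mul_left_cancel h1).symm
    have hxH : (x : G) ∈ H := hmemH.2 (mul_inv_eq_iff_eq_mul.1 (hu' ▸ hut))
    have hSP : (S : Subgroup H) ≤ (P₀ : Subgroup G).subgroupOf H := fun y hy => hP₀ ⟨y, hy, rfl⟩
    have heq := S.3 (P₀.2.comap_of_injective H.subtype H.subtype_injective) hSP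
    exact hxS ⟨⟨x, hxH⟩, heq ▸ (x.2 : (x : G) ∈ (P₀ : Subgroup G)), rfl⟩
  -- an involution not conjugate to `t`
  obtain ⟨Ps, hPs⟩ := (IsPGroup.of_card (p := 2) (n := 1) (by
    rw [Nat.card_zpowers, pow_one]; exact orderOf_eq_prime (by rw [pow_two, hss]) hs1) :
      IsPGroup 2 (zpowers s)).exists_le_sylow
  obtain ⟨g₀, hg₀⟩ := MulAction.exists_smul_eq G Ps P₀
  obtain ⟨w, hwS, hw⟩ : g₀ * s * g₀⁻¹ ∈ S₀ := hSeq (by
    rw [← hg₀]; exact Subgroup.smul_mem_pointwise_smul _ _ _ (hPs (mem_zpowers _)))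
  have hw' : (w : G) = g₀ * s * g₀⁻¹ := hw
  let dd : TwoData (S : Subgroup H) :=
    { pg := S.2
      t := ⟨_, htS⟩
      v := ⟨_, hvS⟩
      r := ⟨_, hrS⟩
      w := ⟨w, hwS⟩
      P := fun u => IsConj ((u : H) : G) t
      P_conj := fun x u h => hconjt _ _ h
      Pt := IsConj.refl t
      Pv := hvP
      w_notP := fun h => hnst (by
        have h' : IsConj (w : G) t := h
        have h2 := hconjt g₀⁻¹ _ h'
        rwa [hw', show g₀⁻¹ * (g₀ * s * g₀⁻¹) * g₀⁻¹⁻¹ = s by group] at h2)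
      t_cen := fun u => Subtype.ext (Subtype.ext (hmemH.1 (u : H).2))
      t_sq := Subtype.ext (Subtype.ext ht2)
      t_ne := fun h => ht1 (congrArg (fun q : (S : Subgroup H) => ((q : H) : G)) h)
      v_sq := Subtype.ext (Subtype.ext hv2)
      w_sq := Subtype.ext (Subtype.ext (by
        show (w : G) * w = 1
        rw [hw', conj_carry, hss, mul_one, mul_inv_cancel]))
      w_ne := fun h => hs1 (by
        have h' : (w : G) = 1 := congrArg (fun q : (S : Subgroup H) => ((q : H) : G)) h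
        exact conj_eq_one_iff.1 (hw'.symm.trans h'))
      rv := Subtype.ext (Subtype.ext hrvr)
      cv := fun u hu => by
        rcases hcv u (congrArg (fun q : (S : Subgroup H) => ((q : H) : G)) hu) with e | e | e | e
        · exact Or.inl (Subtype.ext (Subtype.ext e))
        · exact Or.inr (Or.inl (Subtype.ext (Subtype.ext e)))
        · exact Or.inr (Or.inr (Or.inl (Subtype.ext (Subtype.ext e))))
        · exact Or.inr (Or.inr (Or.inr (Subtype.ext (Subtype.ext e)))) }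
  obtain ⟨⟨Q, hQ⟩, hclass⟩ := two_main S dd (fun u : H => IsConj (u : G) t) (fun _ => Iff.rfl)
    (fun x u h => hconjt _ _ h) (fun x => Subtype.ext (hmemH.1 x.2))
  obtain ⟨x, hx⟩ := (hclass ⟨_, hrS⟩ (Subtype.ext (Subtype.ext hr2))
    (fun h => rL_ne (d.φ_inj (by rw [map_one]; exact congrArg (fun q : (S : Subgroup H) => ((q : H) : G)) h)))
    hrP).resolve_left fun h => by
      have h' : r = t := congrArg (fun q : (S : Subgroup H) => ((q : H) : G)) h
      exact hrv' (by rw [h', hvt])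
  set X : G := ((x : H) : G) with hX
  have hx' : X * v * X⁻¹ = r := congrArg (fun q : (S : Subgroup H) => ((q : H) : G)) hx
  set z' : H := (x : H) * ⟨z, hzH⟩ * (x : H)⁻¹ with hz'
  have hoz : ∀ y : H, orderOf (y : G) = 3 → y ∈ Q := fun y hy => (hQ y).2 (by
    rw [← orderOf_coe, hy]; decide)
  have hzo : orderOf (z' : G) = 3 := by
    rw [← orderOf_z d]; exact (MulAut.conj X).orderOf_eq z
  set Q₀ := Q.map H.subtype with hQ₀
  have h9 : ¬ 9 ∣ Nat.card Q₀ := fun h => not_nine d h12 (h.trans (card_dvd_of_le (map_subtype_le Q)))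
  obtain ⟨g, ⟨g', hg'Q, rfl⟩, hg⟩ := conj_three Q₀ h9 (a := (z' : G)) (b := z)
    ⟨z', hoz z' hzo, rfl⟩ ⟨⟨z, hzH⟩, hoz _ (orderOf_z d), rfl⟩ hzo (orderOf_z d)
  set g : G := (g' : G) with hgdef
  have hgz : g * (z' : G) * g⁻¹ = z ∨ g * (z' : G) * g⁻¹ = z⁻¹ :=
    eq_or_inv_of_zpowers (z_cube d) hg fun h => by
      have h' := conj_eq_one_iff.1 h
      rw [h', orderOf_one] at hzo; omega
  set y : H := g' * (⟨r, hrH⟩ * g'⁻¹ * (⟨r, hrH⟩ : H)⁻¹) with hy
  have hyQ : y ∈ Q := mul_mem hg'Q ((hQ _).2 (by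
    rw [show orderOf ((⟨r, hrH⟩ : H) * g'⁻¹ * (⟨r, hrH⟩ : H)⁻¹) = orderOf g'⁻¹ from
      (MulAut.conj _).orderOf_eq _, orderOf_inv]
    exact (hQ g').1 hg'Q))
  have hr'z : Commute (g * r * g⁻¹) z := by
    have h1 : Commute r (z' : G) := by
      rw [← hx']
      exact (show Commute v z from comm_map d hvz).map (MulAut.conj X).toMonoidHom
    have h2 : Commute (g * r * g⁻¹) (g * (z' : G) * g⁻¹) := h1.map (MulAut.conj g).toMonoidHom
    rcases hgz with e | e <;> rw [e] at h2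
    · exact h2
    · exact Commute.inv_right_iff.1 h2
  have hyz : (y : G) * z * (y : G)⁻¹ = z⁻¹ := by
    show g * (r * g⁻¹ * r⁻¹) * z * (g * (r * g⁻¹ * r⁻¹))⁻¹ = z⁻¹
    calc g * (r * g⁻¹ * r⁻¹) * z * (g * (r * g⁻¹ * r⁻¹))⁻¹
        = g * r * g⁻¹ * (r⁻¹ * z * r) * (g * r * g⁻¹)⁻¹ := by group
      _ = g * r * g⁻¹ * z⁻¹ * (g * r * g⁻¹)⁻¹ := by
        congr 2
        calc r⁻¹ * z * r = r⁻¹ * (r * z⁻¹ * r⁻¹) * r := by
              rw [show r * z⁻¹ * r⁻¹ = (r * z * r⁻¹)⁻¹ by group, hrzr, inv_inv]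
          _ = z⁻¹ := by group
      _ = z⁻¹ := mul_inv_eq_iff_eq_mul.2 hr'z.inv_right.eq
  obtain ⟨m, hm⟩ := mem_range d (Or.inr hyz)
  have hmt : m * tL = tL * m := comm_of_map d (by rw [hm]; exact hmemH.1 y.2)
  have hmodd : Odd (orderOf m) := by
    rw [← orderOf_injective d.φ d.φ_inj, hm, orderOf_coe]; exact (hQ y).1 hyQ
  obtain ⟨j, hj⟩ := exists_pow_eq_self_of_coprime ((Nat.coprime_two_left.2 hmodd).pow_left 2)
  have hmz : Commute m zL := by
    rw [← hj]
    refine Commute.pow_left ?_ j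
    rcases cent_t_pow m hmt with e | e | e <;> rw [show (2 : ℕ) ^ 2 = 4 from rfl, e]
    · exact Commute.one_left _
    · exact Commute.refl zL
    · exact (Commute.refl zL).inv_left
  refine z_inv_ne d ?_
  rw [← hyz, ← hm, hz, comm_map d hmz.eq, mul_inv_cancel_right]

end Cfsg.Agent.Lib.AltEightThree6
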