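import Cfsg.Agent.Lib.Involution.ThompsonTransfer

/-!
# S3329, brick Bad: two-groups with an involution of centraliser order four, and transfer
-/

set_option autoImplicit false

namespace Cfsg.Agent.Lib.AltEightThree6.BadAux

open Subgroup

theorem conj_carry {T : Type*} [Group T] (x a : T) : x * a * x⁻¹ * (x * a * x⁻¹) = x * (a * a) * x⁻¹ := by
  group

/-- In a finite two-group the derived subgroup consists of non-generators. -/
theorem commutator_le_frattini_two {T : Type*} [Group T] [Finite T] (hT : IsPGroup 2 T) :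
    _root_.commutator T ≤ frattini T := by
  have : Fact (Nat.Prime 2) := ⟨Nat.prime_two⟩
  haveI : Group.IsNilpotent T := hT.isNilpotent
  refine le_iInf₂ fun M hM => ?_
  haveI : M.Normal := Subgroup.NormalizerCondition.normal_of_coatom M
    Group.normalizerCondition_of_isNilpotent hM
  haveI : IsSimpleGroup (T ⧸ M) := by
    haveI : Nontrivial (T ⧸ M) := QuotientGroup.nontrivial_iff.2 hM.1
    refine ⟨fun K _ => ?_⟩
    rcases eq_or_ne (K.comap (QuotientGroup.mk' M)) M with h | h
    · left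
      rw [← Subgroup.map_comap_eq_self_of_surjective (QuotientGroup.mk'_surjective M) K, h,
        QuotientGroup.map_mk'_self]
    · right
      have hle : M ≤ K.comap (QuotientGroup.mk' M) := QuotientGroup.le_comap_mk' M K
      rw [← Subgroup.map_comap_eq_self_of_surjective (QuotientGroup.mk'_surjective M) K,
        hM.2 _ (lt_of_le_of_ne hle h.symm), Subgroup.map_top_of_surjective _ (QuotientGroup.mk'_surjective M)]
  haveI : Nontrivial (T ⧸ M) := QuotientGroup.nontrivial_iff.2 hM.1
  refine Subgroup.Normal.quotient_commutative_iff_commutator_le.1 ?_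
  have h1 : Subgroup.center (T ⧸ M) = ⊤ :=
    ((IsSimpleGroup.eq_bot_or_eq_top_of_normal _ inferInstance).resolve_left
      (nontrivial_iff_ne_bot _ |>.1 (hT.to_quotient M).center_nontrivial))
  exact ⟨⟨fun a b => (Subgroup.mem_center_iff.1 (h1 ▸ Subgroup.mem_top b) a)⟩⟩

section Two

variable {T : Type*} [Group T] [Finite T]

/-- The hypotheses: `P` stands for the class of `t` in a larger group. -/
structure TwoData (T : Type*) [Group T] where
  pg : IsPGroup 2 T
  t : T
  v : T
  r : T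
  w : T
  P : T → Prop
  P_conj : ∀ x u, P u → P (x * u * x⁻¹)
  Pt : P t
  Pv : P v
  w_notP : ¬ P w
  t_cen : ∀ u, u * t = t * u
  t_sq : t * t = 1
  t_ne : t ≠ 1
  v_sq : v * v = 1
  w_sq : w * w = 1
  w_ne : w ≠ 1
  rv : r * v * r⁻¹ = t * v
  cv : ∀ u, u * v = v * u → u = 1 ∨ u = t ∨ u = v ∨ u = t * v

variable (d : TwoData T)

theorem TwoData.t_mem_commutator : d.t ∈ _root_.commutator T := by
  have h : d.t = d.r * d.v * d.r⁻¹ * d.v⁻¹ := by
    rw [d.rv, inv_eq_of_mul_eq_one_right d.v_sq, mul_assoc, d.v_sq, mul_one]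
  rw [h]
  exact commutator_mem_commutator (mem_top _) (mem_top _)

theorem TwoData.noncomm (d : TwoData T) {c : T} (hc : ∀ u, u ∈ zpowers c) : False := by
  obtain ⟨i, hi⟩ := hc d.r
  obtain ⟨j, hj⟩ := hc d.v
  refine d.t_ne ?_
  have h : Commute d.r d.v := hi ▸ hj ▸ (Commute.refl c).zpow_zpow i j
  have h1 := d.rv
  rw [h.eq, mul_inv_cancel_right] at h1
  exact mul_eq_right.1 h1.symm

/-- The structure: dihedral. -/
theorem TwoData.dihedral : ∃ c : T, d.v = c * d.w ∧ d.w * c * d.w⁻¹ = c⁻¹ ∧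
    (∀ g : T, ∃ k : ℤ, g = c ^ k ∨ g = c ^ k * d.w) ∧ d.t ∈ zpowers c ∧
    (_root_.commutator T).index = 4 := by
  classical
  have : Fact (Nat.Prime 2) := ⟨Nat.prime_two⟩
  set A := _root_.commutator T with hA
  haveI : A.Normal := by rw [hA]; infer_instance
  set Cv := centralizer ({d.v} : Set T) with hCv
  have hcard4 : Nat.card Cv ≤ 4 := by
    let := Fintype.ofFinite Cv
    rw [Nat.card_eq_fintype_card, ← Finset.card_univ]
    refine (Finset.card_le_card_of_injOn (fun u : Cv => (u : T)) (t := {1, d.t, d.v, d.t * d.v}) ?_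
      (Set.injOn_of_injective Subtype.val_injective)).trans Finset.card_le_four
    intro u _
    rcases d.cv u (mem_centralizer_singleton_iff.1 u.2) with e | e | e | e <;> simp [e]
  let f : T ⧸ Cv → A := Quotient.lift
    (fun x => ⟨x * d.v * x⁻¹ * d.v⁻¹, commutator_mem_commutator (mem_top x) (mem_top d.v)⟩) fun a b hab => by
      have h : a⁻¹ * b ∈ Cv := QuotientGroup.leftRel_apply.1 hab
      rw [mem_centralizer_singleton_iff] at h
      refine Subtype.ext ?_
      show a * d.v * a⁻¹ * d.v⁻¹ = b * d.v * b⁻¹ * d.v⁻¹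
      congr 1
      calc a * d.v * a⁻¹ = a * (d.v * (a⁻¹ * b)) * b⁻¹ := by group
        _ = b * d.v * b⁻¹ := by rw [← h]; group
  have hf : Function.Injective f := by
    intro x y
    induction x using QuotientGroup.induction_on with | _ a =>
    induction y using QuotientGroup.induction_on with | _ b =>
    intro h
    have h' : a * d.v * a⁻¹ * d.v⁻¹ = b * d.v * b⁻¹ * d.v⁻¹ := congrArg Subtype.val h
    rw [QuotientGroup.eq, mem_centralizer_singleton_iff]
    calc a⁻¹ * b * d.v = a⁻¹ * (b * d.v * b⁻¹) * b := by group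
      _ = a⁻¹ * (a * d.v * a⁻¹) * b := by rw [mul_right_cancel h']
      _ = d.v * (a⁻¹ * b) := by group
  have hle : Cv.index ≤ Nat.card A := Nat.card_le_card_of_injective f hf
  have hT1 : Nat.card T ≤ 4 * Nat.card A := by
    rw [← Cv.card_mul_index]; exact Nat.mul_le_mul hcard4 hle
  have hind : A.index ≤ 4 := by
    rw [← A.index_mul_card] at hT1
    exact Nat.le_of_mul_le_mul_right hT1 Nat.card_pos
  have hfr := commutator_le_frattini_two d.pg
  have hgen : ∀ K : Subgroup T, K ⊔ A = ⊤ → K = ⊤ := fun K hK =>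
    frattini_nongenerating (top_le_iff.1 (hK ▸ sup_le_sup_left hfr K))
  have h4 : A.index = 4 := by
    obtain ⟨k, hk⟩ := d.pg.index A
    rcases (by omega : k = 0 ∨ k = 1 ∨ 2 ≤ k) with hk' | hk' | hk'
    · exfalso
      have h1 : (⊥ : Subgroup T) ⊔ A = ⊤ := by
        rw [bot_sup_eq]; exact index_eq_one.1 (by rw [hk, hk', pow_zero])
      exact d.noncomm (c := (1 : T)) fun u => by
        rw [zpowers_one_eq_bot, hgen ⊥ h1]; exact mem_top u
    · exfalso
      have h2 : A.index = 2 := by rw [hk, hk', pow_one]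
      obtain ⟨g, hg⟩ : ∃ g, g ∉ A := by
        by_contra h
        push Not at h
        rw [index_eq_one.2 (eq_top_iff.2 fun x _ => h x)] at h2
        omega
      have h1 : zpowers g ⊔ A = ⊤ := eq_top_iff.2 fun x _ => by
        by_cases hx : x ∈ A
        · exact mem_sup_right hx
        · have h3 : g⁻¹ * x ∈ A := by
            rw [mul_mem_iff_of_index_two h2, inv_mem_iff]; exact iff_of_false hg hx
          have h4 := mul_mem (mem_sup_left (T := A) (mem_zpowers g)) (mem_sup_right (S := zpowers g) h3)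
          rwa [mul_inv_cancel_left] at h4
      exact d.noncomm (c := g) fun u => by rw [hgen _ h1]; exact mem_top u
    · have := Nat.pow_le_pow_right (show 0 < 2 by norm_num) hk'
      rw [hk] at hind ⊢
      omega
  have hsurj : Function.Surjective f := by
    refine (Function.Injective.bijective_of_nat_card_le hf ?_).2
    have h1 := A.index_mul_card
    rw [h4, ← Cv.card_mul_index] at h1
    have h3 : Nat.card Cv * Cv.index ≤ 4 * Cv.index := Nat.mul_le_mul_right _ hcard4
    show Nat.card A ≤ Cv.index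
    omega
  have hvA : ∀ a ∈ A, ∃ x, a * d.v = x * d.v * x⁻¹ := by
    intro a ha
    obtain ⟨x, hx⟩ := hsurj ⟨a, ha⟩
    obtain ⟨x', rfl⟩ := QuotientGroup.mk_surjective x
    refine ⟨x', ?_⟩
    rw [← show x' * d.v * x'⁻¹ * d.v⁻¹ = a from congrArg Subtype.val hx, inv_mul_cancel_right]
  have hv1 : d.v ≠ 1 := fun h => by
    have h1 := d.rv
    rw [h, mul_one, mul_inv_cancel, mul_one] at h1
    exact d.t_ne h1.symm
  have hvnA : d.v ∉ A := fun h => by
    obtain ⟨x, hx⟩ := hvA _ (inv_mem h)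
    rw [inv_mul_cancel] at hx
    exact hv1 (conj_eq_one_iff.1 hx.symm)
  have hwP : ∀ u, d.P u → d.w ≠ u := fun u hu e => d.w_notP (e ▸ hu)
  have hwnA : d.w ∉ A := fun h => by
    obtain ⟨x, hx⟩ := hvA _ h
    have h2 : d.w * d.v * (d.w * d.v) = 1 := by
      rw [hx, conj_carry, d.v_sq, mul_one, mul_inv_cancel]
    have h3 : d.w * d.v = d.v * d.w := by
      have := eq_inv_of_mul_eq_one_left h2
      rwa [mul_inv_rev, inv_eq_of_mul_eq_one_right d.v_sq, inv_eq_of_mul_eq_one_right d.w_sq] at this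
    rcases d.cv _ h3 with e | e | e | e
    · exact d.w_ne e
    · exact hwP _ d.Pt e
    · exact hwP _ d.Pv e
    · exact hwP _ (d.P_conj d.r d.v d.Pv) (e.trans d.rv.symm)
  have hwvA : d.w * d.v⁻¹ ∉ A := fun h => by
    obtain ⟨x, hx⟩ := hvA _ h
    rw [inv_mul_cancel_right] at hx
    exact hwP _ (d.P_conj x d.v d.Pv) hx
  set K := closure ({d.v, d.w} : Set T) with hK
  have hKtop : K = ⊤ := by
    refine hgen K ?_
    set Kq := K.map (QuotientGroup.mk' A) with hKq
    have hvq : QuotientGroup.mk' A d.v ∈ Kq := ⟨_, subset_closure (by simp), rfl⟩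
    have hwq : QuotientGroup.mk' A d.w ∈ Kq := ⟨_, subset_closure (by simp), rfl⟩
    have h3 : 3 ≤ Nat.card Kq := by
      let := Fintype.ofFinite Kq
      rw [Nat.card_eq_fintype_card, ← Finset.card_univ]
      have hne : (⟨_, hvq⟩ : Kq) ≠ 1 ∧ (⟨_, hwq⟩ : Kq) ≠ 1 ∧ (⟨_, hvq⟩ : Kq) ≠ ⟨_, hwq⟩ := by
        refine ⟨fun e => ?_, fun e => ?_, fun e => ?_⟩
        · exact hvnA ((QuotientGroup.eq_one_iff _).1 (congrArg Subtype.val e))
        · exact hwnA ((QuotientGroup.eq_one_iff _).1 (congrArg Subtype.val e))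
        · refine hwvA ((QuotientGroup.eq_one_iff _).1 ?_)
          show QuotientGroup.mk' A (d.w * d.v⁻¹) = 1
          rw [map_mul, map_inv, show QuotientGroup.mk' A d.v = QuotientGroup.mk' A d.w from congrArg Subtype.val e,
            mul_inv_cancel]
      have h := Finset.card_le_univ ({1, ⟨_, hvq⟩, ⟨_, hwq⟩} : Finset Kq)
      rw [Finset.card_insert_of_notMem (by
        simp only [Finset.mem_insert, Finset.mem_singleton, not_or]
        exact ⟨Ne.symm hne.1, Ne.symm hne.2.1⟩),
        Finset.card_pair hne.2.2] at h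
      exact h
    have hq : Nat.card (T ⧸ A) = 4 := h4
    have hdvd : Nat.card Kq ∣ 4 := hq ▸ Kq.card_subgroup_dvd_card
    have hKq4 : Nat.card Kq = 4 := by
      have := Nat.le_of_dvd (by norm_num) hdvd
      rcases (by omega : Nat.card Kq = 3 ∨ Nat.card Kq = 4) with e | e
      · rw [e] at hdvd; norm_num at hdvd
      · exact e
    have htop : Kq = ⊤ := eq_top_of_card_eq _ (hKq4.trans hq.symm)
    have h5 := comap_map_eq (QuotientGroup.mk' A) K
    rw [← hKq, htop, comap_top, QuotientGroup.ker_mk'] at h5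
    exact h5.symm
  set c := d.v * d.w with hc
  have hvc : d.v = c * d.w := by rw [hc, mul_assoc, d.w_sq, mul_one]
  have hwi : d.w⁻¹ = d.w := inv_eq_of_mul_eq_one_right d.w_sq
  have hinv : d.w * c * d.w⁻¹ = c⁻¹ := by
    rw [hc, mul_inv_rev, hwi, inv_eq_of_mul_eq_one_right d.v_sq, ← mul_assoc, mul_assoc (d.w * d.v),
      d.w_sq, mul_one]
  have hmove : ∀ k : ℤ, d.w * c ^ k = c ^ (-k) * d.w := fun k => by
    rw [← mul_inv_eq_iff_eq_mul, ← conj_zpow, hinv, inv_zpow, zpow_neg]
  let D : Subgroup T :=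
    { carrier := {g | ∃ k : ℤ, g = c ^ k ∨ g = c ^ k * d.w}
      one_mem' := ⟨0, Or.inl (zpow_zero c).symm⟩
      mul_mem' := by
        rintro a b ⟨i, ha | ha⟩ ⟨j, hb | hb⟩ <;> rw [ha, hb]
        · exact ⟨i + j, Or.inl (zpow_add c i j).symm⟩
        · exact ⟨i + j, Or.inr (by rw [zpow_add, mul_assoc])⟩
        · exact ⟨i - j, Or.inr (by rw [mul_assoc, hmove, ← mul_assoc, ← zpow_add, sub_eq_add_neg])⟩
        · refine ⟨i - j, Or.inl ?_⟩
          rw [mul_assoc, ← mul_assoc d.w, hmove, mul_assoc, d.w_sq, mul_one, ← zpow_add, sub_eq_add_neg]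
      inv_mem' := by
        rintro a ⟨i, ha | ha⟩ <;> rw [ha]
        · exact ⟨-i, Or.inl (zpow_neg c i).symm⟩
        · exact ⟨i, Or.inr (by rw [mul_inv_rev, hwi, ← zpow_neg, hmove, neg_neg])⟩ }
  have hD : ∀ g : T, g ∈ D := by
    intro g
    have hle' : K ≤ D := by
      rw [hK, closure_le]
      rintro x (rfl | rfl)
      · exact ⟨1, Or.inr (by rw [zpow_one]; exact hvc)⟩
      · exact ⟨0, Or.inr (by rw [zpow_zero, one_mul])⟩
    exact hle' (hKtop ▸ mem_top g)
  refine ⟨c, hvc, hinv, hD, ?_, h4⟩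
  obtain ⟨k, hk | hk⟩ := hD d.t
  · exact ⟨k, hk.symm⟩
  · exfalso
    have hwc : Commute d.w c := by
      have h1 : Commute c (c ^ k * d.w) := hk ▸ d.t_cen c
      have h2 := ((Commute.refl c).zpow_right (-k)).mul_right h1
      rw [← mul_assoc, ← zpow_add, neg_add_cancel, zpow_zero, one_mul] at h2
      exact h2.symm
    have h1 : d.w * d.v = d.v * d.w := by
      rw [hvc, ← mul_assoc, hwc.eq]
    rcases d.cv _ h1 with e | e | e | e
    · exact d.w_ne e
    · exact hwP _ d.Pt e
    · exact hwP _ d.Pv e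
    · exact hwP _ (d.P_conj d.r d.v d.Pv) (e.trans d.rv.symm)

/-- The involutions outside the cyclic part are conjugate to `v` or to `w`; the only one inside is `t`. -/
theorem TwoData.involutions : ∃ c : T,
    (∀ g : T, g ∉ zpowers c → ∃ x, x * d.v * x⁻¹ = g ∨ x * d.w * x⁻¹ = g) ∧
    (∀ g : T, g * g = 1 → g ∈ zpowers c → g = 1 ∨ g = d.t) ∧ (_root_.commutator T).index = 4 ∧
    d.v ∉ _root_.commutator T ∧ d.w ∉ _root_.commutator T ∧ d.v⁻¹ * d.w ∉ _root_.commutator T := by
  classical
  obtain ⟨c, hvc, hinv, hD, htc, h4⟩ := d.dihedral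
  have hmove : ∀ k : ℤ, d.w * c ^ k = c ^ (-k) * d.w := fun k => by
    rw [← mul_inv_eq_iff_eq_mul, ← conj_zpow, hinv, inv_zpow, zpow_neg]
  have hconj : ∀ j : ℤ, c ^ j * d.w * (c ^ j)⁻¹ = c ^ (2 * j) * d.w := fun j => by
    rw [← zpow_neg, mul_assoc, hmove, ← mul_assoc, ← zpow_add, neg_neg, two_mul]
  have houtside : ∀ g : T, g ∉ zpowers c → ∃ x, x * d.v * x⁻¹ = g ∨ x * d.w * x⁻¹ = g := by
    intro g hg
    obtain ⟨k, hk | hk⟩ := hD g
    · exact absurd ⟨k, hk.symm⟩ hg
    · rcases Int.even_or_odd' k with ⟨j, rfl | rfl⟩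
      · exact ⟨c ^ j, Or.inr (by rw [hk, hconj])⟩
      · refine ⟨c ^ j, Or.inl ?_⟩
        rw [hk, hvc, show c ^ j * (c * d.w) * (c ^ j)⁻¹ = c ^ j * c * ((c ^ j)⁻¹ * (c ^ j * d.w * (c ^ j)⁻¹)) by
          group, hconj, ← zpow_neg, ← mul_assoc (c ^ (-j)), ← zpow_add, ← mul_assoc, ← zpow_add_one,
          ← zpow_add]
        congr 2
        omega
  refine ⟨c, houtside, ?_, h4, ?_⟩
  · intro g hg2 hgc
    by_cases h1 : g = 1
    · exact Or.inl h1
    · right
      let := Fintype.ofFinite (zpowers c)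
      have hcard := IsCyclic.card_pow_eq_one_le (α := zpowers c) (n := 2) two_pos
      by_contra hne
      have h3 : ({1, ⟨g, hgc⟩, ⟨d.t, htc⟩} : Finset (zpowers c)) ⊆ Finset.univ.filter fun x => x ^ 2 = 1 := by
        intro x hx
        simp only [Finset.mem_filter, Finset.mem_univ, true_and]
        simp only [Finset.mem_insert, Finset.mem_singleton] at hx
        rcases hx with rfl | rfl | rfl
        · exact one_pow 2
        · exact Subtype.ext (by show g ^ 2 = 1; rw [pow_two, hg2])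
        · exact Subtype.ext (by show d.t ^ 2 = 1; rw [pow_two, d.t_sq])
      have h4' := (Finset.card_le_card h3).trans hcard
      rw [Finset.card_insert_of_notMem (by simp [Subtype.ext_iff, Ne.symm h1, d.t_ne.symm]),
        Finset.card_pair (by simp [Subtype.ext_iff, hne])] at h4'
      omega
  · -- `v`, `w` are independent modulo the derived subgroup
    set A := _root_.commutator T with hA
    haveI : A.Normal := by rw [hA]; infer_instance
    have hfr := commutator_le_frattini_two d.pg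
    have hone : ∀ g : T, (∀ x, QuotientGroup.mk' A x ∈ zpowers (QuotientGroup.mk' A g)) → False := by
      intro g hg
      refine d.noncomm (c := g) fun u => ?_
      have h : zpowers g ⊔ A = ⊤ := eq_top_iff.2 fun x _ => by
        obtain ⟨i, hi⟩ := hg x
        have h2 : (g ^ i)⁻¹ * x ∈ A := by
          rw [← QuotientGroup.eq]
          exact (map_zpow (QuotientGroup.mk' A) g i).trans hi
        have h3 := mul_mem (mem_sup_left (T := A) (zpow_mem (mem_zpowers g) i)) (mem_sup_right (S := zpowers g) h2)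
        rwa [mul_inv_cancel_left] at h3
      rw [(frattini_nongenerating (top_le_iff.1 (h ▸ sup_le_sup_left hfr (zpowers g))) : zpowers g = ⊤)]
      exact mem_top u
    have hgenq : ∀ g : T, QuotientGroup.mk' A d.v ∈ zpowers (QuotientGroup.mk' A g) →
        QuotientGroup.mk' A d.w ∈ zpowers (QuotientGroup.mk' A g) →
        ∀ x, QuotientGroup.mk' A x ∈ zpowers (QuotientGroup.mk' A g) := by
      intro g hv hw x
      have hcm : QuotientGroup.mk' A c ∈ zpowers (QuotientGroup.mk' A g) := by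
        have : c = d.v * d.w := by rw [hvc, mul_assoc, d.w_sq, mul_one]
        rw [this, map_mul]; exact mul_mem hv hw
      obtain ⟨k, hk | hk⟩ := hD x <;> rw [hk]
      · rw [map_zpow]; exact zpow_mem hcm k
      · rw [map_mul, map_zpow]; exact mul_mem (zpow_mem hcm k) hw
    refine ⟨fun hv => hone d.w (hgenq d.w ?_ (mem_zpowers _)),
      fun hw => hone d.v (hgenq d.v (mem_zpowers _) ?_), fun h => hone d.w (hgenq d.w ?_ (mem_zpowers _))⟩
    · rw [show QuotientGroup.mk' A d.v = 1 from (QuotientGroup.eq_one_iff _).2 hv]; exact one_mem _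
    · rw [show QuotientGroup.mk' A d.w = 1 from (QuotientGroup.eq_one_iff _).2 hw]; exact one_mem _
    · rw [show QuotientGroup.mk' A d.v = QuotientGroup.mk' A d.w from QuotientGroup.eq.2 h]
      exact mem_zpowers _

end Two

section Transfer

variable {H : Type*} [Group H] [Finite H]

theorem not_mem_comap_zpowers {T : Type*} [Group T] (A : Subgroup T) [A.Normal] {v w : T} (hv : v ∉ A)
    (hw2 : w * w ∈ A) (hvw : v⁻¹ * w ∉ A) :
    v ∉ (zpowers (QuotientGroup.mk' A w)).comap (QuotientGroup.mk' A) := by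
  rintro ⟨i, hi⟩
  have hi' : QuotientGroup.mk' A w ^ i = QuotientGroup.mk' A v := hi
  have h2 : QuotientGroup.mk' A w ^ (2 : ℤ) = 1 := by
    rw [zpow_two, ← map_mul]; exact (QuotientGroup.eq_one_iff _).2 hw2
  rcases Int.even_or_odd' i with ⟨j, rfl | rfl⟩
  · rw [zpow_mul, h2, one_zpow] at hi'
    exact hv ((QuotientGroup.eq_one_iff _).1 hi'.symm)
  · rw [zpow_add, zpow_mul, h2, one_zpow, one_mul, zpow_one] at hi'
    exact hvw (QuotientGroup.eq.1 hi'.symm)

theorem mem_of_odd_pow {A : Type*} [Group A] [Finite A] (N : Subgroup A) [N.Normal] {a : A}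
    (ha : Odd (orderOf a)) {j : ℕ} (hj : N.index = 2 ^ j) : a ∈ N := by
  have h1 : a ^ (2 ^ j) ∈ N := hj ▸ N.pow_index_mem a
  obtain ⟨m, hm⟩ := exists_pow_eq_self_of_coprime (((Nat.coprime_two_left.2 ha).pow_left j))
  rw [← hm]
  exact pow_mem h1 m

theorem index_comap_zpowers {T : Type*} [Group T] [Finite T] (A : Subgroup T) [A.Normal] (h4 : A.index = 4)
    {w : T} (hw : w ∉ A) (hw2 : w * w ∈ A) :
    ((zpowers (QuotientGroup.mk' A w)).comap (QuotientGroup.mk' A)).index = 2 := by
  rw [index_comap_of_surjective _ (QuotientGroup.mk'_surjective A)]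
  have ho : orderOf (QuotientGroup.mk' A w) = 2 := by
    refine orderOf_eq_prime ?_ fun h => hw ((QuotientGroup.eq_one_iff _).1 h)
    rw [pow_two, ← map_mul]; exact (QuotientGroup.eq_one_iff _).2 hw2
  have h := (zpowers (QuotientGroup.mk' A w)).index_mul_card
  rw [Nat.card_zpowers, ho, show Nat.card (T ⧸ A) = 4 from h4] at h
  omega

set_option maxHeartbeats 800000 in
/-- Transfer: for `t` central, the elements of odd order form a subgroup, and the involutions of the
`t`-class in `S` other than `t` are conjugate to `v`. -/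
theorem two_main (S : Sylow 2 H) (d : TwoData (S : Subgroup H)) (P : H → Prop)
    (hP : ∀ u : (S : Subgroup H), d.P u ↔ P u) (hPH : ∀ x u : H, P u → P (x * u * x⁻¹))
    (htc : ∀ x : H, x * (d.t : H) = (d.t : H) * x) :
    (∃ Q : Subgroup H, ∀ a : H, a ∈ Q ↔ Odd (orderOf a)) ∧
      ∀ u : (S : Subgroup H), u * u = 1 → u ≠ 1 → P u → u = d.t ∨ ∃ x, x * d.v * x⁻¹ = u := by
  classical
  have h2f : Fact (Nat.Prime 2) := ⟨Nat.prime_two⟩
  obtain ⟨c, hout, hin, h4, hvA, hwA, hvwA⟩ := d.involutions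
  set A := _root_.commutator (S : Subgroup H) with hA
  haveI : A.Normal := by rw [hA]; infer_instance
  have hclass : ∀ u : (S : Subgroup H), u * u = 1 → u ≠ 1 → P u → u = d.t ∨ ∃ x, x * d.v * x⁻¹ = u := by
    intro u hu2 hu1 hPu
    by_cases huc : u ∈ zpowers c
    · exact Or.inl ((hin u hu2 huc).resolve_left hu1)
    · obtain ⟨x, hx | hx⟩ := hout u huc
      · exact Or.inr ⟨x, hx⟩
      · refine absurd ?_ d.w_notP
        have h := d.P_conj x⁻¹ u ((hP u).2 hPu)
        rwa [← hx, show x⁻¹ * (x * d.w * x⁻¹) * x⁻¹⁻¹ = d.w by group] at h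
  refine ⟨?_, hclass⟩
  have hw2 : d.w * d.w ∈ A := by rw [d.w_sq]; exact one_mem _
  have hv2 : d.v * d.v ∈ A := by rw [d.v_sq]; exact one_mem _
  have hwvA : d.w⁻¹ * d.v ∉ A := fun h => hvwA (by simpa using inv_mem h)
  set Tv := (zpowers (QuotientGroup.mk' A d.w)).comap (QuotientGroup.mk' A) with hTv
  set Tw := (zpowers (QuotientGroup.mk' A d.v)).comap (QuotientGroup.mk' A) with hTw
  have hTv2 : Tv.index = 2 := index_comap_zpowers A h4 hwA hw2
  have hTw2 : Tw.index = 2 := index_comap_zpowers A h4 hvA hv2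
  have hvTv : d.v ∉ Tv := not_mem_comap_zpowers A hvA hw2 hvwA
  have hwTw : d.w ∉ Tw := not_mem_comap_zpowers A hwA hv2 hwvA
  haveI : Tv.Normal := normal_of_index_eq_two hTv2
  haveI : Tw.Normal := normal_of_index_eq_two hTw2
  have hmk : ∀ (U : Subgroup (S : Subgroup H)), U.index = 2 → ∀ u : (S : Subgroup H), u * u = 1 → u ≠ 1 →
      (∀ g : H, g * u * g⁻¹ ∉ U.map (S : Subgroup H).subtype) →
      ∃ M : Subgroup H, M.Normal ∧ M.index = 2 ∧ (u : H) ∉ M := by
    intro U hU u hu2 hu1 hno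
    have hou : orderOf (u : H) = 2 := by
      rw [orderOf_coe]; exact orderOf_eq_prime (by rw [pow_two, hu2]) hu1
    refine (Involution.thompson_transfer S _ (map_subtype_le U) ?_ (u : H) hou).resolve_right
      fun ⟨g, hg⟩ => hno g hg
    rw [relIndex, subgroupOf, comap_map_eq_self_of_injective (S : Subgroup H).subtype_injective]
    exact hU
  have hv1 : d.v ≠ 1 := fun h => hvA (h ▸ one_mem _)
  obtain ⟨Mv, hMvn, hMv2, hvMv⟩ := hmk Tv hTv2 d.v d.v_sq hv1 fun g => by
    rintro ⟨u, hu, he⟩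
    have he' : (u : H) = g * d.v * g⁻¹ := he
    have hu2 : u * u = 1 := Subtype.ext (by
      show (u : H) * u = 1
      rw [he', conj_carry, show (d.v : H) * d.v = 1 from congrArg Subtype.val d.v_sq, mul_one, mul_inv_cancel])
    have hu1 : u ≠ 1 := fun h => hv1 (Subtype.ext (conj_eq_one_iff.1 (he'.symm.trans (congrArg Subtype.val h))))
    rcases hclass u hu2 hu1 (he' ▸ hPH g _ ((hP d.v).1 d.Pv)) with e | ⟨x, hx⟩
    · refine hvA ?_
      have h : d.v = d.t := Subtype.ext (by
        calc (d.v : H) = g⁻¹ * (g * d.v * g⁻¹) * g := by group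
          _ = g⁻¹ * d.t * g := by rw [← he', e]
          _ = d.t := by rw [htc g⁻¹, inv_mul_cancel_right])
      rw [h]; exact d.t_mem_commutator
    · refine hvTv ?_
      have h := (inferInstance : Tv.Normal).conj_mem u hu x⁻¹
      rwa [← hx, show x⁻¹ * (x * d.v * x⁻¹) * x⁻¹⁻¹ = d.v by group] at h
  obtain ⟨Mw, hMwn, hMw2, hwMw⟩ := hmk Tw hTw2 d.w d.w_sq d.w_ne fun g => by
    rintro ⟨u, hu, he⟩
    have he' : (u : H) = g * d.w * g⁻¹ := he
    have hu2 : u * u = 1 := Subtype.ext (by
      show (u : H) * u = 1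
      rw [he', conj_carry, show (d.w : H) * d.w = 1 from congrArg Subtype.val d.w_sq, mul_one, mul_inv_cancel])
    have hu1 : u ≠ 1 := fun h => d.w_ne (Subtype.ext (conj_eq_one_iff.1 (he'.symm.trans (congrArg Subtype.val h))))
    have hnP : ¬ d.P u := fun h => by
      refine d.w_notP ((hP d.w).2 ?_)
      have h2 := hPH g⁻¹ _ ((hP u).1 h)
      rwa [he', show g⁻¹ * (g * (d.w : H) * g⁻¹) * g⁻¹⁻¹ = d.w by group] at h2
    have huc : u ∉ zpowers c := fun h => hnP ((hin u hu2 h).resolve_left hu1 ▸ d.Pt)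
    obtain ⟨x, hx | hx⟩ := hout u huc
    · exact hnP (hx ▸ d.P_conj x _ d.Pv)
    · refine hwTw ?_
      have h := (inferInstance : Tw.Normal).conj_mem u hu x⁻¹
      rwa [← hx, show x⁻¹ * (x * d.w * x⁻¹) * x⁻¹⁻¹ = d.w by group] at h
  set K := Mv ⊓ Mw with hK
  haveI : K.Normal := by rw [hK]; infer_instance
  have hodd : ∀ a : H, Odd (orderOf a) → a ∈ K := by
    intro a ha
    have key : ∀ M : Subgroup H, M.index = 2 → a ∈ M := fun M hM => by
      obtain ⟨k, hk⟩ := ha
      have h2 : a ^ 2 ∈ M := by rw [pow_two]; exact mul_self_mem_of_index_two hM a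
      have h1 : a ^ (2 * k + 1) = 1 := hk ▸ pow_orderOf_eq_one a
      rw [pow_succ, pow_mul] at h1
      rw [eq_inv_of_mul_eq_one_right h1]
      exact inv_mem (pow_mem h2 k)
    exact ⟨key Mv hMv2, key Mw hMw2⟩
  have hSK : ∀ u : (S : Subgroup H), (u : H) ∈ K → u ∈ zpowers c := by
    intro u hu
    by_contra huc
    obtain ⟨x, hx | hx⟩ := hout u huc
    · refine hvMv ?_
      have h := hMvn.conj_mem _ hu.1 (x : H)⁻¹
      rw [← hx] at h
      simpa [mul_assoc] using h
    · refine hwMw ?_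
      have h := hMwn.conj_mem _ hu.2 (x : H)⁻¹
      rw [← hx] at h
      simpa [mul_assoc] using h
  let R : Sylow 2 K := default
  haveI hRcyc : IsCyclic (R : Subgroup K) := by
    obtain ⟨P', hP'⟩ := (R.2.map K.subtype).exists_le_sylow
    obtain ⟨h, hh⟩ := MulAction.exists_smul_eq H P' S
    have hmem : ∀ y : (R : Subgroup K), h * ((y : K) : H) * h⁻¹ ∈ (S : Subgroup H) := fun y => by
      rw [← hh]
      exact Subgroup.smul_mem_pointwise_smul _ _ _ (hP' ⟨y, y.2, rfl⟩)
    let F : (R : Subgroup K) →* zpowers c :=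
      { toFun := fun y => ⟨⟨h * ((y : K) : H) * h⁻¹, hmem y⟩,
          hSK _ ((inferInstance : K.Normal).conj_mem _ (y : K).2 h)⟩
        map_one' := Subtype.ext (Subtype.ext (by simp))
        map_mul' := fun a b => Subtype.ext (Subtype.ext (by simp [mul_assoc])) }
    exact isCyclic_of_injective F fun a b hab => Subtype.ext (Subtype.ext (mul_left_cancel (mul_right_cancel
      (congrArg (fun q : zpowers c => ((q : (S : Subgroup H)) : H)) hab))))
  by_cases heven : 2 ∣ Nat.card K
  · have hmin : (Nat.card K).minFac = 2 := (Nat.minFac_eq_two_iff _).2 heven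
    set N := (MonoidHom.transferSylow R (hRcyc.normalizer_le_centralizer hmin)).ker with hN
    have hNodd : Odd (Nat.card N) := by
      rw [← Nat.not_even_iff_odd, even_iff_two_dvd]
      exact MonoidHom.not_dvd_card_ker_transferSylow R _
    refine ⟨N.map K.subtype, fun a => ⟨?_, fun ha => ?_⟩⟩
    · rintro ⟨b, hb, rfl⟩
      show Odd (orderOf (b : H))
      rw [orderOf_coe]
      exact Odd.of_dvd_nat hNodd (N.orderOf_dvd_natCard hb)
    · refine ⟨⟨a, hodd a ha⟩, ?_, rfl⟩
      have hidx : N.index = Nat.card (R : Subgroup K) :=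
        (MonoidHom.ker_transferSylow_isComplement' R (hRcyc.normalizer_le_centralizer hmin)).symm.index_eq_card
      obtain ⟨j, hj⟩ := R.2.exists_card_eq
      exact mem_of_odd_pow N (by rwa [Subgroup.orderOf_mk]) (hidx.trans hj)
  · refine ⟨K, fun a => ⟨fun ha => Odd.of_dvd_nat ?_ (K.orderOf_dvd_natCard ha), hodd a⟩⟩
    rw [← Nat.not_even_iff_odd, even_iff_two_dvd]; exact heven

end Transfer

end Cfsg.Agent.Lib.AltEightThree6.BadAux
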