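import Cfsg.Agent.Lib.AltEightThree6.Spec
import Cfsg.Agent.Lib.BoundedPresentation.Carmichael
import Mathlib

/-!
Carmichael's presentation gives a copy of the alternating group of degree eight.
-/

set_option autoImplicit false
set_option maxRecDepth 8000

namespace Cfsg.Agent.Lib.AltEightThree6

open Equiv Equiv.Perm

universe u

namespace Carm16

open Cfsg.Agent.Lib.BoundedPresentation (Alt2 cyc alt_hom_ext exists_hom)

/-- The alternating group of degree five. -/
abbrev A5 := alternatingGroup (Fin 5)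

/-- An even permutation of five points. -/
def evF (p : Perm (Fin 5)) (h : Perm.sign p = 1 := by decide +kernel) : A5 :=
  ⟨p, Perm.mem_alternatingGroup.2 h⟩

/-- The second factor. -/
def one2 : A5 →* L35 :=
  ((MonoidHom.inr (Perm (Fin 3)) (Perm (Fin 5))).comp (alternatingGroup (Fin 5)).subtype).codRestrict L35
    fun q => by
      show Perm.sign (1 : Perm (Fin 3)) * Perm.sign (q : Perm (Fin 5)) = 1
      rw [Perm.sign_one, Perm.mem_alternatingGroup.1 q.2, mul_one]

/-- The natural map of the block stabiliser into `A8`. -/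
def kap : L35 →* A8 :=
  ((finSumFinEquiv (m := 3) (n := 5)).permCongrHom.toMonoidHom.comp
    ((Perm.sumCongrHom (Fin 3) (Fin 5)).comp L35.subtype)).codRestrict (alternatingGroup (Fin 8))
    fun l => by
      refine Perm.mem_alternatingGroup.2 ?_
      show Perm.sign ((finSumFinEquiv (m := 3) (n := 5)).permCongr (Perm.sumCongr l.1.1 l.1.2)) = 1
      rw [Perm.sign_permCongr, Perm.sign_sumCongr]
      exact l.2

theorem kap_injective : Function.Injective kap := by
  intro l l' h
  have h1 := congrArg Subtype.val h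
  exact Subtype.ext (Perm.sumCongrHom_injective ((finSumFinEquiv (m := 3) (n := 5)).permCongrHom.injective h1))

/-- Eight points as six points and two further ones. -/
def e8 : Fin 6 ⊕ Fin 2 ≃ Fin 8 where
  toFun := Sum.elim ![0, 3, 4, 5, 6, 7] ![1, 2]
  invFun := ![Sum.inl 0, Sum.inr 0, Sum.inr 1, Sum.inl 1, Sum.inl 2, Sum.inl 3, Sum.inl 4, Sum.inl 5]
  left_inv := by unfold Function.LeftInverse; decide
  right_inv := by unfold Function.RightInverse Function.LeftInverse; decide

/-- Carmichael's three cycle in `A8`. -/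
def cy (i : Fin 6) : A8 := e8.altCongrHom (cyc i)

theorem cy_zero : cy 0 = c3 := by decide +kernel

theorem kap_z : kap zL = c3 := by decide +kernel

theorem kap_t : kap tL = t0 := by decide +kernel

theorem kap_v : kap vL = v0 := by decide +kernel

theorem kap_c33 : kap (zL * one2 (evF (swap 0 1 * swap 1 2))) = c33 := by decide +kernel

theorem kap_cy : ∀ (q : A5) (i : Fin 5),
    kap (one2 q) * cy i.succ * (kap (one2 q))⁻¹ = cy ((q : Perm (Fin 5)) i).succ := by decide +kernel

theorem z_comm : ∀ q : A5, zL * one2 q = one2 q * zL := by decide +kernel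

theorem trans1 : ∀ i : Fin 5, ∃ q : A5, (q : Perm (Fin 5)) 0 = i := by decide +kernel

theorem trans2 : ∀ i j : Fin 5, i ≠ j → ∃ q : A5, (q : Perm (Fin 5)) 0 = i ∧ (q : Perm (Fin 5)) 1 = j := by
  decide +kernel

/-- The element `(123)` of the second factor. -/
def cL : L35 := one2 (evF (swap 2 3 * swap 3 1))

theorem fix_word : ∀ r : A5, (r : Perm (Fin 5)) 0 = 0 → ∃ (i : Fin 3) (j k : Fin 2),
    one2 r = aL ^ (i : ℕ) * tL ^ (j : ℕ) * vL ^ (k : ℕ) := by decide +kernel

theorem c_fix : ((evF (swap 2 3 * swap 3 1) : A5) : Perm (Fin 5)) 0 = 0 := by decide +kernel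

theorem z_cube : zL ^ 3 = 1 := by decide +kernel

theorem c_cube : cL ^ 3 = 1 := by decide +kernel

theorem za_sq : (aL * cL) ^ 2 = 1 := by decide +kernel

/-- The element `(01)(34)` of the second factor. -/
def sF : A5 := evF (swap 0 1 * swap 3 4)

theorem s_zero : (sF : Perm (Fin 5)) 0 = 1 := by decide +kernel

theorem s_sq : one2 sF * one2 sF = 1 := by decide +kernel

theorem s_inv : one2 sF * aL * (one2 sF)⁻¹ = aL⁻¹ := by decide +kernel

theorem first_odd : ∀ p : Perm (Fin 3),
    p * (swap 0 1 * swap 1 2) * p⁻¹ = (swap 0 1 * swap 1 2)⁻¹ → Perm.sign p = -1 := by decide +kernel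

theorem second_swap : ∀ q : Perm (Fin 5), Perm.sign q = -1 → q * q = 1 →
    q * (swap 2 3 * swap 3 4) * q⁻¹ = swap 2 3 * swap 3 4 → q = swap 0 1 := by decide +kernel

theorem swap_calc : ((swap 2 3 * swap 3 1 : Perm (Fin 5)) *
    (swap 0 1 * (swap 2 3 * swap 3 1) * (swap 0 1)⁻¹)) ^ 2 = 1 := by decide +kernel

theorem pair_calc (l : L35) (h2 : l * l = 1) (hz : l * zL * l⁻¹ = zL⁻¹) (ha : l * aL * l⁻¹ = aL) :
    (cL * (l * cL * l⁻¹)) ^ 2 = 1 := by
  have hp : Perm.sign l.1.1 = -1 := first_odd _ (congrArg (fun x : L35 => x.1.1) hz)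
  have hq : Perm.sign l.1.2 = -1 := by
    have h : Perm.sign l.1.1 * Perm.sign l.1.2 = 1 := l.2
    rw [hp] at h
    rcases Int.units_eq_one_or (Perm.sign l.1.2) with e | e <;> rw [e] at h ⊢
    exact absurd h (by decide)
  have hl : l.1.2 = swap 0 1 :=
    second_swap _ hq (congrArg (fun x : L35 => x.1.2) h2) (congrArg (fun x : L35 => x.1.2) ha)
  refine Subtype.ext (Prod.ext ?_ ?_)
  · show ((1 : Perm (Fin 3)) * (l.1.1 * 1 * l.1.1⁻¹)) ^ 2 = 1
    simp
  · show ((swap 2 3 * swap 3 1 : Perm (Fin 5)) * (l.1.2 * (swap 2 3 * swap 3 1) * l.1.2⁻¹)) ^ 2 = 1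
    rw [hl]; exact swap_calc

/-- Twelve times four elements commuting with the four group. -/
def f48 (x : alternatingGroup (Fin 4) × Fin 2 × Fin 2) : A8 :=
  ⟨(finSumFinEquiv (m := 4) (n := 4)).permCongr (Perm.sumCongr (x.1 : Perm (Fin 4)) 1), by
    rw [Perm.mem_alternatingGroup, Perm.sign_permCongr, Perm.sign_sumCongr, Perm.sign_one, mul_one]
    exact Perm.mem_alternatingGroup.1 x.1.2⟩ * t0 ^ (x.2.1 : ℕ) * v0 ^ (x.2.2 : ℕ)

theorem f48_inj : ∀ x y, f48 x = f48 y → x = y := by decide +kernel

theorem f48_comm : ∀ x, t0 * f48 x = f48 x * t0 ∧ v0 * f48 x = f48 x * v0 := by decide +kernel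

/-- Eighteen elements commuting with two disjoint three cycles. -/
def f18 (x : Fin 3 × Fin 3 × Fin 2) : A8 :=
  c3 ^ (x.1 : ℕ) * (evA (swap 3 4 * swap 4 5)) ^ (x.2.1 : ℕ) *
    (evA (swap 0 3 * swap 1 4 * swap 2 5 * swap 6 7)) ^ (x.2.2 : ℕ)

theorem f18_inj : ∀ x y, f18 x = f18 y → x = y := by decide +kernel

theorem f18_comm : ∀ x, c33 * f18 x = f18 x * c33 := by decide +kernel

theorem conj_c : ∃ q : A5, q * evF (swap 0 1 * swap 1 2) * q⁻¹ = evF (swap 2 3 * swap 3 4) := by decide +kernel

theorem one2_a : one2 (evF (swap 2 3 * swap 3 4)) = aL := by decide +kernel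

theorem one2_t : one2 (evF (swap 1 2 * swap 3 4)) = tL := by decide +kernel

theorem one2_v : one2 (evF (swap 1 3 * swap 2 4)) = vL := by decide +kernel

theorem comm_zt : zL * tL = tL * zL := by decide +kernel

theorem comm_zv : zL * vL = vL * zL := by decide +kernel

theorem comm_za : zL * aL = aL * zL := by decide +kernel

theorem c3_ne : c3 ≠ 1 := by decide +kernel

theorem hom_ext_cy {G : Type*} [Group G] {f g : A8 →* G} (h0 : f c3 = g c3)
    (h : ∀ i : Fin 5, f (cy i.succ) = g (cy i.succ)) : f = g := by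
  have key : f.comp e8.altCongrHom.toMonoidHom = g.comp e8.altCongrHom.toMonoidHom :=
    alt_hom_ext fun i => by
      show f (cy i) = g (cy i)
      induction i using Fin.cases with
      | zero => rw [cy_zero, h0]
      | succ i => exact h i
  refine MonoidHom.ext fun b => ?_
  obtain ⟨b, rfl⟩ := e8.altCongrHom.surjective b
  exact DFunLike.congr_fun key b

theorem card_centralizer_conj {G : Type*} [Group G] (g x : G) :
    Nat.card (Subgroup.centralizer ({g * x * g⁻¹} : Set G)) = Nat.card (Subgroup.centralizer ({x} : Set G)) := by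
  have e : Subgroup.centralizer ({g * x * g⁻¹} : Set G) =
      (Subgroup.centralizer ({x} : Set G)).map (MulAut.conj g).toMonoidHom := by
    ext y
    rw [Subgroup.mem_centralizer_singleton_iff, Subgroup.mem_map]
    constructor
    · intro h
      refine ⟨g⁻¹ * y * g, Subgroup.mem_centralizer_singleton_iff.2 ?_, ?_⟩
      · calc g⁻¹ * y * g * x = g⁻¹ * (y * (g * x * g⁻¹)) * g := by group
          _ = g⁻¹ * (g * x * g⁻¹ * y) * g := by rw [h]
          _ = x * (g⁻¹ * y * g) := by group
      · simp [MulAut.conj_apply, mul_assoc]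
    · rintro ⟨w, hw, rfl⟩
      rw [Subgroup.mem_centralizer_singleton_iff] at hw
      show g * w * g⁻¹ * (g * x * g⁻¹) = g * x * g⁻¹ * (g * w * g⁻¹)
      calc g * w * g⁻¹ * (g * x * g⁻¹) = g * (w * x) * g⁻¹ := by group
        _ = g * (x * w) * g⁻¹ := by rw [hw]
        _ = _ := by group
  rw [e, Subgroup.card_map_of_injective (MulEquiv.injective _)]

theorem centralizer_le_range {A G : Type*} [Group A] [Group G] [Finite A] [Finite G] {θ : A →* G}
    (hi : Function.Injective θ) (S : Set A)
    (h : Nat.card (Subgroup.centralizer (θ '' S)) ≤ Nat.card (Subgroup.centralizer S)) :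
    Subgroup.centralizer (θ '' S) ≤ θ.range := by
  have hle : (Subgroup.centralizer S).map θ ≤ Subgroup.centralizer (θ '' S) := by
    rintro _ ⟨a, ha, rfl⟩
    rw [Subgroup.mem_centralizer_iff]
    rintro _ ⟨s, hs, rfl⟩
    rw [← map_mul, ← map_mul, Subgroup.mem_centralizer_iff.1 ha s hs]
  rw [← Subgroup.eq_of_le_of_card_ge hle (by rwa [Subgroup.card_map_of_injective hi])]
  exact Subgroup.map_le_range θ _

end Carm16

open Carm16 in
/-- A copy of `A8` from two commuting coordinate systems. -/
theorem embed : EmbStmt.{u} := by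
  intro G _ _ d hgood
  set z : G := d.φ zL with hzdef
  set a : G := d.φ aL with hadef
  set P : A5 →* G := d.φ.comp one2 with hP
  set x4 : G := d.ψ cL with hx4
  have hψa : d.ψ aL = z := d.ψ_a
  -- z commutes with the second factor
  have hzP : ∀ q, Commute z (P q) := fun q => Commute.map (show Commute zL (one2 q) from z_comm q) d.φ
  have hzt : Commute z (d.φ tL) := Commute.map (show Commute zL tL from comm_zt) d.φ
  have hzv : Commute z (d.φ vL) := Commute.map (show Commute zL vL from comm_zv) d.φ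
  have hza : Commute z a := Commute.map (show Commute zL aL from comm_za) d.φ
  have haψ : ∀ l : L35, Commute zL l → Commute a (d.ψ l) := fun l hl => by
    rcases d.ψ_z with e | e
    · exact hadef ▸ e ▸ hl.map d.ψ
    · have := (hl.map d.ψ).inv_left
      rwa [e, inv_inv] at this
  obtain ⟨ic, jc, kc, hc⟩ := fix_word _ c_fix
  have hx4w : x4 = z ^ (ic : ℕ) * d.ψ tL ^ (jc : ℕ) * d.ψ vL ^ (kc : ℕ) := by
    rw [hx4, show cL = _ from hc, map_mul, map_mul, map_pow, map_pow, map_pow, hψa]
  have hgoodc := hgood.2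
  have ht4 : Commute (d.φ tL) x4 := by
    rw [hx4w]
    exact ((hzt.symm.pow_right _).mul_right ((show Commute (d.φ tL) (d.ψ tL) from
      hgoodc _ (by simp) _ (by simp)).pow_right _)).mul_right
      ((show Commute (d.φ tL) (d.ψ vL) from hgoodc _ (by simp) _ (by simp)).pow_right _)
  have hv4 : Commute (d.φ vL) x4 := by
    rw [hx4w]
    exact ((hzv.symm.pow_right _).mul_right ((show Commute (d.φ vL) (d.ψ tL) from
      hgoodc _ (by simp) _ (by simp)).pow_right _)).mul_right
      ((show Commute (d.φ vL) (d.ψ vL) from hgoodc _ (by simp) _ (by simp)).pow_right _)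
  have ha4 : Commute a x4 := by
    rw [hx4w]
    exact ((hza.symm.pow_right _).mul_right ((haψ _ comm_zt).pow_right _)).mul_right
      ((haψ _ comm_zv).pow_right _)
  have hfix : ∀ r : A5, (r : Perm (Fin 5)) 0 = 0 → Commute (P r) x4 := by
    intro r hr
    obtain ⟨i, j, k, e⟩ := fix_word r hr
    show Commute (d.φ (one2 r)) x4
    rw [e, map_mul, map_mul, map_pow, map_pow, map_pow]
    exact ((ha4.pow_left _).mul_left (ht4.pow_left _)).mul_left (hv4.pow_left _)
  -- the six generators
  choose qi hqi using trans1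
  set F : Fin 5 → G := fun i => P (qi i) * x4 * (P (qi i))⁻¹ with hF
  have hFq : ∀ q : A5, P q * x4 * (P q)⁻¹ = F ((q : Perm (Fin 5)) 0) := by
    intro q
    set i := (q : Perm (Fin 5)) 0 with hi
    have h0 : (((qi i)⁻¹ * q : A5) : Perm (Fin 5)) 0 = 0 := by
      rw [Subgroup.coe_mul, Perm.mul_apply, ← hi, Subgroup.coe_inv, Perm.inv_eq_iff_eq, hqi]
    have hc := hfix _ h0
    rw [map_mul, map_inv] at hc
    calc P q * x4 * (P q)⁻¹ = P (qi i) * ((P (qi i))⁻¹ * P q * x4) * (P q)⁻¹ := by group
      _ = P (qi i) * (x4 * ((P (qi i))⁻¹ * P q)) * (P q)⁻¹ := by rw [hc.eq]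
      _ = F i := by simp only [hF]; group
  have hF0 : F 0 = x4 := by
    have := hFq 1
    rw [map_one, one_mul, inv_one, mul_one] at this
    exact this.symm.trans rfl |>.trans rfl
  -- the first pair
  have hzx : (z * x4) ^ 2 = 1 := by
    rw [← hψa, hx4, ← map_mul, ← map_pow, za_sq, map_one]
  set g : G := P sF with hg
  have hg2 : g * g = 1 := by
    show d.φ (one2 sF) * d.φ (one2 sF) = 1
    rw [← map_mul, s_sq, map_one]
  have hga : g * a * g⁻¹ = a⁻¹ := by
    show d.φ (one2 sF) * d.φ aL * (d.φ (one2 sF))⁻¹ = (d.φ aL)⁻¹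
    rw [← map_inv, ← map_mul, ← map_mul, s_inv, map_inv]
  have hgz : g * z * g⁻¹ = z := by rw [(hzP sF).symm.eq, mul_inv_cancel_right]
  have hgN : g ∈ d.ψ.range := by
    rw [d.ψ_range, Subgroup.mem_normalizer_iff]
    intro h
    have hmap : (Subgroup.zpowers a).map (MulAut.conj g).toMonoidHom = Subgroup.zpowers a := by
      rw [MonoidHom.map_zpowers]
      show Subgroup.zpowers (g * a * g⁻¹) = _
      rw [hga, Subgroup.zpowers_inv]
    constructor
    · intro hh
      rw [← hadef] at hh ⊢
      rw [← hmap]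
      exact ⟨h, hh, rfl⟩
    · intro hh
      rw [← hadef] at hh ⊢
      rw [← hmap] at hh
      obtain ⟨w, hw, e⟩ := hh
      have : g * w * g⁻¹ = g * h * g⁻¹ := e
      rwa [← mul_left_cancel (mul_right_cancel this)]
  obtain ⟨l, hl⟩ := hgN
  have hl2 : l * l = 1 := d.ψ_inj (by rw [map_mul, hl, hg2, map_one])
  have hla : l * aL * l⁻¹ = aL := d.ψ_inj (by rw [map_mul, map_mul, map_inv, hl, hψa, hgz])
  have hlz : l * zL * l⁻¹ = zL⁻¹ := d.ψ_inj (by
    rw [map_mul, map_mul, map_inv, map_inv, hl]
    rcases d.ψ_z with e | e <;> rw [e, ← hadef]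
    · exact hga
    · rw [← conj_inv, hga])
  have hF1 : F 1 = g * x4 * g⁻¹ := by rw [hg, hFq, s_zero]
  have h01 : (x4 * F 1) ^ 2 = 1 := by
    rw [hF1, hx4, ← hl, ← map_inv, ← map_mul, ← map_mul, ← map_mul, ← map_pow, pair_calc l hl2 hlz hla, map_one]
  have hconj2 : ∀ (w u v : G), (u * v) ^ 2 = 1 → (w * u * w⁻¹ * (w * v * w⁻¹)) ^ 2 = 1 := fun w u v h => by
    rw [show w * u * w⁻¹ * (w * v * w⁻¹) = w * (u * v) * w⁻¹ by group, conj_pow, h, mul_one, mul_inv_cancel]
  have hpairF : ∀ i j, i ≠ j → (F i * F j) ^ 2 = 1 := by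
    intro i j hij
    obtain ⟨q, h0, h1⟩ := trans2 i j hij
    have e1 : P q * F 1 * (P q)⁻¹ = F j := by
      rw [hF1, show P q * (g * x4 * g⁻¹) * (P q)⁻¹ = P (q * sF) * x4 * (P (q * sF))⁻¹ by rw [map_mul, hg]; group,
        hFq, Subgroup.coe_mul, Perm.mul_apply, s_zero, h1]
    rw [← e1, ← h0, ← hFq q]
    exact hconj2 _ _ _ h01
  have hzF : ∀ i, (z * F i) ^ 2 = 1 := fun i => by
    have h := hconj2 (P (qi i)) z x4 hzx
    rwa [← (hzP (qi i)).eq, mul_inv_cancel_right] at h
  let e := Shrink.mulEquiv.{0} (α := G)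
  let y : Fin 6 → G := Fin.cons z F
  have hy : BoundedPresentation.Carm (fun i => e.symm (y i)) := by
    refine BoundedPresentation.Carm.map (x := y) ⟨fun i => ?_, fun i j hij => ?_⟩ e.symm.toMonoidHom
    · induction i using Fin.cases with
      | zero => simp only [y, Fin.cons_zero, hzdef, ← map_pow, z_cube, map_one]
      | succ i => simp only [y, Fin.cons_succ, hF, conj_pow, hx4, ← map_pow, c_cube, map_one, mul_one, mul_inv_cancel]
    · induction i using Fin.cases with
      | zero =>
        induction j using Fin.cases with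
        | zero => exact absurd rfl hij
        | succ j => simpa [y] using hzF j
      | succ i =>
        induction j using Fin.cases with
        | zero =>
          simp only [y, Fin.cons_zero, Fin.cons_succ]
          have h := hconj2 z⁻¹ z (F i) (hzF i)
          rwa [show z⁻¹ * z * z⁻¹⁻¹ * (z⁻¹ * F i * z⁻¹⁻¹) = F i * z by group] at h
        | succ j =>
          simp only [y, Fin.cons_succ]
          exact hpairF i j fun h => hij (congrArg Fin.succ h)
  obtain ⟨η, hη⟩ := BoundedPresentation.exists_hom _ hy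
  set θ : A8 →* G := e.toMonoidHom.comp (η.comp e8.altCongrHom.symm.toMonoidHom) with hθ
  have hθcy : ∀ i, θ (cy i) = y i := fun i => by
    show e (η (e8.altCongrHom.symm (e8.altCongrHom (BoundedPresentation.cyc i)))) = y i
    rw [MulEquiv.symm_apply_apply, hη, MulEquiv.apply_symm_apply]
  have hθz : θ c3 = z := by rw [← cy_zero, hθcy]; rfl
  have hθF : ∀ i : Fin 5, θ (cy i.succ) = F i := fun i => by rw [hθcy]; simp [y]
  haveI : IsSimpleGroup A8 := alternatingGroup.isSimpleGroup (by simp)
  have hinj : Function.Injective θ := by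
    rw [← MonoidHom.ker_eq_bot_iff]
    refine θ.normal_ker.eq_bot_or_eq_top.resolve_right fun h => ?_
    have hz1 : z = 1 := by rw [← hθz]; exact MonoidHom.mem_ker.1 (h ▸ Subgroup.mem_top _)
    have : zL = 1 := d.φ_inj (by rw [map_one]; exact hz1)
    exact absurd (congrArg kap this) (by rw [kap_z, map_one]; exact c3_ne)
  -- the centraliser of a three cycle
  have hCz : Subgroup.centralizer ({z} : Set G) = (Subgroup.centralizer ({zL} : Set L35)).map d.φ := by
    refine le_antisymm (fun w hw => ?_) ?_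
    · rw [Subgroup.mem_centralizer_singleton_iff] at hw
      have hwN : w ∈ d.φ.range := by
        rw [d.φ_range]
        refine Subgroup.centralizer_le_normalizer _ ?_
        rw [Subgroup.mem_centralizer_iff]
        rintro _ ⟨k, rfl⟩
        exact ((show Commute w z from hw).zpow_right k).eq.symm
      obtain ⟨w, rfl⟩ := hwN
      refine ⟨w, Subgroup.mem_centralizer_singleton_iff.2 (d.φ_inj ?_), rfl⟩
      rw [map_mul, map_mul]
      exact hw
    · rintro _ ⟨w, hw, rfl⟩
      rw [SetLike.mem_coe, Subgroup.mem_centralizer_singleton_iff] at hw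
      rw [Subgroup.mem_centralizer_singleton_iff, hzdef, ← map_mul, hw, map_mul]
  have hc3 : Subgroup.centralizer ({θ c3} : Set G) ≤ θ.range := by
    rw [← Set.image_singleton]
    refine centralizer_le_range hinj _ ?_
    rw [Set.image_singleton, hθz, hCz, Subgroup.card_map_of_injective d.φ_inj,
      ← Subgroup.card_map_of_injective kap_injective]
    refine Subgroup.card_le_of_le ?_
    rintro _ ⟨w, hw, rfl⟩
    rw [SetLike.mem_coe, Subgroup.mem_centralizer_singleton_iff] at hw
    rw [Subgroup.mem_centralizer_singleton_iff, ← kap_z, ← map_mul, hw, map_mul]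
  -- the copy agrees with the first system on the second factor
  have hagree : ∀ q : A5, θ (kap (one2 q)) = P q := by
    intro q
    have hcomp : (MulAut.conj (P q)).toMonoidHom.comp θ = θ.comp (MulAut.conj (kap (one2 q))).toMonoidHom := by
      refine hom_ext_cy ?_ fun i => ?_
      · show P q * θ c3 * (P q)⁻¹ = θ (kap (one2 q) * c3 * (kap (one2 q))⁻¹)
        rw [hθz, ← kap_z, ← map_mul kap, ← z_comm, map_mul kap, mul_inv_cancel_right, kap_z, hθz,
          ← (hzP q).eq, mul_inv_cancel_right]
      · show P q * θ (cy i.succ) * (P q)⁻¹ = θ (kap (one2 q) * cy i.succ * (kap (one2 q))⁻¹)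
        rw [kap_cy, hθF, hθF]
        calc P q * F i * (P q)⁻¹ = P (q * qi i) * x4 * (P (q * qi i))⁻¹ := by
              simp only [hF, map_mul]; group
          _ = F ((q : Perm (Fin 5)) i) := by rw [hFq, Subgroup.coe_mul, Perm.mul_apply, hqi]
    set w := (θ (kap (one2 q)))⁻¹ * P q with hw
    have hcw : ∀ b, w * θ b = θ b * w := fun b => by
      have h : P q * θ b * (P q)⁻¹ = θ (kap (one2 q) * b * (kap (one2 q))⁻¹) := DFunLike.congr_fun hcomp b
      rw [map_mul, map_mul, map_inv] at h
      rw [hw]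
      calc (θ (kap (one2 q)))⁻¹ * P q * θ b = (θ (kap (one2 q)))⁻¹ * (P q * θ b * (P q)⁻¹) * P q := by group
        _ = θ b * ((θ (kap (one2 q)))⁻¹ * P q) := by rw [h]; group
    obtain ⟨b, hb⟩ := hc3 (Subgroup.mem_centralizer_singleton_iff.2 (hcw c3))
    have hb1 : b = 1 := by
      rw [← Subgroup.mem_bot, ← alternatingGroup.center_eq_bot (α := Fin 8) (by simp), Subgroup.mem_center_iff]
      intro c
      exact hinj (by rw [map_mul, map_mul, hb]; exact (hcw c).symm)
    rw [hb1, map_one] at hb
    exact (inv_mul_eq_one.1 hb.symm)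
  refine ⟨θ, hinj, hc3, ?_, ?_, d.sylow⟩
  · rw [← Set.image_singleton]
    refine centralizer_le_range hinj _ ?_
    obtain ⟨q, hq⟩ := conj_c
    have hcard : Nat.card (Subgroup.centralizer ({θ c33} : Set G)) = 18 := by
      have e1 : P q * θ c33 * (P q)⁻¹ = d.φ zL * d.φ aL := by
        rw [← kap_c33, map_mul kap, map_mul θ, kap_z, hθz, hagree,
          show P q * (z * P (evF (swap 0 1 * swap 1 2))) * (P q)⁻¹ =
            (P q * z * (P q)⁻¹) * (P q * P (evF (swap 0 1 * swap 1 2)) * (P q)⁻¹) by group,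
          ← (hzP q).eq, mul_inv_cancel_right, ← map_inv P, ← map_mul, ← map_mul, hq]
        show z * d.φ (one2 _) = _
        rw [one2_a]
      rw [← card_centralizer_conj (P q), e1, d.card_cent]
    rw [Set.image_singleton, hcard]
    let f : Fin 3 × Fin 3 × Fin 2 → Subgroup.centralizer ({c33} : Set A8) := fun x =>
      ⟨f18 x, Subgroup.mem_centralizer_singleton_iff.2 (f18_comm x).symm⟩
    simpa using Nat.card_le_card_of_injective f fun x y h => f18_inj x y (congrArg Subtype.val h)
  · have e : ({θ t0, θ v0} : Set G) = θ '' {t0, v0} := by rw [Set.image_insert_eq, Set.image_singleton]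
    rw [e]
    refine centralizer_le_range hinj _ ?_
    have ht : θ t0 = d.φ tL := by rw [← kap_t, ← one2_t, hagree]; rfl
    have hv : θ v0 = d.φ vL := by rw [← kap_v, ← one2_v, hagree]; rfl
    rw [← e, ht, hv]
    refine hgood.1.trans_le ?_
    let f : alternatingGroup (Fin 4) × Fin 2 × Fin 2 → Subgroup.centralizer ({t0, v0} : Set A8) := fun x =>
      ⟨f48 x, Subgroup.mem_centralizer_iff.2 (by
        rintro b (rfl | rfl)
        exacts [(f48_comm x).1, (f48_comm x).2])⟩
    have := Nat.card_le_card_of_injective f fun x y h => f48_inj x y (congrArg Subtype.val h)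
    rw [Nat.card_prod, Nat.card_prod, nat_card_alternatingGroup] at this
    simpa [Nat.factorial] using this

end Cfsg.Agent.Lib.AltEightThree6
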