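import Cfsg.Agent.Lib.AltEightThree6.Perm
import Cfsg.Agent.Lib.H59.SelfThree.Structure
import Cfsg.Agent.Lib.NilpotentPerm.Basic

/-!
The centraliser of a fixed point free involution lies in the copy of `A8`.

Elements of the copy of order two with fixed points, and of order three, fuse only inside the copy.
Hence in the centraliser `W` of the involution a Sylow 2-subgroup of the copy is Sylow, and modulo
the involution an element of order three is self-centralising.  Of the three possible shapes only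
a nilpotent kernel survives, and it contains an involution with fixed points, so it has no odd part.
-/

set_option autoImplicit false

namespace Cfsg.Agent.Lib.AltEightThree6

open Equiv Equiv.Perm

universe u

namespace CentE

/-- An element of order three commuting with `e0`. -/
def y0 : A8 := evA (swap 0 2 * swap 2 4 * (swap 1 3 * swap 3 5))
/-- An element commuting with `y0` but not with `e0`. -/
def k0 : A8 := evA (swap 0 2 * swap 2 4)

theorem y0_facts : y0 ^ 3 = 1 ∧ y0 ≠ 1 ∧ y0 * e0 = e0 * y0 ∧ k0 * y0 = y0 * k0 ∧ k0 * e0 ≠ e0 * k0 ∧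
    (∀ i, (c3 : Perm (Fin 8)) i = i ↔ 3 ≤ i.val) ∧
    (∀ i, (y0 : Perm (Fin 8)) i = i ↔ 6 ≤ i.val) ∧ e0 ≠ 1 ∧ e0 * e0 = 1 := by
  refine ⟨?_, ?_, ?_, ?_, ?_, ?_, ?_, ?_, ?_⟩
  all_goals decide +kernel

theorem isConj_c33_y0 : IsConj c33 y0 := by
  obtain ⟨h3, h1, -, -, -, hc, hy, -, -⟩ := y0_facts
  rcases three_cases h3 h1 with h | h
  · exfalso
    have e := Perm.isConj_iff_cycleType_eq.1 ((alternatingGroup (Fin 8)).subtype.map_isConj h)
    have e2 := congrArg Multiset.sum e
    rw [Perm.sum_cycleType, Perm.sum_cycleType] at e2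
    have s1 : ((c3 : Perm (Fin 8))).support = Finset.univ.filter fun i : Fin 8 => i.val < 3 := by
      ext i; simp [Perm.mem_support, hc, Nat.not_le]
    have s2 : ((y0 : Perm (Fin 8))).support = Finset.univ.filter fun i : Fin 8 => i.val < 6 := by
      ext i; simp [Perm.mem_support, hy, Nat.not_le]
    simp only [Subgroup.coe_subtype] at e2
    rw [s1, s2] at e2
    revert e2
    decide
  · exact h

variable {G : Type u} [Group G]

theorem mul_mem_range {θ : A8 →* G} {b : A8} (hb : Subgroup.centralizer ({θ b} : Set G) ≤ θ.range)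
    {g : G} (h : ∃ a, θ a * (g * θ b * g⁻¹) * (θ a)⁻¹ = θ b) : g ∈ θ.range := by
  obtain ⟨a, ha⟩ := h
  have hm : θ a * g ∈ Subgroup.centralizer ({θ b} : Set G) := by
    rw [Subgroup.mem_centralizer_singleton_iff]
    calc θ a * g * θ b = θ a * (g * θ b * g⁻¹) * (θ a)⁻¹ * (θ a * g) := by group
      _ = θ b * (θ a * g) := by rw [ha]
  simpa using θ.range.mul_mem (θ.range.inv_mem ⟨a, rfl⟩) (hb hm)

theorem cent_le_of_isConj {θ : A8 →* G} {b c : A8} (h : IsConj b c)
    (hb : Subgroup.centralizer ({θ b} : Set G) ≤ θ.range) :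
    Subgroup.centralizer ({θ c} : Set G) ≤ θ.range := by
  intro x hx
  obtain ⟨a, rfl⟩ := isConj_iff.1 h
  rw [Subgroup.mem_centralizer_singleton_iff] at hx
  have hm : (θ a)⁻¹ * x * θ a ∈ Subgroup.centralizer ({θ b} : Set G) := by
    rw [Subgroup.mem_centralizer_singleton_iff]
    rw [map_mul, map_mul, map_inv] at hx
    calc (θ a)⁻¹ * x * θ a * θ b = (θ a)⁻¹ * (x * (θ a * θ b * (θ a)⁻¹)) * θ a := by group
      _ = θ b * ((θ a)⁻¹ * x * θ a) := by rw [hx]; group
  have h2 := θ.range.mul_mem (θ.range.mul_mem ⟨a, rfl⟩ (hb hm)) (θ.range.inv_mem ⟨a, rfl⟩)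
  simpa [mul_assoc] using h2

theorem card_cent_conj {a b g : G} (h : g * a * g⁻¹ = b) :
    Nat.card (Subgroup.centralizer ({a} : Set G)) = Nat.card (Subgroup.centralizer ({b} : Set G)) := by
  have e : (Subgroup.centralizer ({a} : Set G)).map (MulAut.conj g).toMonoidHom =
      Subgroup.centralizer ({b} : Set G) := by
    subst h
    ext x
    rw [Subgroup.mem_map, Subgroup.mem_centralizer_singleton_iff]
    constructor
    · rintro ⟨c, hc, rfl⟩
      rw [Subgroup.mem_centralizer_singleton_iff] at hc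
      simp only [MulEquiv.coe_toMonoidHom, MulAut.conj_apply]
      calc g * c * g⁻¹ * (g * a * g⁻¹) = g * (c * a) * g⁻¹ := by group
        _ = g * a * g⁻¹ * (g * c * g⁻¹) := by rw [hc]; group
    · intro hx
      refine ⟨g⁻¹ * x * g, ?_, by simp [mul_assoc]⟩
      rw [Subgroup.mem_centralizer_singleton_iff]
      calc g⁻¹ * x * g * a = g⁻¹ * (x * (g * a * g⁻¹)) * g := by group
        _ = a * (g⁻¹ * x * g) := by rw [hx]; group
  rw [← e, Subgroup.card_map_of_injective (MulAut.conj g).injective]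

theorem card_cent_image {θ : A8 →* G} (hθ : Function.Injective θ) {b : A8}
    (hb : Subgroup.centralizer ({θ b} : Set G) ≤ θ.range) :
    Nat.card (Subgroup.centralizer ({θ b} : Set G)) = Nat.card (Subgroup.centralizer ({b} : Set A8)) := by
  rw [← Subgroup.card_map_of_injective hθ]
  congr 2
  ext x
  simp only [Subgroup.mem_map, Subgroup.mem_centralizer_singleton_iff]
  constructor
  · intro hx
    obtain ⟨a, rfl⟩ := hb (Subgroup.mem_centralizer_singleton_iff.2 hx)
    exact ⟨a, hθ (by rw [map_mul, map_mul, hx]), rfl⟩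
  · rintro ⟨a, ha, rfl⟩
    rw [← map_mul, ← map_mul, ha]

theorem card_cent_le {θ : A8 →* G} [Finite G] (hθ : Function.Injective θ) (b : A8) :
    Nat.card (Subgroup.centralizer ({b} : Set A8)) ≤ Nat.card (Subgroup.centralizer ({θ b} : Set G)) := by
  rw [← Subgroup.card_map_of_injective hθ]
  apply Subgroup.card_le_of_le
  rintro _ ⟨a, ha, rfl⟩
  rw [Subgroup.mem_centralizer_singleton_iff, ← map_mul, ← map_mul,
    Subgroup.mem_centralizer_singleton_iff.1 ha]

/-- Involutions with fixed points fuse only inside the copy. -/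
theorem range_of_fuse_t [Finite G] {θ : A8 →* G} (hθ : Function.Injective θ)
    (hT : Subgroup.centralizer ({θ t0} : Set G) ≤ θ.range) {b : A8} (hb : TType b) {g : G}
    (h : g * θ b * g⁻¹ ∈ θ.range) : g ∈ θ.range := by
  obtain ⟨c, hc⟩ := h
  have hbc : Subgroup.centralizer ({θ b} : Set G) ≤ θ.range := cent_le_of_isConj hb.isConj hT
  have h2 : c * c = 1 := hθ (by
    rw [map_mul, map_one, hc]
    calc g * θ b * g⁻¹ * (g * θ b * g⁻¹) = g * θ (b * b) * g⁻¹ := by rw [map_mul]; group
      _ = 1 := by rw [hb.2.1, map_one]; group)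
  have h1 : c ≠ 1 := fun e => hb.1 (hθ (by
    rw [e, map_one] at hc
    rw [map_one]
    calc θ b = g⁻¹ * (g * θ b * g⁻¹) * g := by group
      _ = 1 := by rw [← hc]; group))
  rcases involution_cases h2 h1 with ⟨-, hcj⟩ | ⟨-, hcj⟩
  · obtain ⟨a, ha⟩ := isConj_iff.1 (hcj.symm.trans hb.isConj)
    exact mul_mem_range hbc ⟨a, by rw [← hc, ← map_inv, ← map_mul, ← map_mul, ha]⟩
  · exfalso
    obtain ⟨a, ha⟩ := isConj_iff.1 hcj.symm
    obtain ⟨a', ha'⟩ := isConj_iff.1 hb.isConj
    have hk : θ a * g * θ a' * θ t0 * (θ a * g * θ a')⁻¹ = θ e0 := by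
      rw [← ha, map_mul, map_mul, map_inv, hc, ← ha', map_mul, map_mul, map_inv]
      group
    have hv := card_centralizer_values
    have h96 := card_cent_image hθ hT
    have h192 := card_cent_le hθ e0
    rw [← card_cent_conj hk, h96] at h192
    omega

/-- The chosen element of order three fuses only inside the copy. -/
theorem range_of_fuse_y [Finite G] {θ : A8 →* G} (hθ : Emb θ) {g : G}
    (h : g * θ y0 * g⁻¹ ∈ θ.range) : g ∈ θ.range := by
  obtain ⟨c, hc⟩ := h
  have hyc : Subgroup.centralizer ({θ y0} : Set G) ≤ θ.range :=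
    cent_le_of_isConj isConj_c33_y0 hθ.c33_le
  have h3 : c ^ 3 = 1 := hθ.inj (by
    rw [map_pow, map_one, hc, conj_pow, ← map_pow, y0_facts.1, map_one]; group)
  have h1 : c ≠ 1 := fun e => y0_facts.2.1 (hθ.inj (by
    rw [e, map_one] at hc
    rw [map_one]
    calc θ y0 = g⁻¹ * (g * θ y0 * g⁻¹) * g := by group
      _ = 1 := by rw [← hc]; group))
  rcases three_cases h3 h1 with hcj | hcj
  · exfalso
    obtain ⟨a, ha⟩ := isConj_iff.1 hcj.symm
    obtain ⟨a', ha'⟩ := isConj_iff.1 isConj_c33_y0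
    have hk : θ a * g * θ a' * θ c33 * (θ a * g * θ a')⁻¹ = θ c3 := by
      rw [← ha, map_mul, map_mul, map_inv, hc, ← ha', map_mul, map_mul, map_inv]
      group
    have hv := card_centralizer_values
    have h18 := card_cent_image hθ.inj hθ.c33_le
    have h180 := card_cent_image hθ.inj hθ.c3_le
    rw [← card_cent_conj hk, h18] at h180
    omega
  · obtain ⟨a, ha⟩ := isConj_iff.1 (hcj.symm.trans isConj_c33_y0)
    exact mul_mem_range hyc ⟨a, by rw [← hc, ← map_inv, ← map_mul, ← map_mul, ha]⟩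

theorem subS_le : subS ≤ Subgroup.centralizer ({e0} : Set A8) := by
  intro g hg
  obtain ⟨i, hi, rfl⟩ := mem_subS.1 hg
  rw [Subgroup.mem_centralizer_singleton_iff, ← el_gens.2.2.2.2.2.2.2, el_commute_iff hi (by norm_num)]
  have h : ((List.range 64).all fun i => Nat.beq (idxMul i 6) (idxMul 6 i)) = true := by decide +kernel
  exact Nat.eq_of_beq_eq_true (List.all_eq_true.1 h i (List.mem_range.2 hi))

theorem tType_subV {g : A8} (hg : g ∈ subV) (h1 : g ≠ 1) : TType g := by
  obtain ⟨i, hi, rfl⟩ := mem_subV.1 hg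
  rw [tType_el (by omega)]
  have h : ((List.range 4).all fun i => Nat.beq i 0 || isT i) = true := by decide +kernel
  have h2 := List.all_eq_true.1 h i (List.mem_range.2 hi)
  rw [Bool.or_eq_true] at h2
  exact h2.resolve_left fun e => h1 (by rw [Nat.eq_of_beq_eq_true e, el_zero])

theorem cent_y0_e0 {a : A8} (hy : a * y0 = y0 * a) (he : a * e0 = e0 * a) :
    ∃ n : ℕ, a = (y0 * e0) ^ n := by
  obtain ⟨h3, h1, hye, hky, hke, -, -, he1, he2⟩ := y0_facts
  set K := Subgroup.centralizer ({y0} : Set A8) ⊓ Subgroup.centralizer ({e0} : Set A8) with hK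
  have hlt : K < Subgroup.centralizer ({y0} : Set A8) := by
    refine lt_of_le_of_ne inf_le_left fun e => hke ?_
    have hk : k0 ∈ K := e ▸ Subgroup.mem_centralizer_singleton_iff.2 hky
    exact Subgroup.mem_centralizer_singleton_iff.1 hk.2
  have hc : Nat.card (Subgroup.centralizer ({y0} : Set A8)) = 18 := by
    obtain ⟨c, hcc⟩ := isConj_iff.1 isConj_c33_y0
    rw [← card_cent_conj hcc]
    exact card_centralizer_values.2.1
  have ho : orderOf (y0 * e0) = 6 := by
    rw [Commute.orderOf_mul_eq_mul_orderOf_of_coprime hye, orderOf_eq_prime h3 h1,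
      orderOf_eq_prime (by rw [pow_two, he2]) he1]
    rw [orderOf_eq_prime h3 h1, orderOf_eq_prime (by rw [pow_two, he2]) he1]
    norm_num
  have hle : Subgroup.zpowers (y0 * e0) ≤ K := by
    rw [Subgroup.zpowers_le, hK, Subgroup.mem_inf, Subgroup.mem_centralizer_singleton_iff,
      Subgroup.mem_centralizer_singleton_iff]
    exact ⟨by rw [mul_assoc, ← hye], by rw [← mul_assoc, ← hye]⟩
  have d1 : 6 ∣ Nat.card K := by
    rw [← ho, ← Nat.card_zpowers]; exact Subgroup.card_dvd_of_le hle
  have d2 : Nat.card K ∣ 18 := hc ▸ Subgroup.card_dvd_of_le hlt.le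
  have d3 : Nat.card K ≠ 18 := fun e => hlt.ne (Subgroup.eq_of_le_of_card_ge hlt.le (by rw [hc, e]))
  have hK6 : Nat.card K = 6 := by
    obtain ⟨q, hq⟩ := d1
    rw [hq] at d2 d3
    have : q ∣ 3 := Nat.dvd_of_mul_dvd_mul_left (by norm_num : 0 < 6) d2
    rcases (Nat.dvd_prime Nat.prime_three).1 this with rfl | rfl
    · exact hq
    · simp at d3
  have hm : a ∈ Subgroup.zpowers (y0 * e0) := by
    rw [Subgroup.eq_of_le_of_card_ge hle (by rw [Nat.card_zpowers, ho, hK6])]
    exact ⟨Subgroup.mem_centralizer_singleton_iff.2 hy, Subgroup.mem_centralizer_singleton_iff.2 he⟩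
  obtain ⟨n, hn⟩ := mem_powers_iff_mem_zpowers.2 hm
  exact ⟨n, hn.symm⟩

end CentE

set_option maxHeartbeats 1000000 in
open CentE in
theorem centE : CentEStmt.{u} := by
  intro G _ _ θ hθ hT
  set C₀ := Subgroup.centralizer ({e0} : Set A8) with hC₀
  set W := Subgroup.centralizer ({θ e0} : Set G) with hW
  obtain ⟨h3, hy1, hye, -, -, -, -, he1, he2⟩ := y0_facts
  -- the part of the copy inside `W`
  let j : C₀ →* W := (θ.comp C₀.subtype).codRestrict W fun x =>
    Subgroup.mem_centralizer_singleton_iff.2 (by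
      show θ x * θ e0 = θ e0 * θ x
      rw [← map_mul, ← map_mul, Subgroup.mem_centralizer_singleton_iff.1 x.2])
  have hj : Function.Injective j := fun a b e =>
    Subtype.ext (hθ.inj (congrArg Subtype.val e))
  set H := j.range with hH
  have hmem : ∀ g : W, (g : G) ∈ θ.range → g ∈ H := by
    rintro g ⟨a, ha⟩
    have hg := Subgroup.mem_centralizer_singleton_iff.1 g.2
    rw [← ha, ← map_mul, ← map_mul] at hg
    exact ⟨⟨a, Subgroup.mem_centralizer_singleton_iff.2 (hθ.inj hg)⟩, Subtype.ext ha⟩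
  have hHcard : Nat.card H = 192 := by
    rw [hH, ← Nat.card_congr (MonoidHom.ofInjective hj).toEquiv, hC₀]
    exact card_centralizer_values.2.2.2
  -- the quotient by the involution
  let jy : W := j ⟨y0, Subgroup.mem_centralizer_singleton_iff.2 hye⟩
  let je : W := j ⟨e0, Subgroup.mem_centralizer_singleton_iff.2 rfl⟩
  have hje : ∀ g : W, g * je = je * g := fun g =>
    Subtype.ext (Subgroup.mem_centralizer_singleton_iff.1 g.2)
  set Z := Subgroup.zpowers je with hZ
  have hZn : Z.Normal := ⟨fun z hz g => by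
    obtain ⟨k, rfl⟩ := Subgroup.mem_zpowers_iff.1 hz
    rw [(Commute.zpow_right (hje g) k).eq, mul_inv_cancel_right]
    exact hz⟩
  have hje2 : je * je = 1 := by
    rw [← map_mul, ← map_one j]
    exact congrArg j (Subtype.ext he2)
  have hje1 : je ≠ 1 := fun e => he1 (congrArg Subtype.val (hj (e.trans (map_one j).symm)))
  have hZcard : Nat.card Z = 2 := by
    rw [hZ, Nat.card_zpowers]
    exact orderOf_eq_prime (by rw [pow_two]; exact hje2) hje1
  have hZH : Z ≤ H := by rw [hZ, Subgroup.zpowers_le]; exact ⟨_, rfl⟩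
  have hZmem : ∀ z ∈ Z, z = 1 ∨ z = je := by
    intro z hz
    obtain ⟨n, hn⟩ := mem_powers_iff_mem_zpowers.2 hz
    replace hn : je ^ n = z := hn
    rw [← hn]
    rcases Nat.even_or_odd n with ⟨m, rfl⟩ | ⟨m, rfl⟩
    · left; rw [← two_mul, pow_mul, pow_two, hje2, one_pow]
    · right; rw [pow_succ, pow_mul, pow_two, hje2, one_pow, one_mul]
  set π := QuotientGroup.mk' Z with hπ
  have hπeq : ∀ a b : W, π a = π b → a = b ∨ a = b * je := by
    intro a b h
    obtain ⟨z, hz, hb⟩ := (QuotientGroup.mk'_eq_mk' Z).1 h.symm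
    rcases hZmem z hz with rfl | rfl
    · exact Or.inl (by rw [← hb, mul_one])
    · exact Or.inr hb.symm
  have hQcard : 2 * Nat.card (W ⧸ Z) = Nat.card W := by
    rw [Subgroup.card_eq_card_quotient_mul_card_subgroup Z, hZcard, mul_comm]
  -- involutions with fixed points
  have hfuse : ∀ b : C₀, TType (b : A8) → ∀ g : W, π g * π (j b) = π (j b) * π g → g ∈ H := by
    intro b hb g hg
    rw [← map_mul, ← map_mul] at hg
    refine hmem g (range_of_fuse_t hθ.inj hT hb ?_)
    rcases hπeq _ _ hg with h | h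
    · have h' : g * j b * g⁻¹ = j b := by rw [h]; group
      exact ⟨(b : A8), (congrArg Subtype.val h').symm⟩
    · have h' : g * j b * g⁻¹ = j b * je := by
        rw [h, mul_assoc (j b) g je, hje g]; group
      exact ⟨(b : A8) * e0, by rw [map_mul]; exact (congrArg Subtype.val h').symm⟩
  -- the Sylow 2-subgroup
  have hv0 : v0 ∈ subS := mem_subS.2 ⟨1, by norm_num, el_gens.1⟩
  set S₀ := (subS.subgroupOf C₀).map j with hS₀
  have hS₀card : Nat.card S₀ = 2 ^ 6 := by
    rw [hS₀, Subgroup.card_map_of_injective hj,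
      Nat.card_congr (Subgroup.subgroupOfEquivOfLe subS_le).toEquiv, card_subS]
    norm_num
  have hno128 : ¬ 2 ^ 7 ∣ Nat.card W := by
    intro hd
    obtain ⟨K, hK, hle⟩ := Sylow.exists_subgroup_card_pow_succ (p := 2) (n := 6) hd hS₀card
    have : (S₀.subgroupOf K).Normal := by
      apply Subgroup.normal_of_index_eq_two
      have h := Subgroup.relIndex_mul_index hle
      have h1 := S₀.card_mul_index
      have h2 := K.card_mul_index
      have hr := (S₀.subgroupOf K).card_mul_index
      rw [Nat.card_congr (Subgroup.subgroupOfEquivOfLe hle).toEquiv, hS₀card, hK] at hr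
      omega
    have hKH : K ≤ H := by
      intro x hx
      let v : C₀ := ⟨v0, subS_le hv0⟩
      refine hmem x (range_of_fuse_t hθ.inj hT tType_t0.2.1 ?_)
      have hvS : j v ∈ S₀ := ⟨v, hv0, rfl⟩
      have := (Subgroup.normal_subgroupOf_iff hle).1 this (j v) x hvS hx
      obtain ⟨c, -, hc⟩ := this
      exact ⟨(c : A8), congrArg Subtype.val hc⟩
    have h := Subgroup.card_dvd_of_le hKH
    rw [hK, hHcard] at h
    norm_num at h
  have hdvd : 192 ∣ Nat.card W := hHcard ▸ Subgroup.card_subgroup_dvd_card H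
  -- the element of order three
  have hjy3 : jy ^ 3 = 1 := by
    rw [← map_pow, ← map_one j]
    exact congrArg j (Subtype.ext h3)
  have hy' : π jy ≠ 1 := by
    intro h
    rcases hπeq jy 1 (by rw [h, map_one]) with h' | h'
    · exact hy1 (congrArg Subtype.val (hj (h'.trans (map_one j).symm)))
    · rw [one_mul] at h'
      have e : y0 = e0 := congrArg Subtype.val (hj h')
      rw [e, pow_succ, pow_two, he2, one_mul] at h3
      exact he1 h3
  have hyo : orderOf (π jy) = 3 := orderOf_eq_prime (by rw [← map_pow, hjy3, map_one]) hy'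
  set X := Subgroup.zpowers (π jy) with hX
  have hXc : Nat.card X = 3 := by rw [hX, Nat.card_zpowers, hyo]
  have hcent : Subgroup.centralizer (X : Set (W ⧸ Z)) = X := by
    apply le_antisymm
    · intro x hx
      obtain ⟨g, rfl⟩ := QuotientGroup.mk'_surjective Z x
      have hg := Subgroup.mem_centralizer_iff.1 hx (π jy) (Subgroup.mem_zpowers _)
      rw [← map_mul, ← map_mul] at hg
      have hgy : g * jy = jy * g := by
        rcases hπeq _ _ hg with h | h
        · exact h.symm
        · exfalso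
          have h' : g⁻¹ * jy * g = jy * je := by rw [mul_assoc, h]; group
          have h'' : (jy * je) ^ 3 = 1 := by
            rw [← h']
            calc (g⁻¹ * jy * g) ^ 3 = g⁻¹ * jy ^ 3 * g := by simp [pow_succ, mul_assoc]
              _ = 1 := by rw [hjy3]; group
          rw [Commute.mul_pow (hje jy), hjy3, one_mul, pow_succ, pow_two, hje2, one_mul] at h''
          exact hje1 h''
      obtain ⟨a, ha⟩ := hmem g (cent_le_of_isConj isConj_c33_y0 hθ.c33_le
        (Subgroup.mem_centralizer_singleton_iff.2 (congrArg Subtype.val hgy)))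
      obtain ⟨n, hn⟩ := cent_y0_e0 (a := (a : A8))
        (hθ.inj (by
          have := congrArg Subtype.val hgy
          rw [← ha] at this
          rw [map_mul, map_mul]; exact this))
        (Subgroup.mem_centralizer_singleton_iff.1 a.2)
      have : g = (jy * je) ^ n := by
        rw [← ha, ← map_mul, ← map_pow]
        exact congrArg j (Subtype.ext (by rw [SubgroupClass.coe_pow]; exact hn))
      rw [this, map_pow, map_mul,
        show π je = 1 from (QuotientGroup.eq_one_iff je).2 (Subgroup.mem_zpowers je), mul_one]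
      exact Subgroup.npow_mem_zpowers _ _
    · intro x hx
      rw [Subgroup.mem_centralizer_iff]
      intro y hy
      obtain ⟨a, rfl⟩ := Subgroup.mem_zpowers_iff.1 hx
      obtain ⟨b, rfl⟩ := Subgroup.mem_zpowers_iff.1 hy
      exact (Commute.zpow_zpow_self _ _ _).eq
  suffices hWH : Nat.card W = 192 by
    intro g hg
    have htop : H = ⊤ := Subgroup.eq_top_of_card_eq H (hHcard.trans hWH.symm)
    obtain ⟨a, ha⟩ := htop ▸ (Subgroup.mem_top (⟨g, hg⟩ : W))
    exact ⟨(a : A8), congrArg Subtype.val ha⟩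
  have hcent' : Subgroup.centralizer ({π jy} : Set (W ⧸ Z)) = Subgroup.zpowers (π jy) := by
    rw [← Subgroup.centralizer_closure, ← Subgroup.zpowers_eq_closure]
    exact hcent
  rcases Cfsg.Agent.Lib.H59.SelfThree.isShape hyo hcent' with
    ⟨N, hN, hnil, hN3, hq⟩ | ⟨N, hN, -, hexp, ⟨iso⟩⟩ | ⟨-, h168⟩
  · -- nilpotent kernel
    have hm : Nat.card ((W ⧸ Z) ⧸ N) = 3 ∨ Nat.card ((W ⧸ Z) ⧸ N) = 6 := by
      rwa [← Subgroup.index_eq_card]
    have hVle : subV ≤ C₀ := fun g hg => subS_le (by
      obtain ⟨i, hi, rfl⟩ := mem_subV.1 hg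
      exact mem_subS.2 ⟨i, by omega, rfl⟩)
    let f : subV →* (W ⧸ Z) ⧸ N :=
      (QuotientGroup.mk' N).comp (π.comp (j.comp (Subgroup.inclusion hVle)))
    obtain ⟨u, huN, hu1⟩ : ∃ u : subV, f u = 1 ∧ u ≠ 1 := by
      by_contra hno
      push Not at hno
      have hinj : Function.Injective f := (injective_iff_map_eq_one f).2 hno
      have := Subgroup.card_dvd_of_injective f hinj
      rw [card_subV] at this
      rcases hm with h | h <;> rw [h] at this <;> norm_num at this
    let b : C₀ := Subgroup.inclusion hVle u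
    have hbN : π (j b) ∈ N := (QuotientGroup.eq_one_iff _).1 huN
    have hb : TType (b : A8) := tType_subV u.2 fun e => hu1 (Subtype.ext e)
    have hb2 : π (j b) * π (j b) = 1 := by
      rw [← map_mul, ← map_mul, ← map_one (π.comp j)]
      exact congrArg (π.comp j) (Subtype.ext hb.2.1)
    have hp : IsPGroup 2 N := by
      rw [IsPGroup.iff_card]
      refine ⟨_, Nat.eq_prime_pow_of_unique_prime_dvd Nat.card_pos.ne' fun {d} hd hdN => ?_⟩
      by_contra hd2
      have : Fact d.Prime := ⟨hd⟩
      obtain ⟨x, hx⟩ := exists_prime_orderOf_dvd_card' d hdN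
      have hco : (orderOf (⟨π (j b), hbN⟩ : N)).Coprime (orderOf x) := by
        rw [hx]
        refine Nat.Coprime.coprime_dvd_left (orderOf_dvd_of_pow_eq_one (n := 2)
          (Subtype.ext (by rw [SubgroupClass.coe_pow, pow_two]; exact hb2))) ?_
        exact (Nat.coprime_primes Nat.prime_two hd).2 (Ne.symm hd2)
      have hcomm : (x : W ⧸ Z) * π (j b) = π (j b) * (x : W ⧸ Z) :=
        (congrArg Subtype.val (Cfsg.Agent.Lib.NilpotentPerm.commute_of_coprime_orderOf hnil hco)).symm
      obtain ⟨g, hg⟩ := QuotientGroup.mk'_surjective Z (x : W ⧸ Z)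
      rw [← hg] at hcomm
      have hgH := hfuse b hb g hcomm
      have hxH : (x : W ⧸ Z) ∈ H.map π := ⟨g, hgH, hg⟩
      have hd192 : d ∣ 192 := by
        rw [← hx, ← Subgroup.orderOf_coe, ← hHcard]
        rw [← Subgroup.orderOf_mk (x : W ⧸ Z) hxH]
        exact (orderOf_dvd_natCard _).trans (Subgroup.card_map_dvd H π)
      have hd3 : d ≠ 3 := fun e => hN3 (e ▸ hdN)
      have : d ∣ 2 ^ 6 * 3 := by norm_num; exact hd192
      rcases hd.dvd_mul.1 this with h | h
      · exact hd2 ((Nat.prime_dvd_prime_iff_eq hd Nat.prime_two).1 (hd.dvd_of_dvd_pow h))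
      · exact hd3 ((Nat.prime_dvd_prime_iff_eq hd Nat.prime_three).1 h)
    obtain ⟨k, hk⟩ := IsPGroup.iff_card.1 hp
    have hWc : Nat.card W = 2 * (Nat.card ((W ⧸ Z) ⧸ N) * 2 ^ k) := by
      rw [← hQcard, Subgroup.card_eq_card_quotient_mul_card_subgroup N, hk]
    rw [hWc] at hdvd hno128 ⊢
    have hk6 : k ≤ 6 := by
      by_contra hk6
      apply hno128
      exact dvd_mul_of_dvd_right (dvd_mul_of_dvd_right (pow_dvd_pow 2 (by omega)) _) _
    rcases hm with h | h <;> rw [h] at hdvd hno128 ⊢ <;> interval_cases k <;> norm_num at *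
  · -- the alternating group of degree five on top
    exfalso
    have hp : IsPGroup 2 N := fun n => ⟨1, Subtype.ext (by
      rw [SubgroupClass.coe_pow, pow_one]; exact hexp n n.2)⟩
    obtain ⟨k, hk⟩ := IsPGroup.iff_card.1 hp
    have h60 : Nat.card ((W ⧸ Z) ⧸ N) = 60 := by
      rw [Nat.card_congr iso.toEquiv, nat_card_alternatingGroup, Nat.card_fin]; rfl
    have hWc : Nat.card W = 2 * (60 * 2 ^ k) := by
      rw [← hQcard, Subgroup.card_eq_card_quotient_mul_card_subgroup N, hk, h60]
    rw [hWc] at hdvd hno128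
    have hk3 : k = 3 := by
      have hk6 : k ≤ 6 := by
        by_contra hk6
        apply hno128
        exact dvd_mul_of_dvd_right (dvd_mul_of_dvd_right (pow_dvd_pow 2 (by omega)) _) _
      interval_cases k <;> norm_num at *
    subst hk3
    let σ : Function.End N := fun n => MulAut.conjNormal (π jy) n
    have hσ : σ ^ 3 ^ 1 = 1 := by
      funext n
      apply Subtype.ext
      show π jy * (π jy * (π jy * (n : W ⧸ Z) * (π jy)⁻¹) * (π jy)⁻¹) * (π jy)⁻¹ = n
      have h : π jy ^ 3 = 1 := by rw [← map_pow, hjy3, map_one]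
      calc (π jy) * ((π jy) * ((π jy) * (n : W ⧸ Z) * (π jy)⁻¹) * (π jy)⁻¹) * (π jy)⁻¹
          = π jy ^ 3 * n * (π jy ^ 3)⁻¹ := by simp [pow_succ, mul_assoc]
        _ = n := by rw [h, inv_one, one_mul, mul_one]
    classical
    letI : Fintype N := Fintype.ofFinite N
    haveI : Fact (Nat.Prime 3) := ⟨Nat.prime_three⟩
    have hmod := Equiv.Perm.card_fixedPoints_modEq hσ
    have hfix : Fintype.card (Function.fixedPoints σ) = 1 := by
      rw [Fintype.card_eq_one_iff]
      refine ⟨⟨1, Subtype.ext (by show π jy * 1 * (π jy)⁻¹ = 1; group)⟩, ?_⟩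
      rintro ⟨n, hn⟩
      apply Subtype.ext
      apply Subtype.ext
      show (n : W ⧸ Z) = 1
      have hn' : π jy * n * (π jy)⁻¹ = n := congrArg Subtype.val hn
      have hnX : (n : W ⧸ Z) ∈ X := by
        rw [← hcent, Subgroup.mem_centralizer_iff]
        intro y hy
        obtain ⟨a, rfl⟩ := Subgroup.mem_zpowers_iff.1 hy
        exact (Commute.zpow_left (mul_inv_eq_iff_eq_mul.1 hn' : Commute (π jy) (n : W ⧸ Z)) a).eq
      have d1 : orderOf (n : W ⧸ Z) ∣ 3 := hXc ▸ (Subgroup.orderOf_mk (n : W ⧸ Z) hnX) ▸ orderOf_dvd_natCard _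
      have d2 : orderOf (n : W ⧸ Z) ∣ 2 := orderOf_dvd_of_pow_eq_one (hexp n n.2)
      exact orderOf_eq_one_iff.1 (Nat.eq_one_of_dvd_coprimes (by norm_num) d1 d2)
    rw [hfix, ← Nat.card_eq_fintype_card, hk] at hmod
    exact absurd hmod (by decide)
  · exfalso
    rw [← hQcard, h168] at hdvd
    exact absurd hdvd (by norm_num)

end Cfsg.Agent.Lib.AltEightThree6
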