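import Cfsg.Agent.Lib.AltEightThree6.CentTCore
import Cfsg.Agent.Lib.LinGroup.ProjLine

/-!
The centraliser of an involution with fixed points lies in the copy of the alternating group
(brick CentT of row S3329, written by helper35).
-/

set_option autoImplicit false
set_option linter.unusedSectionVars false
set_option linter.style.haveILetI false

namespace Cfsg.Agent.Lib.AltEightThree6

open Subgroup Equiv Cfsg

universe u

namespace CentTB

variable {G : Type u} [Group G] [Finite G] {θ : A8 →* G}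

theorem mem_zpowers_two {H : Type*} [Group H] {t x : H} (ht : t * t = 1) (hx : x ∈ zpowers t) :
    x = 1 ∨ x = t := by
  obtain ⟨k, rfl⟩ := hx
  have h2 : t ^ (2 : ℤ) = 1 := by rw [zpow_two, ht]
  rcases Int.even_or_odd k with ⟨j, rfl⟩ | ⟨j, rfl⟩
  · left; show t ^ (j + j) = 1; rw [← two_mul, zpow_mul, h2, one_zpow]
  · right; show t ^ (2 * j + 1) = t; rw [zpow_add, zpow_mul, h2, one_zpow, one_mul, zpow_one]

/-- The odd core of the centraliser of `θ t0` with the consequence of the Z*-theorem. -/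
theorem exists_core (E : Emb θ) :
    ∃ Q : Subgroup G, Odd (Nat.card Q) ∧ (∀ q ∈ Q, Commute q (θ t0)) ∧
      (∀ w, Commute w (θ t0) → ∀ q ∈ Q, w * q * w⁻¹ ∈ Q) ∧
      ∀ g, Commute g (θ t0) → θ v0 * g * (θ v0)⁻¹ * g⁻¹ ∈ Q ∨
        θ t0 * (θ v0 * g * (θ v0)⁻¹ * g⁻¹) ∈ Q := by
  haveI : Fact (Nat.Prime 2) := ⟨Nat.prime_two⟩
  set W := centralizer ({θ t0} : Set G)
  have htt : θ t0 * θ t0 = 1 := by rw [← map_mul, sq_t0, map_one]
  have ht1 : θ t0 ≠ 1 := fun e => t0_ne (E.inj (by rw [e, map_one]))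
  let t : W := ⟨θ t0, mem_centralizer_singleton_iff.2 rfl⟩
  let v : W := ⟨θ v0, mem_centralizer_singleton_iff.2 (commute_θ comm_tv.symm).eq⟩
  have ho : orderOf t = 2 := by
    rw [Subgroup.orderOf_mk]
    exact orderOf_eq_prime (by rw [pow_two, htt]) ht1
  haveI : (zpowers t).Normal := ⟨fun x hx w => by
    obtain ⟨k, rfl⟩ := hx
    have hc : Commute w t := Subtype.ext (mem_centralizer_singleton_iff.1 w.2)
    refine ⟨k, ?_⟩
    show t ^ k = w * t ^ k * w⁻¹
    rw [(hc.zpow_right k).eq, mul_inv_cancel_right]⟩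
  set π := QuotientGroup.mk' (zpowers t)
  have hiso : IsIsolatedInvolution (π v) := by
    refine ⟨orderOf_eq_prime ?_ ?_, ?_⟩
    · rw [pow_two, ← map_mul, show v * v = 1 from Subtype.ext (by
        show θ v0 * θ v0 = 1
        rw [← map_mul, sq_v0, map_one]), map_one]
    · intro e
      rcases mem_zpowers_two (Subtype.ext htt) ((QuotientGroup.eq_one_iff v).1 e) with h | h
      · exact v0_ne.1 (E.inj ((congrArg Subtype.val h).trans (map_one θ).symm))
      · exact v0_ne.2 (E.inj (congrArg Subtype.val h))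
    · intro gb
      obtain ⟨g, rfl⟩ := QuotientGroup.mk'_surjective (zpowers t) gb
      intro hc
      rw [← map_inv, ← map_mul, ← map_mul] at hc ⊢
      set u := g * v * g⁻¹ with hu
      have hmem : v * u * v⁻¹ * u⁻¹ ∈ zpowers t := (QuotientGroup.eq_one_iff _).1 (by
        show π (v * u * v⁻¹ * u⁻¹) = 1
        rw [map_mul, map_mul, map_mul, map_inv, map_inv, hc.eq, mul_inv_cancel_right, mul_inv_cancel])
      set T' := θ t0
      set U := (u : G)
      set V := θ v0
      have htU : Commute T' U := (mem_centralizer_singleton_iff.1 u.2).symm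
      have htV : Commute T' V := commute_θ comm_tv
      have hUU : U * U = 1 := by
        show ((u * u : W) : G) = ((1 : W) : G)
        congr 1
        rw [hu]
        calc g * v * g⁻¹ * (g * v * g⁻¹) = g * (v * v) * g⁻¹ := by group
          _ = 1 := by
            rw [show v * v = 1 from Subtype.ext (by
              show θ v0 * θ v0 = 1
              rw [← map_mul, sq_v0, map_one])]
            group
      have hVV : V * V = 1 := by rw [← map_mul, sq_v0, map_one]
      have hP : ∀ {a : G}, a * a = 1 → IsPGroup 2 (zpowers a) := fun {a} ha x => by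
        refine ⟨1, ?_⟩
        rcases mem_zpowers_two ha x.2 with h | h <;> exact Subtype.ext (by simp [h, pow_two, ha])
      set A := zpowers T' ⊔ zpowers U
      have hA : IsPGroup 2 A := by
        refine IsPGroup.to_sup_of_normal_left' (hP htt) (hP hUU) ?_
        rw [zpowers_le]
        refine centralizer_le_normalizer _ ?_
        rintro x ⟨k, rfl⟩
        exact (htU.zpow_left k).eq
      have hK : IsPGroup 2 ↥(A ⊔ zpowers V) := by
        refine IsPGroup.to_sup_of_normal_left' hA (hP hVV) ?_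
        have hVA : ∀ x ∈ A, V * x * V⁻¹ ∈ A := by
          suffices A ≤ A.comap (MulAut.conj V).toMonoidHom from fun x hx => this hx
          refine sup_le (zpowers_le.2 ?_) (zpowers_le.2 ?_)
          · show V * T' * V⁻¹ ∈ A
            rw [htV.symm.eq, mul_inv_cancel_right]
            exact mem_sup_left (mem_zpowers _)
          · show V * U * V⁻¹ ∈ A
            have h1 : V * U * V⁻¹ * U⁻¹ ∈ zpowers T' := by
              obtain ⟨k, hk⟩ := hmem
              exact ⟨k, congrArg Subtype.val hk⟩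
            have h2 := mul_mem (mem_sup_left h1 : V * U * V⁻¹ * U⁻¹ ∈ A)
              (mem_sup_right (mem_zpowers U) : U ∈ A)
            rwa [inv_mul_cancel_right] at h2
        have hVi : V⁻¹ = V := inv_eq_of_mul_eq_one_right hVV
        rw [zpowers_le, mem_normalizer_iff]
        refine fun x => ⟨hVA x, fun hx => ?_⟩
        have h := hVA _ hx
        have e : V * (V * x * V⁻¹) * V⁻¹ = V * V * x * (V * V)⁻¹ := by group
        rwa [e, hVV, one_mul, inv_one, mul_one] at h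
      have hKW : ∀ k ∈ A ⊔ zpowers V, Commute k T' := fun k hk =>
        mem_centralizer_singleton_iff.1 ((sup_le (sup_le (zpowers_le.2 t.2) (zpowers_le.2 u.2))
          (zpowers_le.2 v.2) : A ⊔ zpowers V ≤ W) hk)
      obtain ⟨h, hh, hKT⟩ := conj_into E _ hK hKW
      obtain ⟨p, hp, hpe⟩ := hKT V (mem_sup_right (mem_zpowers V))
      obtain ⟨p', hp', hpe'⟩ := hKT U (mem_sup_left (mem_sup_right (mem_zpowers U)))
      have hg : Commute (h * (g : G)) T' :=
        hh.mul_left (mem_centralizer_singleton_iff.1 g.2)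
      have hpe'' : h * (g : G) * V * (h * (g : G))⁻¹ = θ p' := by
        rw [hpe', show U = (g : G) * V * (g : G)⁻¹ from rfl]
        group
      have hcases : U = V ∨ U = V * T' := by
        have e1 := fusion E hh hp hpe.symm
        have e2 := fusion E hg hp' hpe''
        have hback : ∀ {a b : G}, h * a * h⁻¹ = h * b * h⁻¹ → a = b := fun {a b} e =>
          mul_left_cancel (mul_right_cancel e)
        have hT : h * T' * h⁻¹ = T' := by rw [hh.eq, mul_inv_cancel_right]
        have ev : θ (v0 * t0) = V * T' := map_mul θ v0 t0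
        rcases e1 with r1 | r1 <;> rcases e2 with r2 | r2 <;> rw [r1] at hpe <;> rw [r2] at hpe'
        · exact Or.inl (hback (hpe'.symm.trans hpe))
        · refine Or.inr (hback ?_)
          rw [← hpe', ev, show h * (V * T') * h⁻¹ = h * V * h⁻¹ * (h * T' * h⁻¹) by group, ← hpe, hT]
        · refine Or.inr (hback ?_)
          rw [← hpe', show h * (V * T') * h⁻¹ = h * V * h⁻¹ * (h * T' * h⁻¹) by group, ← hpe, hT, ev,
            mul_assoc, htt, mul_one]
        · exact Or.inl (hback (hpe'.symm.trans hpe))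
      rcases hcases with e | e
      · rw [show u = v from Subtype.ext e]
      · rw [show u = v * t from Subtype.ext e, map_mul,
          show π t = 1 from (QuotientGroup.eq_one_iff t).2 (mem_zpowers t), mul_one]
  refine ⟨(oddCore W).map W.subtype, ?_, ?_, ?_, ?_⟩
  · rw [card_map_of_injective W.subtype_injective]
    exact PLayerBasic.oddCore_odd
  · rintro _ ⟨q, -, rfl⟩
    exact mem_centralizer_singleton_iff.1 q.2
  · rintro w hw _ ⟨q, hq, rfl⟩
    haveI : (oddCore W).Normal := by unfold oddCore; infer_instance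
    exact ⟨⟨w, mem_centralizer_singleton_iff.2 hw.eq⟩ * q * ⟨w, mem_centralizer_singleton_iff.2 hw.eq⟩⁻¹,
      (inferInstance : (oddCore W).Normal).conj_mem q hq _, rfl⟩
  · intro g hg
    have h := BrauerSuzukiQ.zstar hiso (π ⟨g, mem_centralizer_singleton_iff.2 hg.eq⟩)
    rw [← map_inv, ← map_inv, ← map_mul, ← map_mul, ← map_mul] at h
    rcases PronormalSp1.mem_oddCore_or_of_mk_mem ho h with h' | h'
    · exact Or.inl ⟨_, h', rfl⟩
    · exact Or.inr ⟨_, h', rfl⟩

/-- The odd core meets the copy trivially. -/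
theorem core_inf_range (E : Emb θ) {Q : Subgroup G} (hodd : Odd (Nat.card Q))
    (hQt : ∀ q ∈ Q, Commute q (θ t0)) (hnorm : ∀ w, Commute w (θ t0) → ∀ q ∈ Q, w * q * w⁻¹ ∈ Q)
    {q : G} (hq : q ∈ Q) (hqr : q ∈ θ.range) : q = 1 := by
  haveI : Fact (Nat.Prime 3) := ⟨Nat.prime_three⟩
  obtain ⟨p, rfl⟩ := hqr
  set C := cA t0
  set K := Q.comap θ
  have hKodd : Odd (Nat.card K) := by
    refine hodd.of_dvd_nat ?_
    rw [← card_map_of_injective (K := K) E.inj]
    exact Subgroup.card_dvd_of_le (map_comap_le θ Q)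
  have hKC : K ≤ C := fun a ha => mem_centralizer_singleton_iff.2 (pre E (hQt _ ha))
  have hd : Nat.card K ∣ 96 := card_centralizer_values.2.2.1 ▸ Subgroup.card_dvd_of_le hKC
  have hK3 : Nat.card K ∣ 3 := by
    refine Nat.Coprime.dvd_of_dvd_mul_left ?_ (by simpa using hd : Nat.card K ∣ 32 * 3)
    exact (Nat.Coprime.pow_right 5 (Nat.coprime_two_right.2 hKodd) : _)
  rcases (Nat.dvd_prime Nat.prime_three).1 hK3 with h1 | h3
  · have := (Subgroup.card_eq_one.1 h1)
    have hp : p ∈ K := hq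
    rw [this, mem_bot] at hp
    rw [hp, map_one]
  exfalso
  haveI : (K.subgroupOf C).Normal := ⟨fun x hx w => by
    have hxK : θ (x : A8) ∈ Q := mem_subgroupOf.1 hx
    have := hnorm _ (commute_θ (mem_centralizer_singleton_iff.1 w.2)) _ hxK
    rw [mem_subgroupOf]
    show θ ((w : A8) * x * (w : A8)⁻¹) ∈ Q
    simpa using this⟩
  obtain ⟨S, hS⟩ := (IsPGroup.of_card (n := 1) (by
    rw [Nat.card_congr (subgroupOfEquivOfLe hKC).toEquiv, h3, pow_one]) :
      IsPGroup 3 (K.subgroupOf C)).exists_le_sylow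
  have hScard : ∀ S : Sylow 3 C, Nat.card (S : Subgroup C) = 3 := fun S => by
    rw [Sylow.card_eq_multiplicity, card_centralizer_values.2.2.1,
      show (96 : ℕ) = 3 ^ 1 * 32 by norm_num,
      Nat.factorization_mul (by norm_num) (by norm_num), Nat.Prime.factorization_pow Nat.prime_three]
    simp [Nat.factorization_eq_zero_of_not_dvd (show ¬ 3 ∣ 32 by norm_num)]
  have hSK : (S : Subgroup C) = K.subgroupOf C := (Subgroup.eq_of_le_of_card_ge hS (by
    rw [hScard, Nat.card_congr (subgroupOfEquivOfLe hKC).toEquiv, h3])).symm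
  haveI : (S : Subgroup C).Normal := hSK ▸ (inferInstance : (K.subgroupOf C).Normal)
  obtain ⟨-, -, hw, hw1, hc1, hc⟩ := c3_act
  have hcC : c3 ∈ C := mem_centralizer_singleton_iff.2 comm_t.2.2.1
  obtain ⟨S', hS'⟩ := (IsPGroup.of_card (n := 1) (by
    rw [Nat.card_zpowers, Subgroup.orderOf_mk, orderOf_eq_prime hc hc1, pow_one]) :
      IsPGroup 3 (zpowers (⟨c3, hcC⟩ : C))).exists_le_sylow
  obtain ⟨g, hg⟩ := MulAction.exists_smul_eq C S S'
  have hcK : c3 ∈ K := by
    have h := hS' (mem_zpowers _)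
    rw [← hg, Sylow.smul_eq_of_normal, hSK, mem_subgroupOf] at h
    exact h
  have hwK : w1 ∈ K := by
    rw [← hw]
    refine mul_mem hcK ?_
    have := hnorm _ (commute_θ comm_t.1) _ (inv_mem hcK : c3⁻¹ ∈ K)
    show θ (w0 * c3⁻¹ * w0⁻¹) ∈ Q
    simpa using this
  exact hw1 (eq_one_of_sq hKodd hwK sq_w1)

theorem conj_inv_mul {H : Type*} [Group H] {r s q : H} (hr : r * q * r⁻¹ = q⁻¹)
    (hs : s * q * s⁻¹ = q) : r * s * q * (r * s)⁻¹ = q⁻¹ := by
  calc r * s * q * (r * s)⁻¹ = r * (s * q * s⁻¹) * r⁻¹ := by group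
    _ = q⁻¹ := by rw [hs, hr]

theorem conj_fix_mul {H : Type*} [Group H] {r s q : H} (hr : r * q * r⁻¹ = q)
    (hs : s * q * s⁻¹ = q⁻¹) : r * s * q * (r * s)⁻¹ = q⁻¹ := by
  calc r * s * q * (r * s)⁻¹ = r * (s * q * s⁻¹) * r⁻¹ := by group
    _ = (r * q * r⁻¹)⁻¹ := by rw [hs]; group
    _ = q⁻¹ := by rw [hr]

theorem conj_of_commute {H : Type*} [Group H] {r q : H} (h : Commute r q) : r * q * r⁻¹ = q := by
  rw [h.eq, mul_inv_cancel_right]

/-- An element of the form used for the embedding in the quotient. -/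
def F3 (a b c : Fin 2) : A8 := v0 ^ (a : ℕ) * w0 ^ (b : ℕ) * w1 ^ (c : ℕ)

theorem F3_mul : ∀ a b c a' b' c' : Fin 2,
    F3 a b c * F3 a' b' c' = F3 (a + a') (b + b') (c + c') := by decide +kernel

theorem F3_one : ∀ a b c : Fin 2, F3 a b c = 1 → a = 0 ∧ b = 0 ∧ c = 0 := by decide +kernel

theorem F3_inv : ∀ a b c : Fin 2, F3 a b c * F3 a b c = 1 := by decide +kernel

theorem F3_e : ∀ a b c : Fin 2, F3 a b c * e0 = e0 * F3 a b c := by decide +kernel

/-- The elementary abelian group `⟨v0, w0, w1⟩`. -/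
def R3 : Subgroup A8 where
  carrier := {p | ∃ a b c : Fin 2, F3 a b c = p}
  one_mem' := ⟨0, 0, 0, rfl⟩
  mul_mem' := by
    rintro _ _ ⟨a, b, c, rfl⟩ ⟨a', b', c', rfl⟩
    exact ⟨_, _, _, (F3_mul a b c a' b' c').symm⟩
  inv_mem' := by
    rintro _ ⟨a, b, c, rfl⟩
    exact ⟨a, b, c, (inv_eq_of_mul_eq_one_right (F3_inv a b c)).symm⟩

theorem card_R3 : Nat.card R3 = 8 := by
  refine (Nat.card_eq_of_bijective (fun x : Fin 2 × Fin 2 × Fin 2 =>
    (⟨F3 x.1 x.2.1 x.2.2, x.1, x.2.1, x.2.2, rfl⟩ : R3)) ⟨?_, ?_⟩).symm.trans (by simp)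
  · intro x y h
    have h' : F3 x.1 x.2.1 x.2.2 = F3 y.1 y.2.1 y.2.2 := congrArg Subtype.val h
    revert h'
    revert x y
    decide +kernel
  · rintro ⟨_, a, b, c, rfl⟩
    exact ⟨(a, b, c), rfl⟩

theorem y6_order : orderOf (y6 * e0) = 6 := by
  refine orderOf_eq_of_pow_and_pow_div_prime (by norm_num) (by decide +kernel) ?_
  intro p hp hd
  have := Nat.le_of_dvd (by norm_num) hd
  interval_cases p <;> first | (norm_num at hp; done) | (norm_num at hd; done) | decide +kernel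

theorem z6_facts : z6 * y6 = y6 * z6 ∧ z6 * e0 ≠ e0 * z6 := by decide +kernel

theorem y6_conj : IsConj c33 y6 := by
  obtain ⟨hye, hy, hy1, hee, he1⟩ := y6_facts
  rcases three_cases hy hy1 with h | h
  · exfalso
    obtain ⟨q, hq⟩ := isConj_iff.1 h
    have he : EType e0 := tType_t0.2.2
    have hc : q⁻¹ * e0 * q * c3 = c3 * (q⁻¹ * e0 * q) := by
      rw [show c3 = q⁻¹ * y6 * q by rw [← hq]; group]
      calc q⁻¹ * e0 * q * (q⁻¹ * y6 * q) = q⁻¹ * (e0 * y6) * q := by group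
        _ = q⁻¹ * (y6 * e0) * q := by rw [hye]
        _ = _ := by group
    have h1 : q⁻¹ * e0 * q ≠ 1 := fun e => he1 (by
      calc e0 = q * (q⁻¹ * e0 * q) * q⁻¹ := by group
        _ = 1 := by rw [e]; group)
    have h2 : q⁻¹ * e0 * q * (q⁻¹ * e0 * q) = 1 := by
      calc q⁻¹ * e0 * q * (q⁻¹ * e0 * q) = q⁻¹ * (e0 * e0) * q := by group
        _ = 1 := by rw [hee]; group
    have hT := ttype_of_commute_c3 h1 h2 hc
    have hTE : IsConj t0 e0 := hT.isConj.trans (isConj_iff.2 ⟨q, by group⟩)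
    obtain ⟨g, hg⟩ := isConj_iff.1 hTE
    have := Involution.card_centralizer_conj g t0
    rw [hg] at this
    obtain ⟨-, -, v3, v4⟩ := card_centralizer_values
    omega
  · exact h

theorem cent_y6 {p : A8} (h1 : Commute p y6) (h2 : Commute p e0) :
    ∃ k : ℕ, p = (y6 * e0) ^ k := by
  obtain ⟨hye, -, -, -, -⟩ := y6_facts
  set K := cA y6 ⊓ cA e0
  have h18 : Nat.card (cA y6) = 18 := by
    obtain ⟨q, hq⟩ := isConj_iff.1 y6_conj
    rw [← card_centralizer_values.2.1, ← hq]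
    exact Involution.card_centralizer_conj q c33
  have hle : zpowers (y6 * e0) ≤ K := by
    rw [zpowers_le]
    exact ⟨mem_centralizer_singleton_iff.2 ((show Commute y6 y6 from rfl).mul_left
        (show Commute e0 y6 from hye.symm)).eq,
      mem_centralizer_singleton_iff.2 ((show Commute y6 e0 from hye).mul_left
        (show Commute e0 e0 from rfl)).eq⟩
  have h6 : 6 ∣ Nat.card K := by
    have := Subgroup.card_dvd_of_le hle
    rwa [Nat.card_zpowers, y6_order] at this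
  have hd : Nat.card K ∣ 18 := h18 ▸ Subgroup.card_dvd_of_le inf_le_left
  have hne : Nat.card K ≠ 18 := fun e => by
    have h := Subgroup.eq_of_le_of_card_ge (inf_le_left : K ≤ cA y6) (le_of_eq (h18.trans e.symm))
    have hz : z6 ∈ K := by
      show z6 ∈ cA y6 ⊓ cA e0
      rw [h]
      exact mem_centralizer_singleton_iff.2 z6_facts.1
    exact z6_facts.2 (mem_centralizer_singleton_iff.1 hz.2)
  have hK : Nat.card K = 6 := by
    obtain ⟨m, hm⟩ := h6
    have h3 : m ∣ 3 := by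
      rw [hm, show (18 : ℕ) = 6 * 3 by norm_num] at hd
      exact (Nat.mul_dvd_mul_iff_left (by norm_num)).1 hd
    rcases (Nat.dvd_prime Nat.prime_three).1 h3 with r | r <;> rw [r] at hm <;> omega
  have hp : p ∈ zpowers (y6 * e0) := by
    rw [Subgroup.eq_of_le_of_card_ge hle (by rw [hK, Nat.card_zpowers, y6_order])]
    exact ⟨mem_centralizer_singleton_iff.2 h1.eq, mem_centralizer_singleton_iff.2 h2.eq⟩
  obtain ⟨k, hk⟩ := mem_zpowers_iff_mem_range_orderOf.1 hp |> Finset.mem_image.1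
  exact ⟨k, hk.2.symm⟩

/-- Three elements of odd order centralising `θ e0` cannot separate `⟨v, w0, w1⟩`. -/
theorem no_three (E : Emb θ) {q1 q2 q3 : G}
    (hq : ∀ q ∈ [q1, q2, q3], q ≠ 1 ∧ Odd (orderOf q) ∧ Commute q (θ e0))
    (hsep : ∀ a b c : Fin 2, F3 a b c = 1 ∨ ∃ q ∈ [q1, q2, q3],
      θ (F3 a b c) * q * (θ (F3 a b c))⁻¹ = q⁻¹) : False := by
  obtain ⟨hye, hy, hy1, hee, he1⟩ := y6_facts
  set C := centralizer ({θ e0} : Set G)
  have hee' : θ e0 * θ e0 = 1 := by rw [← map_mul, hee, map_one]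
  let e : C := ⟨θ e0, mem_centralizer_singleton_iff.2 rfl⟩
  have hecent : e ∈ center C := mem_center_iff.2 fun w =>
    Subtype.ext (mem_centralizer_singleton_iff.1 w.2)
  haveI hZn : (zpowers e).Normal := ⟨fun x hx w => by
    have := mem_center_iff.1 (zpowers_le.2 hecent hx) w
    rwa [this, mul_inv_cancel_right]⟩
  set π := QuotientGroup.mk' (zpowers e)
  let y : C := ⟨θ y6, mem_centralizer_singleton_iff.2 (commute_θ hye).eq⟩
  have hy3 : y ^ 3 = 1 := Subtype.ext (by show θ y6 ^ 3 = 1; rw [← map_pow, hy, map_one])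
  have hy1' : π y ≠ 1 := fun h => by
    rcases mem_zpowers_two (Subtype.ext hee') ((QuotientGroup.eq_one_iff y).1 h) with h | h
    · exact hy1 (E.inj ((congrArg Subtype.val h).trans (map_one θ).symm))
    · have h' : y6 = e0 := E.inj (congrArg Subtype.val h)
      rw [h', pow_succ, pow_two, hee, one_mul] at hy
      exact he1 hy
  haveI : Fact (Nat.Prime 3) := ⟨Nat.prime_three⟩
  have hX : Nat.card (zpowers (π y)) = 3 := by
    rw [Nat.card_zpowers]
    exact orderOf_eq_prime (by rw [← map_pow, hy3, map_one]) hy1'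
  have hCX : centralizer (zpowers (π y) : Set (C ⧸ zpowers e)) = zpowers (π y) := by
    refine le_antisymm (fun xb hxb => ?_) ?_
    · obtain ⟨x, rfl⟩ := QuotientGroup.mk'_surjective (zpowers e) xb
      have hc : Commute (π y) (π x) := mem_centralizer_iff.1 hxb _ (mem_zpowers _)
      have hm : x * y * x⁻¹ * y⁻¹ ∈ zpowers e := (QuotientGroup.eq_one_iff _).1 (by
        show π (x * y * x⁻¹ * y⁻¹) = 1
        rw [map_mul, map_mul, map_mul, map_inv, map_inv, hc.symm.eq, mul_inv_cancel_right,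
          mul_inv_cancel])
      have hxy : (x : G) * θ y6 = θ y6 * x := by
        rcases mem_zpowers_two (Subtype.ext hee') hm with h | h
        · exact congrArg Subtype.val (mul_inv_eq_iff_eq_mul.1 (mul_inv_eq_one.1 h))
        · exfalso
          have h1 : x * y * x⁻¹ = e * y := mul_inv_eq_iff_eq_mul.1 h
          have h2 : (e * y) ^ 3 = 1 := by
            rw [← h1, conj_pow, hy3, mul_one, mul_inv_cancel]
          rw [Commute.mul_pow (show Commute e y from (mem_center_iff.1 hecent y).symm), hy3, mul_one] at h2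
          have h3 : θ e0 ^ 3 = 1 := congrArg Subtype.val h2
          rw [pow_succ, pow_two, hee', one_mul] at h3
          exact he1 (E.inj (h3.trans (map_one θ).symm))
      obtain ⟨s, hs⟩ := isConj_iff.1 y6_conj
      obtain ⟨p, hp⟩ : (x : G) ∈ θ.range := by
        have : (θ s)⁻¹ * x * θ s ∈ θ.range := by
          refine E.c33_le (mem_centralizer_singleton_iff.2 ?_)
          rw [show θ c33 = (θ s)⁻¹ * θ y6 * θ s by rw [← hs, ← conj_θ]; group]
          calc (θ s)⁻¹ * x * θ s * ((θ s)⁻¹ * θ y6 * θ s) = (θ s)⁻¹ * (x * θ y6) * θ s := by group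
            _ = (θ s)⁻¹ * (θ y6 * x) * θ s := by rw [hxy]
            _ = _ := by group
        obtain ⟨p, hp⟩ := this
        exact ⟨s * p * s⁻¹, by rw [← conj_θ, hp]; group⟩
      obtain ⟨k, hk⟩ := cent_y6 (show Commute p y6 from pre E (hp ▸ hxy))
        (show Commute p e0 from pre E (hp ▸ mem_centralizer_singleton_iff.1 x.2))
      have hx : x = (y * e) ^ k := Subtype.ext (by
        rw [← hp, hk, map_pow, map_mul]; rfl)
      rw [hx, map_pow, map_mul, show π e = 1 from (QuotientGroup.eq_one_iff e).2 (mem_zpowers e),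
        mul_one]
      exact pow_mem (mem_zpowers _) k
    · intro a ha
      refine mem_centralizer_iff.2 fun b hb => ?_
      obtain ⟨i, rfl⟩ := ha
      obtain ⟨j, rfl⟩ := hb
      exact zpow_mul_comm _ _ _
  have h3331 := Cfsg.Agent.S3331.result _ hX hCX
  obtain ⟨N, hN, hnil, hidx⟩ | h168 : (∃ (N : Subgroup (C ⧸ zpowers e)) (_ : N.Normal),
      Group.IsNilpotent N ∧ ¬ 8 ∣ N.index) ∨ Nat.card (C ⧸ zpowers e) = 168 := by
    rcases h3331 with ⟨N, hN, hnil, -, hc⟩ | ⟨N, hN, -, hsq, hA⟩ | hP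
    · refine Or.inl ⟨N, hN, hnil, ?_⟩
      rw [Subgroup.index_eq_card]
      rcases hc with hc | ⟨⟨f⟩⟩
      · rw [hc]; norm_num
      · rw [Nat.card_congr f.toEquiv, Nat.card_perm, Nat.card_fin]; norm_num [Nat.factorial]
    · obtain ⟨f⟩ := hA
      refine Or.inl ⟨N, hN, ?_, ?_⟩
      · haveI : Fact (Nat.Prime 2) := ⟨Nat.prime_two⟩
        exact IsPGroup.isNilpotent (p := 2) fun n => ⟨1, Subtype.ext (hsq n.1 n.2)⟩
      · rw [Subgroup.index_eq_card, Nat.card_congr f.toEquiv, nat_card_alternatingGroup,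
          Nat.card_fin]
        norm_num [Nat.factorial]
    · obtain ⟨f⟩ := hP
      refine Or.inr ?_
      rw [Nat.card_congr f.toEquiv]
      haveI : Fact (Nat.Prime 7) := ⟨by norm_num⟩
      have h := LinGroup.card_PSL_two_mul (F := ZMod 7)
      rw [ZMod.card, show Nat.gcd 2 (7 - 1) = 2 from rfl] at h
      omega
  swap
  · have hC : Nat.card C = 336 := by
      have h := (zpowers e).card_mul_index
      rw [Nat.card_zpowers, Subgroup.index_eq_card, h168,
        show orderOf e = 2 from orderOf_eq_prime (by rw [pow_two]; exact Subtype.ext hee')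
          (fun h => he1 (E.inj ((congrArg Subtype.val h).trans (map_one θ).symm)))] at h
      omega
    have hd : Nat.card (cA e0) ∣ Nat.card C := by
      rw [← card_map_of_injective (K := cA e0) E.inj]
      refine Subgroup.card_dvd_of_le ?_
      rintro _ ⟨p, hp, rfl⟩
      exact mem_centralizer_singleton_iff.2 (commute_θ (mem_centralizer_singleton_iff.1 hp)).eq
    rw [card_centralizer_values.2.2.2, hC] at hd
    norm_num at hd
  set N1 := N.comap π
  haveI : Group.IsNilpotent N1 := by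
    let f : N1 →* N := (π.comp N1.subtype).codRestrict N fun x => x.2
    refine Subgroup.isNilpotent_of_ker_le_center f ?_
    intro x hx
    have hx' : (x : C) ∈ zpowers e :=
      (QuotientGroup.eq_one_iff _).1 (congrArg Subtype.val (MonoidHom.mem_ker.1 hx))
    refine mem_center_iff.2 fun w => Subtype.ext ?_
    exact mem_center_iff.1 (zpowers_le.2 hecent hx') (w : C)
  have key : ∀ a b c : Fin 2,
      (⟨θ (F3 a b c), mem_centralizer_singleton_iff.2 (commute_θ (F3_e a b c)).eq⟩ : C) ∈ N1 →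
      F3 a b c = 1 := by
    intro a b c hr
    by_contra hne
    obtain ⟨q, hqm, hinv⟩ := (hsep a b c).resolve_left hne
    obtain ⟨hq1, hqo, hqe⟩ := hq q hqm
    set r : C := ⟨θ (F3 a b c), mem_centralizer_singleton_iff.2 (commute_θ (F3_e a b c)).eq⟩
    set Qc : C := ⟨q, mem_centralizer_singleton_iff.2 hqe.eq⟩
    have hN1n : N1.Normal := hN.comap π
    have hsqm : Qc⁻¹ * Qc⁻¹ ∈ N1 := by
      have h1 : r * Qc * r⁻¹ = Qc⁻¹ := Subtype.ext hinv
      have h2 : r * (Qc * r⁻¹ * Qc⁻¹) ∈ N1 := mul_mem hr (hN1n.conj_mem _ (inv_mem hr) Qc)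
      rw [← mul_assoc, ← mul_assoc, h1] at h2
      exact h2
    have hodd : Odd (orderOf Qc) := by rw [Subgroup.orderOf_mk]; exact hqo
    obtain ⟨j, hj⟩ := hodd
    have hQN : Qc ∈ N1 := by
      have h2 : Qc ^ 2 ∈ N1 := by
        have := inv_mem hsqm
        simpa [pow_two] using this
      have h4 : (Qc ^ 2) ^ (j + 1) = Qc := by
        rw [← pow_mul, show 2 * (j + 1) = orderOf Qc + 1 by omega, pow_succ, pow_orderOf_eq_one,
          one_mul]
      exact h4 ▸ pow_mem h2 _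
    have hr2 : r * r = 1 := Subtype.ext (by
      show θ (F3 a b c) * θ (F3 a b c) = 1
      rw [← map_mul, F3_inv, map_one])
    have hr1 : r ≠ 1 := fun h => hne (E.inj ((congrArg Subtype.val h).trans (map_one θ).symm))
    have hcomm : Commute (⟨r, hr⟩ : N1) ⟨Qc, hQN⟩ := by
      refine NilpotentPerm.commute_of_coprime_orderOf inferInstance ?_
      rw [← orderOf_injective N1.subtype N1.subtype_injective,
        ← orderOf_injective N1.subtype N1.subtype_injective]
      show (orderOf r).Coprime (orderOf Qc)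
      rw [orderOf_eq_prime (by rw [pow_two, hr2]) hr1]
      exact Nat.coprime_two_left.2 ⟨j, hj⟩
    have h5 : θ (F3 a b c) * q * (θ (F3 a b c))⁻¹ = q :=
      conj_of_commute (congrArg (fun z : N1 => ((z : C) : G)) hcomm.eq : _ = _)
    rw [hinv] at h5
    have h6 : q * q = 1 := by
      nth_rw 1 [← h5]
      rw [inv_mul_cancel]
    have h7 : orderOf q ∣ 2 := orderOf_dvd_of_pow_eq_one (by rw [pow_two, h6])
    rcases (Nat.dvd_prime Nat.prime_two).1 h7 with h | h
    · exact hq1 (orderOf_eq_one_iff.1 h)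
    · rw [h] at hqo; exact absurd hqo (by decide)
  haveI := hN
  let i : R3 →* C := (θ.comp R3.subtype).codRestrict C fun x => by
    obtain ⟨a, b, c, hp⟩ := x.2
    show θ (x : A8) ∈ C
    rw [← hp]
    exact mem_centralizer_singleton_iff.2 (commute_θ (F3_e a b c)).eq
  let f : R3 →* (C ⧸ zpowers e) ⧸ N := (QuotientGroup.mk' N).comp (π.comp i)
  have hf : Function.Injective f := (injective_iff_map_eq_one f).2 fun x hx => by
    obtain ⟨a, b, c, hp⟩ := x.2
    refine Subtype.ext ?_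
    show (x : A8) = 1
    rw [← hp]
    refine key a b c ?_
    have : i x ∈ N1 := by
      show π (i x) ∈ N
      exact (QuotientGroup.eq_one_iff _).1 hx
    convert this using 1
    exact Subtype.ext (congrArg θ hp)
  apply hidx
  rw [Subgroup.index_eq_card, ← card_R3]
  exact Subgroup.card_dvd_of_injective f hf

/-- The odd core is trivial. -/
theorem core_eq_bot (E : Emb θ) {Q : Subgroup G} (hodd : Odd (Nat.card Q))
    (hQt : ∀ q ∈ Q, Commute q (θ t0)) (hnorm : ∀ w, Commute w (θ t0) → ∀ q ∈ Q, w * q * w⁻¹ ∈ Q) :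
    ∀ q ∈ Q, q = 1 := by
  by_contra hne
  push Not at hne
  obtain ⟨q0, hq0, hq01⟩ := hne
  have hr : ∀ q ∈ Q, q ∈ θ.range → q = 1 := fun q hq h => core_inf_range E hodd hQt hnorm hq h
  have hvfix : ∀ q ∈ Q, Commute (θ v0) q → q = 1 := fun q hq h =>
    hr q hq (cent_tv_le E (hQt q hq) h.symm)
  have hinv : ∀ q ∈ Q, θ v0 * q * (θ v0)⁻¹ = q⁻¹ := fun q hq =>
    inverts (by rw [← map_mul, sq_v0, map_one]) (hnorm _ (commute_θ comm_tv.symm)) hvfix hq
  have hab : ∀ a ∈ Q, ∀ b ∈ Q, Commute a b := by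
    intro a ha b hb
    have h := hinv _ (mul_mem ha hb)
    rw [show θ v0 * (a * b) * (θ v0)⁻¹ = (θ v0 * a * (θ v0)⁻¹) * (θ v0 * b * (θ v0)⁻¹) by group,
      hinv a ha, hinv b hb, ← mul_inv_rev, inv_inj] at h
    exact h.symm
  have hcw : Commute (θ w0) (θ t0) ∧ Commute (θ w1) (θ t0) ∧ Commute (θ (w0 * w1)) (θ t0) := by
    refine ⟨commute_θ comm_t.1, commute_θ comm_t.2.1, ?_⟩
    rw [map_mul]
    exact (commute_θ comm_t.1).mul_left (commute_θ comm_t.2.1)
  have hfix2 : ∀ q ∈ Q, Commute (θ w0) q → Commute (θ w1) q → q = 1 := by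
    intro q hq h0 h1
    refine hr q hq ?_
    have hc : ∀ {a b : A8}, σ * a * σ⁻¹ = b → Commute (θ b) q →
        Commute ((θ σ)⁻¹ * q * θ σ) (θ a) := by
      intro a b hab hb
      have e : θ a = (θ σ)⁻¹ * θ b * θ σ := by rw [← hab, ← conj_θ]; group
      show _ * _ = _ * _
      rw [e]
      calc (θ σ)⁻¹ * q * θ σ * ((θ σ)⁻¹ * θ b * θ σ) = (θ σ)⁻¹ * (q * θ b) * θ σ := by group
        _ = (θ σ)⁻¹ * (θ b * q) * θ σ := by rw [hb.eq]
        _ = _ := by group
    obtain ⟨p, hp⟩ := cent_tv_le E (hc σ_act.1 h0) (hc σ_act.2 h1)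
    exact ⟨σ * p * σ⁻¹, by rw [← conj_θ, hp]; group⟩
  have hmove : ∀ {a b : A8}, c3 * a * c3⁻¹ = b → ∀ q ∈ Q, Commute (θ a) q →
      (θ c3 * q * (θ c3)⁻¹ ∈ Q ∧ Commute (θ b) (θ c3 * q * (θ c3)⁻¹)) := by
    intro a b hab q hq ha
    refine ⟨hnorm _ (commute_θ comm_t.2.2.1) q hq, ?_⟩
    rw [← hab, ← conj_θ]
    exact (Commute.conj_iff _).2 ha
  have hback : ∀ {a b : A8}, c3 * a * c3⁻¹ = b → ∀ q ∈ Q, q ≠ 1 → Commute (θ b) q →
      ∃ r ∈ Q, r ≠ 1 ∧ Commute (θ a) r := by
    intro a b hab q hq hq1 hb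
    refine ⟨(θ c3)⁻¹ * q * θ c3, ?_, fun e => hq1 ?_, ?_⟩
    · have := hnorm _ ((commute_θ comm_t.2.2.1).inv_left) q hq
      rwa [inv_inv] at this
    · calc q = θ c3 * ((θ c3)⁻¹ * q * θ c3) * (θ c3)⁻¹ := by group
        _ = 1 := by rw [e]; group
    · refine (Commute.conj_iff (θ c3)).1 ?_
      rw [conj_θ, hab, show θ c3 * ((θ c3)⁻¹ * q * θ c3) * (θ c3)⁻¹ = q by group]
      exact hb
  have hex0 : ∃ q ∈ Q, q ≠ 1 ∧ Commute (θ w0) q := by
    by_contra hno
    push Not at hno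
    have h0 : ∀ q ∈ Q, Commute (θ w0) q → q = 1 := fun q hq h => by
      by_contra hq1; exact hno q hq hq1 h
    have hone : ∀ {q : G}, θ c3 * q * (θ c3)⁻¹ = 1 → q = 1 := fun {q} h => by
      calc q = (θ c3)⁻¹ * (θ c3 * q * (θ c3)⁻¹) * θ c3 := by group
        _ = 1 := by rw [h]; group
    have h1 : ∀ q ∈ Q, Commute (θ w1) q → q = 1 := fun q hq h => by
      obtain ⟨hm, hc⟩ := hmove c3_act.1 q hq h
      exact hone (h0 _ hm hc)
    have h2 : ∀ q ∈ Q, Commute (θ (w0 * w1)) q → q = 1 := fun q hq h => by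
      obtain ⟨hm, hc⟩ := hmove c3_act.2.1 q hq h
      exact hone (h1 _ hm hc)
    have i0 := inverts (by rw [← map_mul, sq_w0, map_one]) (hnorm _ hcw.1) h0 hq0
    have i1 := inverts (by rw [← map_mul, sq_w1, map_one]) (hnorm _ hcw.2.1) h1 hq0
    refine hq01 (h2 q0 hq0 ?_)
    rw [map_mul]
    show _ * _ = _ * _
    calc θ w0 * θ w1 * q0 = θ w0 * (θ w1 * q0 * (θ w1)⁻¹) * θ w1 := by group
      _ = (θ w0 * q0 * (θ w0)⁻¹)⁻¹ * (θ w0 * θ w1) := by rw [i1]; group
      _ = q0 * (θ w0 * θ w1) := by rw [i0, inv_inv]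
  obtain ⟨a0, ha0, ha01, hca0⟩ := hex0
  obtain ⟨a1, ha1, ha11, hca1⟩ := hback c3_act.1 a0 ha0 ha01 hca0
  obtain ⟨a2, ha2, ha21, hca2⟩ := hback c3_act.2.1 a1 ha1 ha11 hca1
  have hother : ∀ {b b' : A8}, b * b' = b' * b → b' * b' = 1 → Commute (θ b') (θ t0) →
      (∀ q ∈ Q, Commute (θ b) q → Commute (θ b') q → q = 1) →
      ∀ q ∈ Q, Commute (θ b) q → θ b' * q * (θ b')⁻¹ = q⁻¹ := by
    intro b b' hbb hb' hbt hfix q hq hbq
    have hm : θ b' * q * (θ b')⁻¹ ∈ Q := hnorm _ hbt q hq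
    refine eq_inv_of_mul_eq_one_right (hfix _ (mul_mem hq hm) ?_ ?_)
    · exact hbq.mul_right (((commute_θ hbb).mul_right hbq).mul_right (commute_θ hbb).inv_right)
    · show θ b' * _ = _ * θ b'
      have hi : (θ b')⁻¹ = θ b' := inv_eq_of_mul_eq_one_right (by rw [← map_mul, hb', map_one])
      have hd : θ b' * θ b' = 1 := by rw [← map_mul, hb', map_one]
      calc θ b' * (q * (θ b' * q * (θ b')⁻¹))
          = (θ b' * q * (θ b')⁻¹) * (θ b' * θ b') * q * (θ b')⁻¹ := by group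
        _ = (θ b' * q * (θ b')⁻¹) * q * θ b' := by rw [hd, mul_one, hi]
        _ = q * (θ b' * q * (θ b')⁻¹) * θ b' := by rw [(hab _ hm _ hq).eq]
  have i01 := hother comm_w sq_w1 hcw.2.1 hfix2 a0 ha0 hca0
  have i10 := hother comm_w.symm sq_w0 hcw.1 (fun q hq h h' => hfix2 q hq h' h) a1 ha1 hca1
  have w20 : (w0 * w1) * w0 = w0 * (w0 * w1) ∧ w0 * (w0 * w1) = w1 := by decide +kernel
  have i20 := hother w20.1 sq_w0 hcw.1 (fun q hq h h' => hfix2 q hq h' (by
    rw [← w20.2, map_mul]; exact h'.mul_left h)) a2 ha2 hca2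
  have i21 : θ w1 * a2 * (θ w1)⁻¹ = a2⁻¹ := by
    rw [← w20.2, map_mul]
    exact conj_inv_mul i20 (conj_of_commute hca2)
  obtain ⟨g1, g2, g3, g4⟩ := γ_act
  have push : ∀ {r r' : A8}, γ * r * γ⁻¹ = r' → ∀ q : G,
      θ r' * (θ γ * q * (θ γ)⁻¹) * (θ r')⁻¹ = θ γ * (θ r * q * (θ r)⁻¹) * (θ γ)⁻¹ := by
    intro r r' h q
    rw [← h, ← conj_θ]
    group
  have pinv : ∀ {r r' : A8}, γ * r * γ⁻¹ = r' → ∀ q : G, θ r * q * (θ r)⁻¹ = q⁻¹ →
      θ r' * (θ γ * q * (θ γ)⁻¹) * (θ r')⁻¹ = (θ γ * q * (θ γ)⁻¹)⁻¹ := by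
    intro r r' h q hq
    rw [push h, hq]
    group
  have pfix : ∀ {r r' : A8}, γ * r * γ⁻¹ = r' → ∀ q : G, θ r * q * (θ r)⁻¹ = q →
      θ r' * (θ γ * q * (θ γ)⁻¹) * (θ r')⁻¹ = θ γ * q * (θ γ)⁻¹ := by
    intro r r' h q hq
    rw [push h, hq]
  have gw0 : γ * w0 * γ⁻¹ = w0 := by rw [g3, mul_inv_cancel_right]
  have gw1 : γ * w1 * γ⁻¹ = w1 := by rw [g4, mul_inv_cancel_right]
  have hvt : ∀ q ∈ Q, θ (v0 * t0) * q * (θ (v0 * t0))⁻¹ = q⁻¹ := fun q hq => by
    rw [map_mul]
    exact conj_inv_mul (hinv q hq) (conj_of_commute (hQt q hq).symm)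
  have ft : ∀ q ∈ Q, θ t0 * q * (θ t0)⁻¹ = q := fun q hq => conj_of_commute (hQt q hq).symm
  set q2 := θ γ * a1 * (θ γ)⁻¹
  set q3 := θ γ * a2 * (θ γ)⁻¹
  have v_q2 : θ v0 * q2 * (θ v0)⁻¹ = q2 := pfix g1 a1 (ft a1 ha1)
  have v_q3 : θ v0 * q3 * (θ v0)⁻¹ = q3 := pfix g1 a2 (ft a2 ha2)
  have t_q2 : θ t0 * q2 * (θ t0)⁻¹ = q2⁻¹ := pinv g2 a1 (hvt a1 ha1)
  have t_q3 : θ t0 * q3 * (θ t0)⁻¹ = q3⁻¹ := pinv g2 a2 (hvt a2 ha2)
  have w0_q2 : θ w0 * q2 * (θ w0)⁻¹ = q2⁻¹ := pinv gw0 a1 i10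
  have w1_q2 : θ w1 * q2 * (θ w1)⁻¹ = q2 := pfix gw1 a1 (conj_of_commute hca1)
  have w0_q3 : θ w0 * q3 * (θ w0)⁻¹ = q3⁻¹ := pinv gw0 a2 i20
  have w1_q3 : θ w1 * q3 * (θ w1)⁻¹ = q3⁻¹ := pinv gw1 a2 i21
  have w0_a0 : θ w0 * a0 * (θ w0)⁻¹ = a0 := conj_of_commute hca0
  have twoinv : ∀ {r s q : G}, r * q * r⁻¹ = q⁻¹ → s * q * s⁻¹ = q⁻¹ → Commute q (r * s) := by
    intro r s q hr hs
    symm
    show r * s * q = q * (r * s)
    calc r * s * q = r * (s * q * s⁻¹) * s := by group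
      _ = (r * q * r⁻¹)⁻¹ * (r * s) := by rw [hs]; group
      _ = q * (r * s) := by rw [hr, inv_inv]
  refine no_three E (q1 := a0) (q2 := q2) (q3 := q3) ?_ ?_
  · have hne' : ∀ a : G, a ≠ 1 → θ γ * a * (θ γ)⁻¹ ≠ 1 := fun a ha e => ha (by
      calc a = (θ γ)⁻¹ * (θ γ * a * (θ γ)⁻¹) * θ γ := by group
        _ = 1 := by rw [e]; group)
    have hoddo : ∀ a ∈ Q, Odd (orderOf a) := fun a ha =>
      hodd.of_dvd_nat (Subgroup.orderOf_dvd_natCard Q ha)
    intro q hq
    simp only [List.mem_cons, List.not_mem_nil, or_false] at hq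
    rw [e0_eq, map_mul]
    rcases hq with rfl | rfl | rfl
    · exact ⟨ha01, hoddo _ ha0, (hQt q ha0).mul_right hca0.symm⟩
    · exact ⟨hne' _ ha11, show Odd (orderOf (θ γ * a1 * (θ γ)⁻¹)) by
        rw [Involution.orderOf_conj_eq]; exact hoddo _ ha1,
        twoinv t_q2 w0_q2⟩
    · exact ⟨hne' _ ha21, show Odd (orderOf (θ γ * a2 * (θ γ)⁻¹)) by
        rw [Involution.orderOf_conj_eq]; exact hoddo _ ha2,
        twoinv t_q3 w0_q3⟩
  · intro a b c
    have hv : θ v0 * a0 * (θ v0)⁻¹ = a0⁻¹ := hinv a0 ha0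
    fin_cases a <;> fin_cases b <;> fin_cases c
    · exact Or.inl rfl
    all_goals refine Or.inr ?_
    all_goals simp only [F3, Fin.zero_eta, Fin.mk_one, pow_zero, pow_one,
      one_mul, mul_one, map_mul, List.mem_cons, List.not_mem_nil, or_false, exists_eq_or_imp,
      exists_eq_left]
    · exact Or.inl i01
    · exact Or.inr (Or.inl w0_q2)
    · exact Or.inr (Or.inl (conj_inv_mul w0_q2 w1_q2))
    · exact Or.inl hv
    · exact Or.inr (Or.inr (conj_fix_mul v_q3 w1_q3))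
    · exact Or.inl (conj_inv_mul hv w0_a0)
    · exact Or.inr (Or.inl (conj_inv_mul (conj_fix_mul v_q2 w0_q2) w1_q2))

end CentTB

open CentTB in
/-- The centraliser of an involution with fixed points lies in the copy. -/
theorem centT : CentTStmt.{u} := by
  intro G _ _ θ E g hg
  obtain ⟨Q, hodd, hQt, hnorm, hz⟩ := exists_core E
  have hQ := core_eq_bot E hodd hQt hnorm
  have hgt : Commute g (θ t0) := mem_centralizer_singleton_iff.1 hg
  refine mem_range_of_act E hgt ?_
  have hvi : (θ v0)⁻¹ = θ v0 := inv_eq_of_mul_eq_one_right (by rw [← map_mul, sq_v0, map_one])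
  have hti : (θ t0)⁻¹ = θ t0 := inv_eq_of_mul_eq_one_right (by rw [← map_mul, sq_t0, map_one])
  rcases hz g hgt with h | h
  · left
    have h1 := mul_inv_eq_one.1 (hQ _ h)
    rw [← mul_inv_eq_iff_eq_mul.1 h1, mul_inv_cancel_right]
  · right
    have h1 : θ v0 * g * (θ v0)⁻¹ * g⁻¹ = θ t0 := hti ▸ (eq_inv_of_mul_eq_one_right (hQ _ h))
    rw [map_mul]
    calc g * θ v0 * g⁻¹
        = (θ v0)⁻¹ * (θ v0 * g * (θ v0)⁻¹ * g⁻¹) * (g * (θ v0 * θ v0) * g⁻¹) := by group
      _ = θ v0 * θ t0 := by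
        rw [h1, hvi, show θ v0 * θ v0 = 1 by rw [← map_mul, sq_v0, map_one]]
        group

end Cfsg.Agent.Lib.AltEightThree6
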