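import Cfsg.Agent.Lib.AltEightThree6.Fusion
import Cfsg.Agent.Lib.BrauerSuzukiQ.ZStarFinal
import Cfsg.Agent.Lib.PronormalSp1.Main
import Cfsg.Agent.Lib.NilpotentPerm.Basic
import Cfsg.Agent.Lib.Signalizer.LayerBasic
import Cfsg.Agent.S3331

/-!
The centraliser of an involution with fixed points lies in the copy of the alternating group,
given finite facts about that group (brick CentT of row S3329, written by helper35).
-/

set_option autoImplicit false
set_option linter.unusedSectionVars false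
set_option linter.style.haveILetI false

namespace Cfsg.Agent.Lib.AltEightThree6.CentTB

open Subgroup Equiv Cfsg

universe u

/-- `(567)` -/
def γ : A8 := evA (swap 5 6 * swap 6 7)
/-- exchanges the two halves -/
def σ : A8 := evA (swap 0 4 * swap 1 5 * (swap 2 6 * swap 3 7))
/-- `(45)(01)` -/
def η : A8 := evA (swap 4 5 * swap 0 1)
/-- an element of order three commuting with `e0` -/
def y6 : A8 := evA (swap 0 2 * swap 2 4 * (swap 1 3 * swap 3 5))

/-- the subgroup of `A8` centralising `p` -/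
abbrev cA (p : A8) : Subgroup A8 := centralizer ({p} : Set A8)

/-- an element centralising `y6` and not `e0` -/
def z6 : A8 := evA (swap 0 2 * swap 2 4)

theorem comm_tv' : t0 * v0 = v0 * t0 := by decide +kernel

theorem cv {p : A8} (ht : Commute p t0) (hv : Commute p v0) (h1 : TType p) (h2 : TType (p * t0)) :
    p = v0 ∨ p = v0 * t0 := by
  obtain ⟨hp1, hpp, hpf⟩ := h1
  obtain ⟨hq1, hqq, hqf⟩ := h2
  set q := (p : Perm (Fin 8)) with hq
  have sup : ∀ {g : A8}, g ≠ 1 → g * g = 1 → (∃ i, (g : Perm (Fin 8)) i = i) →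
      (g : Perm (Fin 8)).support.card = 4 := by
    intro g h1 h2 hf
    rcases involution_cycleType h2 h1 with e | e
    · rw [← Perm.sum_cycleType, e]; rfl
    · obtain ⟨i, hi⟩ := hf
      exact absurd hi (support_eq_univ_iff.2 (by rw [← Perm.sum_cycleType, e]; rfl) i)
  have c1 : ∀ x, q ((t0 : Perm (Fin 8)) x) = (t0 : Perm (Fin 8)) (q x) := fun x =>
    congrArg (fun a : A8 => (a : Perm (Fin 8)) x) ht.eq
  have c2 : ∀ x, q ((v0 : Perm (Fin 8)) x) = (v0 : Perm (Fin 8)) (q x) := fun x =>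
    congrArg (fun a : A8 => (a : Perm (Fin 8)) x) hv.eq
  have e5 : q 5 = (t0 : Perm (Fin 8)) (q 4) := by
    rw [← c1]; exact congrArg q (by decide +kernel)
  have e6 : q 6 = (v0 : Perm (Fin 8)) (q 4) := by
    rw [← c2]; exact congrArg q (by decide +kernel)
  have e7 : q 7 = (v0 : Perm (Fin 8)) (q 5) := by
    rw [← c2]; exact congrArg q (by decide +kernel)
  have h4 : (t0 : Perm (Fin 8)) (q 4) ≠ q 4 := by
    rw [← e5]; exact fun e => absurd (q.injective e) (by decide)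
  have four : ∀ x : Fin 8, (t0 : Perm (Fin 8)) x ≠ x → x = 4 ∨ x = 5 ∨ x = 6 ∨ x = 7 := by
    decide +kernel
  have out : ∀ {g : A8}, (g : Perm (Fin 8)).support.card = 4 →
      ({4, 5, 6, 7} : Finset (Fin 8)) ⊆ (g : Perm (Fin 8)).support →
      ∀ x : Fin 8, x < 4 → (g : Perm (Fin 8)) x = x := by
    intro g hc hsub x hx
    by_contra hne
    have hh := Finset.eq_of_subset_of_card_le hsub (le_of_eq hc)
    have hxs : x ∈ (g : Perm (Fin 8)).support := Perm.mem_support.2 hne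
    rw [← hh] at hxs
    exact (by decide : ∀ y : Fin 8, y < 4 → y ∉ ({4, 5, 6, 7} : Finset (Fin 8))) x hx hxs
  have six : ∀ x : Fin 8, x < 4 ∨ x = 4 ∨ x = 5 ∨ x = 6 ∨ x = 7 := by decide
  have pins : ∀ g : A8, (∀ x, x < 4 → (g : Perm (Fin 8)) x = x) →
      q 4 = (g : Perm (Fin 8)) 4 → q 5 = (g : Perm (Fin 8)) 5 →
      q 6 = (g : Perm (Fin 8)) 6 → q 7 = (g : Perm (Fin 8)) 7 →
      (∀ x, x < 4 → q x = x) → p = g := by
    intro g hg a b c d hlow
    refine Subtype.ext (Equiv.ext fun x => ?_)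
    rcases six x with r | rfl | rfl | rfl | rfl
    · exact (hlow x r).trans (hg x r).symm
    all_goals assumption
  have cands : (∀ x : Fin 8, x < 4 → (v0 : Perm (Fin 8)) x = x) ∧
      (∀ x : Fin 8, x < 4 → ((v0 * t0 : A8) : Perm (Fin 8)) x = x) ∧
      (∀ x : Fin 8, x < 4 → ((t0 : A8) : Perm (Fin 8)) x = x) ∧
      (∀ x : Fin 8, x < 4 → ((1 : A8) : Perm (Fin 8)) x = x) := by decide +kernel
  rcases four _ h4 with e | e | e | e
  · exfalso
    rw [e] at e5 e6
    have b5 : q 5 = 5 := e5.trans (by decide +kernel)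
    have b6 : q 6 = 6 := e6.trans (by decide +kernel)
    have b7 : q 7 = 7 := by rw [e7, b5]; decide +kernel
    have hlow : ∀ x : Fin 8, x < 4 → q x = x := by
      intro x hx
      obtain ⟨i, hi⟩ := hqf
      have hsub : ({4, 5, 6, 7} : Finset (Fin 8)) ⊆ ((p * t0 : A8) : Perm (Fin 8)).support := by
        intro y hy
        rw [Perm.mem_support]
        show q ((t0 : Perm (Fin 8)) y) ≠ y
        rw [c1]
        fin_cases hy <;> simp only [e, b5, b6, b7] <;> decide +kernel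
      have := out (sup hq1 hqq ⟨i, hi⟩) hsub x hx
      have hx' : (t0 : Perm (Fin 8)) x = x := cands.2.2.1 x hx
      calc q x = q ((t0 : Perm (Fin 8)) x) := by rw [hx']
        _ = x := this
    exact hp1 (pins 1 cands.2.2.2 e b5 b6 b7 hlow)
  all_goals
    rw [e] at e5 e6
    rw [e5] at e7
    have hlow : ∀ x : Fin 8, x < 4 → q x = x := by
      refine out (sup hp1 hpp hpf) ?_
      intro y hy
      rw [Perm.mem_support, ← hq]
      fin_cases hy <;> simp only [e, e5, e6, e7] <;> decide +kernel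
  · exfalso
    exact hq1 (by
      rw [pins t0 cands.2.2.1 (e.trans (by decide +kernel)) (e5.trans (by decide +kernel))
        (e6.trans (by decide +kernel)) (e7.trans (by decide +kernel)) hlow]
      decide +kernel)
  · exact Or.inl (pins v0 cands.1 (e.trans (by decide +kernel)) (e5.trans (by decide +kernel))
      (e6.trans (by decide +kernel)) (e7.trans (by decide +kernel)) hlow)
  · exact Or.inr (pins (v0 * t0) cands.2.1 (e.trans (by decide +kernel)) (e5.trans (by decide +kernel))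
      (e6.trans (by decide +kernel)) (e7.trans (by decide +kernel)) hlow)

theorem table_bool : ((List.range 32).all fun i => !(isT i && isT (idxMul i 2)) ||
    Nat.beq i 1 || Nat.beq i 3 || (List.range 32).any fun j =>
      isT j && isT (idxMul j 2) && Nat.beq (idxMul j i) (idxMul i j) && !(Nat.beq j i) &&
        !(Nat.beq j (idxMul i 2))) = true := by decide +kernel

theorem table {p : A8} (hp : p ∈ subT) (h1 : TType p) (h2 : TType (p * t0)) :
    p = v0 ∨ p = v0 * t0 ∨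
      ∃ w ∈ subT, TType w ∧ TType (w * t0) ∧ Commute w p ∧ w ≠ p ∧ w ≠ p * t0 := by
  obtain ⟨i, hi, rfl⟩ := mem_subT.1 hp
  have hi64 : i < 64 := by omega
  obtain ⟨g1, g2, g3, -⟩ := el_gens
  have ht : ∀ j, j < 32 → el j * t0 = el (idxMul j 2) := fun j hj => by
    rw [(el_idxMul (show j < 64 by omega)).1, g2]
  have hlt : ∀ j, j < 32 → idxMul j 2 < 64 := fun j hj => (el_idxMul (show j < 64 by omega)).2
  rw [tType_el hi64] at h1
  rw [ht i hi, tType_el (hlt i hi)] at h2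
  have h := table_bool
  simp only [List.all_eq_true, List.mem_range, Bool.or_eq_true, Bool.not_eq_true'] at h
  rcases h i hi with ((hh | hh) | hh) | hh
  · simp [h1, h2] at hh
  · rw [Nat.eq_of_beq_eq_true hh]; exact Or.inl g1
  · rw [Nat.eq_of_beq_eq_true hh, g3]; exact Or.inr (Or.inl comm_tv')
  · simp only [List.any_eq_true, List.mem_range, Bool.and_eq_true, Bool.not_eq_true'] at hh
    obtain ⟨j, hj, ⟨⟨⟨⟨a, b⟩, c⟩, d⟩, f⟩⟩ := hh
    have hj64 : j < 64 := by omega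
    refine Or.inr (Or.inr ⟨el j, mem_subT.2 ⟨j, hj, rfl⟩, (tType_el hj64).2 a, ?_, ?_, ?_, ?_⟩)
    · rw [ht j hj, tType_el (hlt j hj)]; exact b
    · exact (el_commute_iff hj64 hi64).2 (Nat.eq_of_beq_eq_true c)
    · intro he
      rw [el_inj hj64 hi64 he] at d
      simp at d
    · intro he
      rw [ht i hi] at he
      rw [el_inj hj64 (hlt i hi) he] at f
      simp at f

theorem sq_t0 : t0 * t0 = 1 := by decide +kernel
theorem sq_v0 : v0 * v0 = 1 := by decide +kernel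
theorem sq_w0 : w0 * w0 = 1 := by decide +kernel
theorem sq_w1 : w1 * w1 = 1 := by decide +kernel
theorem t0_ne : t0 ≠ 1 := by decide +kernel
theorem v0_ne : v0 ≠ 1 ∧ v0 ≠ t0 := by decide +kernel
theorem comm_tv : t0 * v0 = v0 * t0 := by decide +kernel
theorem comm_t : w0 * t0 = t0 * w0 ∧ w1 * t0 = t0 * w1 ∧ c3 * t0 = t0 * c3 ∧ η * t0 = t0 * η := by
  decide +kernel
theorem comm_v : w0 * v0 = v0 * w0 ∧ w1 * v0 = v0 * w1 ∧ c3 * v0 = v0 * c3 := by decide +kernel
theorem comm_w : w0 * w1 = w1 * w0 := by decide +kernel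
theorem e0_eq : e0 = t0 * w0 := by decide +kernel
theorem γ_act : γ * t0 * γ⁻¹ = v0 ∧ γ * (v0 * t0) * γ⁻¹ = t0 ∧ γ * w0 = w0 * γ ∧
    γ * w1 = w1 * γ := by decide +kernel
theorem η_act : η * v0 * η⁻¹ = v0 * t0 := by decide +kernel
theorem σ_act : σ * t0 * σ⁻¹ = w0 ∧ σ * v0 * σ⁻¹ = w1 := by decide +kernel
theorem c3_act : c3 * w1 * c3⁻¹ = w0 ∧ c3 * (w0 * w1) * c3⁻¹ = w1 ∧
    c3 * (w0 * c3⁻¹ * w0⁻¹) = w1 ∧ w1 ≠ 1 ∧ c3 ≠ 1 ∧ c3 ^ 3 = 1 := by decide +kernel
theorem y6_facts : y6 * e0 = e0 * y6 ∧ y6 ^ 3 = 1 ∧ y6 ≠ 1 ∧ e0 * e0 = 1 ∧ e0 ≠ 1 := by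
  decide +kernel
/-- An involution fixing only the identity of an invariant subgroup of odd order inverts it. -/
theorem inverts {G : Type*} [Group G] [Finite G] {Q : Subgroup G} {s : G} (hs : s * s = 1)
    (hQ : ∀ q ∈ Q, s * q * s⁻¹ ∈ Q) (hfix : ∀ q ∈ Q, Commute s q → q = 1) {q : G} (hq : q ∈ Q) :
    s * q * s⁻¹ = q⁻¹ := by
  have hsi : s⁻¹ = s := inv_eq_of_mul_eq_one_right hs
  let f : Q → Q := fun x => ⟨(x : G)⁻¹ * (s * x * s⁻¹), mul_mem (inv_mem x.2) (hQ _ x.2)⟩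
  have hf : Function.Injective f := by
    intro x y hxy
    have h : (x : G)⁻¹ * (s * x * s⁻¹) = (y : G)⁻¹ * (s * y * s⁻¹) := congrArg Subtype.val hxy
    have h1 : (y : G) * (x : G)⁻¹ = 1 := by
      refine hfix _ (mul_mem y.2 (inv_mem x.2)) ?_
      show s * _ = _ * s
      have h2 : (y : G) * (x : G)⁻¹ * s * x = s * y := by
        calc (y : G) * (x : G)⁻¹ * s * x
            = y * ((x : G)⁻¹ * (s * x * s⁻¹)) * s := by group
          _ = y * ((y : G)⁻¹ * (s * y * s⁻¹)) * s := by rw [h]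
          _ = s * y := by group
      calc s * ((y : G) * (x : G)⁻¹) = (s * y) * (x : G)⁻¹ := by group
        _ = (y : G) * (x : G)⁻¹ * s * x * (x : G)⁻¹ := by rw [h2]
        _ = (y : G) * (x : G)⁻¹ * s := by group
    exact Subtype.ext (mul_inv_eq_one.1 h1).symm
  obtain ⟨x, hx⟩ := Finite.surjective_of_injective hf ⟨q, hq⟩
  have h : (x : G)⁻¹ * (s * x * s⁻¹) = q := congrArg Subtype.val hx
  rw [← h, hsi]
  have e : s * ((x : G)⁻¹ * (s * x * s)) * s = s * (x : G)⁻¹ * s * x * (s * s) := by group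
  rw [e, hs, mul_one, mul_inv_rev, inv_inv]
  simp only [mul_inv_rev, hsi, mul_assoc]

theorem eq_one_of_sq {G : Type*} [Group G] [Finite G] {Q : Subgroup G} (hQ : Odd (Nat.card Q))
    {q : G} (hq : q ∈ Q) (h : q * q = 1) : q = 1 := by
  have h2 : orderOf q ∣ 2 := orderOf_dvd_of_pow_eq_one (by rw [pow_two, h])
  obtain ⟨j, hj⟩ : Odd (orderOf q) := hQ.of_dvd_nat (Subgroup.orderOf_dvd_natCard Q hq)
  rcases (Nat.dvd_prime Nat.prime_two).1 h2 with h1 | h1
  · exact orderOf_eq_one_iff.1 h1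
  · omega

variable {G : Type u} [Group G] [Finite G] {θ : A8 →* G}

omit [Finite G] in
theorem conj_θ (p a : A8) : θ p * θ a * (θ p)⁻¹ = θ (p * a * p⁻¹) := by
  rw [map_mul, map_mul, map_inv]

omit [Finite G] in
theorem commute_θ {p a : A8} (h : p * a = a * p) : Commute (θ p) (θ a) := by
  show θ p * θ a = θ a * θ p
  rw [← map_mul, ← map_mul, h]

omit [Finite G] in
theorem pre (E : Emb θ) {p a : A8} (h : Commute (θ p) (θ a)) : p * a = a * p :=
  E.inj (by rw [map_mul, map_mul]; exact h)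

theorem conj_type (E : Emb θ) {p : A8} {g : G} (h : g * θ t0 * g⁻¹ = θ p) : TType p := by
  have hp : p * p = 1 := E.inj (by
    rw [map_mul, ← h, map_one]
    calc g * θ t0 * g⁻¹ * (g * θ t0 * g⁻¹) = g * θ (t0 * t0) * g⁻¹ := by rw [map_mul]; group
      _ = 1 := by rw [sq_t0, map_one]; group)
  have hc : IsConj t0 p := E.isConj_of_isConj sq_t0 t0_ne (isConj_iff.2 ⟨g, h⟩)
  have hp1 : p ≠ 1 := fun e => t0_ne (isConj_one_right.1 (e ▸ hc).symm)
  rcases involution_cases hp hp1 with ⟨ht, -⟩ | ⟨he, -⟩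
  · exact ht
  · exact absurd (θ.map_isConj hc) (E.not_isConj_te tType_t0.1 he)

theorem conj_pair (E : Emb θ) {p : A8} {g : G} (hg : Commute g (θ t0))
    (h : g * θ v0 * g⁻¹ = θ p) : TType p ∧ TType (p * t0) := by
  constructor
  · refine conj_type E (g := g * θ γ) ?_
    rw [← h, ← γ_act.1, ← conj_θ]
    group
  · refine conj_type E (g := g * θ γ⁻¹) ?_
    have e : γ⁻¹ * t0 * γ⁻¹⁻¹ = v0 * t0 := by
      calc γ⁻¹ * t0 * γ⁻¹⁻¹ = γ⁻¹ * (γ * (v0 * t0) * γ⁻¹) * γ⁻¹⁻¹ := by rw [γ_act.2.1]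
        _ = v0 * t0 := by group
    rw [map_mul, ← h]
    calc g * θ γ⁻¹ * θ t0 * (g * θ γ⁻¹)⁻¹ = g * (θ γ⁻¹ * θ t0 * (θ γ⁻¹)⁻¹) * g⁻¹ := by group
      _ = g * θ v0 * g⁻¹ * (g * θ t0 * g⁻¹) := by rw [conj_θ, e, map_mul]; group
      _ = g * θ v0 * g⁻¹ * θ t0 := by rw [hg.eq]; group

theorem cent_tv_le (E : Emb θ) {x : G} (h1 : Commute x (θ t0)) (h2 : Commute x (θ v0)) :
    x ∈ θ.range := by
  refine E.v_le (mem_centralizer_iff.2 ?_)
  rintro y (rfl | rfl)
  · exact h1.symm.eq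
  · exact h2.symm.eq

theorem mem_range_of_act (E : Emb θ) {x : G} (h1 : Commute x (θ t0))
    (h2 : x * θ v0 * x⁻¹ = θ v0 ∨ x * θ v0 * x⁻¹ = θ (v0 * t0)) : x ∈ θ.range := by
  rcases h2 with h | h
  · exact cent_tv_le E h1 (mul_inv_eq_iff_eq_mul.1 h)
  · have hc : Commute ((θ η)⁻¹ * x) (θ t0) := ((commute_θ comm_t.2.2.2).inv_left).mul_left h1
    have hv : Commute ((θ η)⁻¹ * x) (θ v0) := by
      rw [← η_act, ← conj_θ] at h
      refine mul_inv_eq_iff_eq_mul.1 ?_
      calc (θ η)⁻¹ * x * θ v0 * ((θ η)⁻¹ * x)⁻¹ = (θ η)⁻¹ * (x * θ v0 * x⁻¹) * θ η := by group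
        _ = θ v0 := by rw [h]; group
    obtain ⟨q, hq⟩ := cent_tv_le E hc hv
    exact ⟨η * q, by rw [map_mul, hq]; group⟩

theorem t_check : ((List.range 32).all fun i => Nat.beq (idxMul i 2) (idxMul 2 i)) = true := by
  decide +kernel

theorem subT_le : subT ≤ cA t0 := by
  intro p hp
  obtain ⟨i, hi, rfl⟩ := mem_subT.1 hp
  rw [mem_centralizer_singleton_iff, ← el_gens.2.1, el_commute_iff (by omega) (by norm_num)]
  exact Nat.eq_of_beq_eq_true (List.all_eq_true.1 t_check i (List.mem_range.2 hi))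

/-- The fusion of `v` into the chosen two-subgroup. -/
theorem fusion (E : Emb θ) {g : G} (hg : Commute g (θ t0)) {p : A8} (hp : p ∈ subT)
    (h : g * θ v0 * g⁻¹ = θ p) :
    p = v0 ∨ p = v0 * t0 := by
  obtain ⟨h1, h2⟩ := conj_pair E hg h
  rcases table hp h1 h2 with r | r | ⟨w, hw, hw1, hw2, hwp, hne, hne'⟩
  · exact Or.inl r
  · exact Or.inr r
  exfalso
  have hwt : w * t0 = t0 * w := mem_centralizer_singleton_iff.1 (subT_le hw)
  have c1 : Commute (g⁻¹ * θ w * g) (θ t0) :=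
    (hg.inv_left.mul_left (commute_θ hwt)).mul_left hg
  have c2 : Commute (g⁻¹ * θ w * g) (θ v0) := by
    have e : θ v0 = g⁻¹ * θ p * g := by rw [← h]; group
    show _ * _ = _ * _
    rw [e]
    calc g⁻¹ * θ w * g * (g⁻¹ * θ p * g) = g⁻¹ * (θ w * θ p) * g := by group
      _ = g⁻¹ * (θ p * θ w) * g := by rw [(commute_θ hwp.eq).eq]
      _ = g⁻¹ * θ p * g * (g⁻¹ * θ w * g) := by group
  obtain ⟨q, hq⟩ := cent_tv_le E c1 c2
  obtain ⟨c, hc⟩ := isConj_iff.1 hw1.isConj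
  obtain ⟨c', hc'⟩ := isConj_iff.1 hw2.isConj
  have q1 : TType q := conj_type E (g := g⁻¹ * θ c) (by
    rw [hq, ← hc, ← conj_θ]; group)
  have q2 : TType (q * t0) := conj_type E (g := g⁻¹ * θ c') (by
    rw [map_mul, hq]
    calc g⁻¹ * θ c' * θ t0 * (g⁻¹ * θ c')⁻¹ = g⁻¹ * (θ c' * θ t0 * (θ c')⁻¹) * g := by group
      _ = g⁻¹ * (θ w * θ t0) * g := by rw [conj_θ, hc', map_mul]
      _ = g⁻¹ * θ w * (θ t0 * g) := by group
      _ = g⁻¹ * θ w * g * θ t0 := by rw [← hg.eq]; group)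
  have e : θ w = g * θ q * g⁻¹ := by rw [hq]; group
  rcases cv (pre E (hq ▸ c1)) (pre E (hq ▸ c2)) q1 q2 with r | r
  · exact hne (E.inj (by rw [e, r, h]))
  · refine hne' (E.inj ?_)
    rw [e, r, map_mul, map_mul, ← h]
    calc g * (θ v0 * θ t0) * g⁻¹ = g * θ v0 * g⁻¹ * (g * θ t0 * g⁻¹) := by group
      _ = g * θ v0 * g⁻¹ * θ t0 := by rw [hg.eq]; group

/-- The chosen two-subgroup is a Sylow subgroup of the centraliser. -/
theorem conj_into (E : Emb θ) (K : Subgroup G) (hK : IsPGroup 2 K)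
    (hKW : ∀ k ∈ K, Commute k (θ t0)) :
    ∃ h : G, Commute h (θ t0) ∧ ∀ k ∈ K, ∃ p ∈ subT, θ p = h * k * h⁻¹ := by
  haveI : Fact (Nat.Prime 2) := ⟨Nat.prime_two⟩
  let T : Subgroup A8 := subT
  have hT : T ≤ cA t0 := subT_le
  have hTc : Nat.card T = 32 := card_subT
  have hvT : v0 ∈ T := mem_subT.2 ⟨1, by norm_num, el_gens.1⟩
  set W := centralizer ({θ t0} : Set G)
  have hTW : T.map θ ≤ W := by
    rintro _ ⟨p, hp, rfl⟩
    exact mem_centralizer_singleton_iff.2 (commute_θ (mem_centralizer_singleton_iff.1 (hT hp))).eq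
  set T' := (T.map θ).subgroupOf W
  have hT' : IsPGroup 2 T' := by
    refine IsPGroup.of_card (n := 5) ?_
    rw [Nat.card_congr (subgroupOfEquivOfLe hTW).toEquiv, card_map_of_injective E.inj, hTc]
    norm_num
  obtain ⟨P, hP⟩ := hT'.exists_le_sylow
  have hPT : (P : Subgroup W) = T' := by
    by_contra hne
    haveI : Group.IsNilpotent (P : Subgroup W) := P.isPGroup'.isNilpotent
    have hlt : T'.subgroupOf (P : Subgroup W) < ⊤ := by
      refine lt_top_iff_ne_top.2 fun e => hne (le_antisymm ?_ hP)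
      exact Subgroup.subgroupOf_eq_top.1 e
    obtain ⟨x, hx, hxT⟩ := SetLike.exists_of_lt
      (Group.normalizerCondition_of_isNilpotent _ hlt)
    rw [mem_subgroupOf] at hxT
    have hxW : Commute ((x : W) : G) (θ t0) := mem_centralizer_singleton_iff.1 (x : W).2
    have hv : ((x : W) : G) * θ v0 * ((x : W) : G)⁻¹ ∈ T.map θ := by
      have hvW : θ v0 ∈ W := hTW (mem_map_of_mem θ hvT)
      have hvP : (⟨θ v0, hvW⟩ : W) ∈ (P : Subgroup W) :=
        hP (mem_subgroupOf.2 (mem_map_of_mem θ hvT))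
      have := (mem_normalizer_iff.1 hx ⟨⟨θ v0, hvW⟩, hvP⟩).1
        (mem_subgroupOf.2 (mem_subgroupOf.2 (mem_map_of_mem θ hvT)))
      simpa [T', mem_subgroupOf] using this
    obtain ⟨p, hp, hpe⟩ := hv
    have hrange : ((x : W) : G) ∈ θ.range := by
      refine mem_range_of_act E hxW ?_
      rcases fusion E hxW hp hpe.symm with r | r <;> rw [← hpe, r]
      · exact Or.inl rfl
      · exact Or.inr rfl
    obtain ⟨q, hq⟩ := hrange
    set T2 := ((P : Subgroup W).map W.subtype).comap θ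
    have hT2 : IsPGroup 2 T2 := (P.isPGroup'.map _).comap_of_injective θ E.inj
    have hT2le : T2 ≤ cA t0 := by
      intro a ha
      obtain ⟨b, -, hb⟩ := ha
      exact mem_centralizer_singleton_iff.2 (pre E (by
        rw [← hb]; exact mem_centralizer_singleton_iff.1 b.2))
    have hTT2 : T ≤ T2 := fun a ha =>
      ⟨⟨θ a, hTW (mem_map_of_mem θ ha)⟩, hP (mem_subgroupOf.2 (mem_map_of_mem θ ha)), rfl⟩
    obtain ⟨n, hn⟩ := IsPGroup.iff_card.1 hT2
    have hd : 2 ^ n ∣ 96 := hn ▸ card_centralizer_values.2.2.1 ▸ Subgroup.card_dvd_of_le hT2le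
    have hn5 : n ≤ 5 := by
      by_contra hlt
      have h64 := (pow_dvd_pow 2 (show 6 ≤ n by omega)).trans hd
      norm_num at h64
    have hT2T : T = T2 := Subgroup.eq_of_le_of_card_ge hTT2 (by
      rw [hn, hTc]
      exact (Nat.pow_le_pow_right (by norm_num) hn5).trans (by norm_num))
    refine hxT (mem_subgroupOf.2 ⟨q, ?_, hq⟩)
    rw [hT2T]
    exact ⟨(x : W), x.2, hq.symm⟩
  have hKle : K ≤ W := fun k hk => mem_centralizer_singleton_iff.2 (hKW k hk).eq
  obtain ⟨R, hR⟩ := (hK.of_equiv (subgroupOfEquivOfLe hKle).symm).exists_le_sylow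
  obtain ⟨h, hh⟩ := MulAction.exists_smul_eq W R P
  refine ⟨(h : G), mem_centralizer_singleton_iff.1 h.2, fun k hk => ?_⟩
  have hm : h * ⟨k, hKle hk⟩ * h⁻¹ ∈ (P : Subgroup W) := by
    rw [← hh, Sylow.coe_subgroup_smul, Subgroup.mem_pointwise_smul_iff_inv_smul_mem]
    simpa [MulAut.smul_def, mul_assoc] using hR (mem_subgroupOf.2 hk)
  rw [hPT, mem_subgroupOf] at hm
  obtain ⟨p, hp, hpe⟩ := hm
  exact ⟨p, hp, hpe⟩

end Cfsg.Agent.Lib.AltEightThree6.CentTB
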