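import Cfsg.Agent.Lib.AltEightThree6.Spec
import Cfsg.Agent.Lib.Coprime.Generation
import Mathlib

/-!
The centraliser of the four group of the first system has order 12, or the two systems may be
chosen so that their four groups commute.
-/

set_option autoImplicit false
set_option linter.style.haveILetI false

namespace Cfsg.Agent.Lib.AltEightThree6.DichPf

open Equiv Subgroup

universe u

abbrev P3 := Equiv.Perm (Fin 3)
abbrev P5 := Equiv.Perm (Fin 5)

def z3 : P3 := swap 0 1 * swap 1 2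
def a5 : P5 := swap 2 3 * swap 3 4
def t5 : P5 := swap 1 2 * swap 3 4
def v5 : P5 := swap 1 3 * swap 2 4
def t6 : P5 := swap 0 2 * swap 3 4
def v6 : P5 := swap 0 3 * swap 2 4
/-- The element exchanging the two points fixed by `aL`. -/
def sw : L35 := evL (swap 0 1) (swap 0 1)

theorem p3_facts : ∀ p : P3, (p * z3 = z3 * p → p = 1 ∨ p = z3 ∨ p = z3 * z3) ∧
    (Equiv.Perm.sign p = 1 → p * z3 = z3 * p) ∧ (p * z3 = z3 * p → Equiv.Perm.sign p = 1 ∧ p ^ 3 = 1) := by
  decide +kernel

theorem cent_klein : ∀ q : P5, q * t5 = t5 * q → q * v5 = v5 * q →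
    Equiv.Perm.sign q = 1 ∧ (q = 1 ∨ q = t5 ∨ q = v5 ∨ q = t5 * v5) := by
  decide +kernel

theorem cent_a5 : ∀ q : P5, Equiv.Perm.sign q = 1 → q * a5 = a5 * q →
    q = 1 ∨ q = a5 ∨ q = a5 * a5 := by
  decide +kernel

/-- Conjugation by `a5` and by its inverse. -/
def c1 (q : P5) : P5 := a5 * q * a5⁻¹
def c2 (q : P5) : P5 := a5⁻¹ * q * a5
def w1 (q : P5) : P5 := q * c1 q * q * c1 q * c2 q
def w2 (q : P5) : P5 := q * q * q * q * c2 q * c1 q

theorem words : ∀ q : P5, Equiv.Perm.sign q = 1 →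
    (q = 1 ∨ q = t5 ∨ q = v5 ∨ q = t5 * v5) ∨ (q = 1 ∨ q = t6 ∨ q = v6 ∨ q = t6 * v6) ∨
      (w1 q ≠ 1 ∧ w1 q * w1 q * w1 q = 1) ∨ (w2 q ≠ 1 ∧ w2 q * w2 q * w2 q = 1) := by
  decide +kernel

/-- The four group generated by two commuting involutions. -/
def four {G : Type*} [Group G] (t v : G) (ht : t * t = 1) (hv : v * v = 1) (h : t * v = v * t) :
    Subgroup G where
  carrier := {1, t, v, t * v}
  one_mem' := by simp
  mul_mem' := by
    have e1 : t * (t * v) = v := by rw [← mul_assoc, ht, one_mul]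
    have e2 : v * (t * v) = t := by rw [h, ← mul_assoc, hv, one_mul]
    have e3 : t * v * t = v := by rw [h, mul_assoc, ht, mul_one]
    have e4 : t * v * v = t := by rw [mul_assoc, hv, mul_one]
    have e5 : t * v * (t * v) = 1 := by rw [← mul_assoc, e3, hv]
    intro a b ha hb
    simp only [Set.mem_insert_iff, Set.mem_singleton_iff] at ha hb ⊢
    rcases ha with rfl | rfl | rfl | rfl <;> rcases hb with rfl | rfl | rfl | rfl <;>
      simp [ht, hv, e1, e2, e3, e4, e5, h.symm]
  inv_mem' := by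
    have e5 : t * v * (t * v) = 1 := by
      rw [← mul_assoc, h, mul_assoc v, ht, mul_one, hv]
    intro a ha
    simp only [Set.mem_insert_iff, Set.mem_singleton_iff] at ha ⊢
    rcases ha with rfl | rfl | rfl | rfl
    · simp
    · rw [inv_eq_of_mul_eq_one_right ht]; simp
    · rw [inv_eq_of_mul_eq_one_right hv]; simp
    · rw [inv_eq_of_mul_eq_one_right e5]; simp

def W0 : Subgroup P5 := four t5 v5 (by decide +kernel) (by decide +kernel) (by decide +kernel)
def W1 : Subgroup P5 := four t6 v6 (by decide +kernel) (by decide +kernel) (by decide +kernel)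

theorem mem_W0 {q : P5} : q ∈ W0 ↔ q = 1 ∨ q = t5 ∨ q = v5 ∨ q = t5 * v5 := Iff.rfl
theorem mem_W1 {q : P5} : q ∈ W1 ↔ q = 1 ∨ q = t6 ∨ q = v6 ∨ q = t6 * v6 := Iff.rfl

theorem card_W0 : Nat.card W0 = 4 := by
  rw [Nat.card_congr (Equiv.subtypeEquivRight (q := fun q => q ∈ ({1, t5, v5, t5 * v5} : Finset P5))
    fun q => by simp [mem_W0]), Nat.card_eq_finsetCard]
  decide +kernel

theorem card_W1 : Nat.card W1 = 4 := by
  rw [Nat.card_congr (Equiv.subtypeEquivRight (q := fun q => q ∈ ({1, t6, v6, t6 * v6} : Finset P5))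
    fun q => by simp [mem_W1]), Nat.card_eq_finsetCard]
  decide +kernel

theorem cross : ∀ q₀ q₁ : P5, q₀ ∈ [t5, v5, t5 * v5] → q₁ ∈ [t6, v6, t6 * v6] →
    q₀ * q₁ ∉ [1, t5, v5, t5 * v5] ∧ q₀ * q₁ ∉ [1, t6, v6, t6 * v6] := by
  intro q₀ q₁ h0 h1
  simp only [List.mem_cons, List.not_mem_nil, or_false] at h0 h1
  rcases h0 with rfl | rfl | rfl <;> rcases h1 with rfl | rfl | rfl <;> decide +kernel

theorem orbit0 : ∀ q ∈ [t5, v5, t5 * v5], ∀ r ∈ [t5, v5, t5 * v5],
    r = q ∨ r = c1 q ∨ r = c2 q := by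
  decide +kernel

theorem orbit1 : ∀ q ∈ [t6, v6, t6 * v6], ∀ r ∈ [t6, v6, t6 * v6],
    r = q ∨ r = c1 q ∨ r = c2 q := by
  decide +kernel

/-- Embedding of an even subgroup of the second factor. -/
def emb (W : Subgroup P5) (hW : ∀ q ∈ W, Equiv.Perm.sign q = 1) : W →* L35 :=
  ((MonoidHom.inr P3 P5).comp W.subtype).codRestrict _ fun q => by
    simp [MonoidHom.mem_ker, signPair, hW q.1 q.2]

theorem emb_val (W : Subgroup P5) (hW : ∀ q ∈ W, Equiv.Perm.sign q = 1) (q : W) :
    (emb W hW q).1 = (1, (q : P5)) := rfl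

theorem emb_injective (W : Subgroup P5) (hW : ∀ q ∈ W, Equiv.Perm.sign q = 1) :
    Function.Injective (emb W hW) := fun a b h =>
  Subtype.ext (congrArg (fun l : L35 => l.1.2) h)

theorem W0_even : ∀ q ∈ W0, Equiv.Perm.sign q = 1 := by
  intro q hq
  rcases mem_W0.1 hq with rfl | rfl | rfl | rfl <;> decide +kernel

theorem W1_even : ∀ q ∈ W1, Equiv.Perm.sign q = 1 := by
  intro q hq
  rcases mem_W1.1 hq with rfl | rfl | rfl | rfl <;> decide +kernel

def i0 : W0 →* L35 := emb W0 W0_even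
def i1 : W1 →* L35 := emb W1 W1_even

theorem l_sign (l : L35) : Equiv.Perm.sign l.1.1 * Equiv.Perm.sign l.1.2 = 1 := by
  exact MonoidHom.mem_ker.1 l.2

theorem comm_pair {l m : L35} :
    l * m = m * l ↔ l.1.1 * m.1.1 = m.1.1 * l.1.1 ∧ l.1.2 * m.1.2 = m.1.2 * l.1.2 := by
  constructor
  · intro h
    exact ⟨congrArg (fun x : L35 => x.1.1) h, congrArg (fun x : L35 => x.1.2) h⟩
  · rintro ⟨h1, h2⟩
    exact Subtype.ext (Prod.ext h1 h2)

theorem pow_eq_one_of_coprime {G : Type*} [Group G] {x : G} {n : ℕ} (h3 : x ^ 3 = 1)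
    (hn : x ^ n = 1) (h : ¬ 3 ∣ n) : x = 1 := by
  have : x ^ Nat.gcd 3 n = 1 := pow_gcd_eq_one.2 ⟨h3, hn⟩
  rwa [(Nat.prime_three.coprime_iff_not_dvd.2 h).gcd_eq_one, pow_one] at this

variable {G : Type u} [Group G] [Finite G]

theorem mem_normalizer_of_conj_mem {g z : G} (h : g * z * g⁻¹ ∈ zpowers z) :
    g ∈ normalizer (zpowers z : Set G) := by
  have hle : (zpowers z).map (MulAut.conj g).toMonoidHom ≤ zpowers z := by
    rw [MonoidHom.map_zpowers, zpowers_le]
    exact h
  have heq := eq_of_le_of_card_ge hle (card_map_of_injective (MulAut.conj g).injective).ge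
  rw [mem_normalizer_iff]
  intro x
  constructor
  · intro hx
    rw [← heq]
    exact ⟨x, hx, rfl⟩
  · intro hx
    rw [← heq] at hx
    obtain ⟨y, hy, hyx⟩ := hx
    rwa [← (MulAut.conj g).injective hyx]

theorem main (d : Data G) : Nat.card d.CV = 12 ∨ ∃ d' : Data G, d'.φ = d.φ ∧ d'.Good := by
  classical
  set z := d.φ zL with hzdef
  set a := d.φ aL with hadef
  set t := d.φ tL with htdef
  set v := d.φ vL with hvdef
  have hφ := d.φ_inj
  have hψ := d.ψ_inj
  have hz3 : z ^ 3 = 1 := by rw [hzdef, ← map_pow, show zL ^ 3 = 1 by decide +kernel, map_one]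
  have ha3 : a ^ 3 = 1 := by rw [hadef, ← map_pow, show aL ^ 3 = 1 by decide +kernel, map_one]
  have hz1 : z ≠ 1 := fun h => absurd (hφ (h.trans (map_one d.φ).symm)) (by decide +kernel)
  have ha1 : a ≠ 1 := fun h => absurd (hφ (h.trans (map_one d.φ).symm)) (by decide +kernel)
  have hza : Commute z a := by
    change z * a = a * z
    rw [hzdef, hadef, ← map_mul, ← map_mul, show zL * aL = aL * zL by decide +kernel]
  have hmemCV : ∀ x : G, x ∈ d.CV ↔ x * t = t * x ∧ x * v = v * x := by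
    intro x
    simp only [Data.CV, mem_centralizer_iff, Set.mem_insert_iff, Set.mem_singleton_iff,
      forall_eq_or_imp, forall_eq]
    exact ⟨fun h => ⟨h.1.symm, h.2.symm⟩, fun h => ⟨h.1.symm, h.2.symm⟩⟩
  have hCz : ∀ x : G, x * z = z * x → ∃ l : L35, d.φ l = x := by
    intro x hx
    have : x ∈ normalizer (zpowers z : Set G) := by
      refine mem_normalizer_of_conj_mem ?_
      rw [hx, mul_inv_cancel_right]
      exact mem_zpowers _
    rw [← d.φ_range] at this
    exact this
  have hCa : ∀ x : G, x * a = a * x → ∃ l : L35, d.ψ l = x ∧ l * zL = zL * l := by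
    intro x hx
    have : x ∈ normalizer (zpowers a : Set G) := by
      refine mem_normalizer_of_conj_mem ?_
      rw [hx, mul_inv_cancel_right]
      exact mem_zpowers _
    rw [← d.ψ_range] at this
    obtain ⟨l, rfl⟩ := this
    refine ⟨l, rfl, hψ ?_⟩
    rw [map_mul, map_mul]
    rcases d.ψ_z with h | h
    · rw [h]; exact hx
    · rw [h]; exact (show Commute (d.ψ l) a from hx).inv_right.eq
  have hzCV : z ∈ d.CV := by
    rw [hmemCV]
    constructor
    · rw [hzdef, htdef, ← map_mul, ← map_mul, show zL * tL = tL * zL by decide +kernel]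
    · rw [hzdef, hvdef, ← map_mul, ← map_mul, show zL * vL = vL * zL by decide +kernel]
  -- a Sylow `3`-subgroup of `CV`
  haveI : Fact (Nat.Prime 3) := ⟨Nat.prime_three⟩
  let zc : d.CV := ⟨z, hzCV⟩
  have hzc : orderOf zc = 3 := by
    rw [← orderOf_coe]
    exact orderOf_eq_prime hz3 hz1
  have hzp : IsPGroup 3 (zpowers zc) := IsPGroup.of_card (n := 1) (by rw [Nat.card_zpowers, hzc, pow_one])
  obtain ⟨P, hP⟩ := hzp.exists_le_sylow
  have hzP : zc ∈ (P : Subgroup d.CV) := hP (mem_zpowers zc)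
  have hPcomm : ∀ x y : (P : Subgroup d.CV), x * y = y * x := by
    obtain ⟨k, hk⟩ := P.isPGroup'.exists_card_eq
    have hdvd : Nat.card (P : Subgroup d.CV) ∣ Nat.card G :=
      (card_subgroup_dvd_card _).trans (card_subgroup_dvd_card _)
    have hk2 : k ≤ 2 := by
      by_contra hk2
      exact d.sylow (((show (27 : ℕ) = 3 ^ 3 by norm_num) ▸ pow_dvd_pow 3 (show 3 ≤ k by omega)).trans
        (hk ▸ hdvd))
    interval_cases k
    · haveI := (Nat.card_eq_one_iff_unique.1 (hk.trans (pow_zero 3))).1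
      exact fun x y => Subsingleton.elim _ _
    · haveI : IsCyclic (P : Subgroup d.CV) := isCyclic_of_prime_card (p := 3) (hk.trans (pow_one 3))
      letI := IsCyclic.commGroup (α := (P : Subgroup d.CV))
      exact fun x y => mul_comm x y
    · exact fun x y => IsPGroup.commutative_of_card_eq_prime_sq hk x y
  have hPeq : (P : Subgroup d.CV) = zpowers zc := by
    refine le_antisymm (fun x hx => ?_) hP
    have hxz : (x : G) * z = z * x :=
      congrArg (fun y : (P : Subgroup d.CV) => ((y : d.CV) : G)) (hPcomm ⟨x, hx⟩ ⟨zc, hzP⟩)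
    obtain ⟨l, hl⟩ := hCz x hxz
    obtain ⟨j, hj⟩ := P.isPGroup' ⟨x, hx⟩
    have hlj : l ^ 3 ^ j = 1 := hφ (by
      rw [map_pow, hl, map_one]
      exact congrArg (fun y : (P : Subgroup d.CV) => ((y : d.CV) : G)) hj)
    have hxm := (hmemCV x).1 x.2
    rw [← hl, htdef, hvdef, ← map_mul, ← map_mul, ← map_mul, ← map_mul] at hxm
    have ht5 := (comm_pair.1 (hφ hxm.1)).2
    have hv5 := (comm_pair.1 (hφ hxm.2)).2
    have hz5 := (comm_pair.1 (hφ (show d.φ (l * zL) = d.φ (zL * l) by
      rw [map_mul, map_mul, hl]; exact hxz))).1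
    obtain ⟨-, hq⟩ := cent_klein l.1.2 ht5 hv5
    have hq1 : l.1.2 = 1 := by
      have h2 : l.1.2 ^ 2 = 1 := by
        rcases hq with h | h | h | h <;> rw [h] <;> decide +kernel
      have h3 : l.1.2 ^ 3 ^ j = 1 := congrArg (fun y : L35 => y.1.2) hlj
      have : l.1.2 ^ Nat.gcd 2 (3 ^ j) = 1 := pow_gcd_eq_one.2 ⟨h2, h3⟩
      rwa [(Nat.Coprime.pow_right j (by norm_num : Nat.Coprime 2 3)).gcd_eq_one, pow_one] at this
    have hl' : l = 1 ∨ l = zL ∨ l = zL * zL := by
      rcases (p3_facts l.1.1).1 hz5 with h | h | h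
      · exact Or.inl (Subtype.ext (Prod.ext h hq1))
      · exact Or.inr (Or.inl (Subtype.ext (Prod.ext h hq1)))
      · exact Or.inr (Or.inr (Subtype.ext (Prod.ext h (hq1.trans (by decide +kernel)))))
    rcases hl' with h | h | h
    · have : x = 1 := Subtype.ext (by rw [← hl, h, map_one]; rfl)
      rw [this]; exact one_mem _
    · have : x = zc := Subtype.ext (by rw [← hl, h])
      rw [this]; exact mem_zpowers _
    · have : x = zc * zc := Subtype.ext (by rw [← hl, h, map_mul]; rfl)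
      rw [this]; exact mul_mem (mem_zpowers _) (mem_zpowers _)
  have hPN : normalizer ((P : Subgroup d.CV) : Set d.CV) ≤ centralizer ((P : Subgroup d.CV) : Set d.CV) := by
    intro g hg
    have hconj : g * zc * g⁻¹ ∈ (P : Subgroup d.CV) := (mem_normalizer_iff.1 hg zc).1 hzP
    rw [hPeq] at hconj
    have hgn : (g : G) ∈ d.φ.range := by
      rw [d.φ_range]
      refine mem_normalizer_of_conj_mem ?_
      obtain ⟨k, hk⟩ := mem_zpowers_iff.1 hconj
      exact mem_zpowers_iff.2 ⟨k, by simpa using congrArg Subtype.val hk⟩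
    obtain ⟨l, hl⟩ := hgn
    have hgm := (hmemCV g).1 g.2
    rw [← hl, htdef, hvdef, ← map_mul, ← map_mul, ← map_mul, ← map_mul] at hgm
    obtain ⟨hs, -⟩ := cent_klein l.1.2 (comm_pair.1 (hφ hgm.1)).2 (comm_pair.1 (hφ hgm.2)).2
    have hs1 : Equiv.Perm.sign l.1.1 = 1 := by
      have := l_sign l
      rwa [hs, mul_one] at this
    have hlz : l * zL = zL * l := comm_pair.2 ⟨(p3_facts l.1.1).2.1 hs1, by simp [zL, evL]⟩
    have hgz : g * zc = zc * g := Subtype.ext (by
      change (g : G) * z = z * (g : G)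
      rw [← hl, hzdef, ← map_mul, ← map_mul, hlz])
    rw [mem_centralizer_iff, hPeq]
    rintro _ ⟨k, rfl⟩
    exact ((show Commute g zc from hgz).zpow_right k).eq.symm
  have hcompl := MonoidHom.ker_transferSylow_isComplement' P hPN
  set R := (MonoidHom.transferSylow P hPN).ker with hRdef
  have hPcard : Nat.card (P : Subgroup d.CV) = 3 := by rw [hPeq, Nat.card_zpowers, hzc]
  have hRcard : Nat.card d.CV = Nat.card R * 3 := by rw [← hcompl.card_mul_card, hPcard]
  have hR3 : ¬ 3 ∣ Nat.card R := by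
    have := hcompl.index_eq_card
    rw [← this]
    exact P.not_dvd_index
  set R' : Subgroup G := R.map d.CV.subtype with hR'def
  have hR'card : Nat.card R' = Nat.card R := card_map_of_injective d.CV.subtype_injective
  have hR'mem : ∀ x : G, x ∈ R' ↔ x ∈ d.CV ∧ ¬ 3 ∣ orderOf x := by
    intro x
    constructor
    · rintro ⟨y, hy, rfl⟩
      refine ⟨y.2, fun h3 => hR3 (h3.trans ?_)⟩
      rw [coe_subtype, orderOf_coe]
      exact R.orderOf_dvd_natCard hy
    · rintro ⟨hx, h3⟩
      refine ⟨⟨x, hx⟩, ?_, rfl⟩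
      rw [SetLike.mem_coe, hRdef, MonoidHom.mem_ker]
      refine pow_eq_one_of_coprime (n := orderOf x) ?_ ?_ h3
      · have h := pow_card_eq_one' (x := MonoidHom.transferSylow P hPN ⟨x, hx⟩)
        rwa [hPcard] at h
      · rw [← map_pow, show (⟨x, hx⟩ : d.CV) ^ orderOf x = 1 from
          Subtype.ext (by simpa using pow_orderOf_eq_one x), map_one]
  have hord : ∀ x ∈ R', ¬ 3 ∣ orderOf x := fun x hx => ((hR'mem x).1 hx).2
  have haCV : ∀ x : G, x ∈ d.CV → a * x * a⁻¹ ∈ d.CV ∧ a⁻¹ * x * a ∈ d.CV := by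
    intro x hx
    obtain ⟨h1, h2⟩ := (hmemCV x).1 hx
    have htv : x * (t * v) = t * v * x := by rw [← mul_assoc, h1, mul_assoc, h2, mul_assoc]
    have key : ∀ (b : G), Commute x (b⁻¹ * t * b) → Commute x (b⁻¹ * v * b) →
        b * x * b⁻¹ ∈ d.CV := by
      intro b hb1 hb2
      rw [hmemCV]
      have e : ∀ s : G, Commute x (b⁻¹ * s * b) → b * x * b⁻¹ * s = s * (b * x * b⁻¹) := fun s hs =>
        calc b * x * b⁻¹ * s = b * (x * (b⁻¹ * s * b)) * b⁻¹ := by group
          _ = b * ((b⁻¹ * s * b) * x) * b⁻¹ := by rw [hs.eq]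
          _ = s * (b * x * b⁻¹) := by group
      exact ⟨e t hb1, e v hb2⟩
    have hL : ∀ m : L35, (m = tL ∨ m = vL ∨ m = tL * vL) → Commute x (d.φ m) := by
      rintro m (rfl | rfl | rfl)
      · exact h1
      · exact h2
      · rw [map_mul]; exact htv
    refine ⟨key a ?_ ?_, ?_⟩
    · rw [hadef, htdef, ← map_inv, ← map_mul, ← map_mul]
      exact hL _ (by decide +kernel)
    · rw [hadef, hvdef, ← map_inv, ← map_mul, ← map_mul]
      exact hL _ (by decide +kernel)
    · have := key a⁻¹ (by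
        rw [inv_inv, hadef, htdef, ← map_inv, ← map_mul, ← map_mul]
        exact hL _ (by decide +kernel)) (by
        rw [inv_inv, hadef, hvdef, ← map_inv, ← map_mul, ← map_mul]
        exact hL _ (by decide +kernel))
      rwa [inv_inv] at this
  have hordconj : ∀ g x : G, orderOf (g * x * g⁻¹) = orderOf x := fun g x => by
    simpa using orderOf_injective (MulAut.conj g).toMonoidHom (MulAut.conj g).injective x
  have haR : ∀ x ∈ R', a * x * a⁻¹ ∈ R' ∧ a⁻¹ * x * a ∈ R' := by
    intro x hx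
    obtain ⟨hxc, hxo⟩ := (hR'mem x).1 hx
    refine ⟨(hR'mem _).2 ⟨(haCV x hxc).1, by rwa [hordconj]⟩, (hR'mem _).2 ⟨(haCV x hxc).2, ?_⟩⟩
    have := hordconj a⁻¹ x
    rw [inv_inv] at this
    rwa [this]
  have hzR : ∀ x ∈ R', z * x * z⁻¹ ∈ R' ∧ z⁻¹ * x * z ∈ R' := by
    intro x hx
    obtain ⟨hxc, hxo⟩ := (hR'mem x).1 hx
    refine ⟨(hR'mem _).2 ⟨d.CV.mul_mem (d.CV.mul_mem hzCV hxc) (d.CV.inv_mem hzCV), by rwa [hordconj]⟩,
      (hR'mem _).2 ⟨d.CV.mul_mem (d.CV.mul_mem (d.CV.inv_mem hzCV) hxc) hzCV, ?_⟩⟩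
    have := hordconj z⁻¹ x
    rw [inv_inv] at this
    rwa [this]
  have hnorm : ∀ g : G, (∀ x ∈ R', g * x * g⁻¹ ∈ R' ∧ g⁻¹ * x * g ∈ R') →
      g ∈ normalizer (R' : Set G) := fun g hg => mem_normalizer_iff.2 fun x => ⟨fun hx => (hg x hx).1,
        fun hx => by simpa [mul_assoc] using (hg _ hx).2⟩
  -- the centraliser of `z` in `R'`
  let fV : W0 →* G := d.φ.comp i0
  have hfV : Function.Injective fV := hφ.comp (emb_injective _ _)
  have hVR : fV.range ≤ R' := by
    rintro _ ⟨q, rfl⟩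
    refine (hR'mem _).2 ⟨(hmemCV _).2 ⟨?_, ?_⟩, ?_⟩
    · simp only [fV, MonoidHom.comp_apply, htdef, ← map_mul]
      congr 1
      rcases mem_W0.1 q.2 with h | h | h | h <;> apply Subtype.ext <;> apply Prod.ext <;>
        simp [i0, emb_val, h, tL, evL, t5, v5] <;> decide +kernel
    · simp only [fV, MonoidHom.comp_apply, hvdef, ← map_mul]
      congr 1
      rcases mem_W0.1 q.2 with h | h | h | h <;> apply Subtype.ext <;> apply Prod.ext <;>
        simp [i0, emb_val, h, vL, evL, t5, v5] <;> decide +kernel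
    · intro h3
      have h2 : (fV q) ^ 2 = 1 := by
        rw [← map_pow, show q ^ 2 = 1 from Subtype.ext (by
          rcases mem_W0.1 q.2 with h | h | h | h <;> simp [h] <;> decide +kernel), map_one]
      exact absurd (h3.trans (orderOf_dvd_of_pow_eq_one h2)) (by norm_num)
  have hCzR : ∀ x ∈ R', x * z = z * x → x ∈ fV.range := by
    intro x hx hxz
    obtain ⟨hxc, hxo⟩ := (hR'mem x).1 hx
    obtain ⟨l, hl⟩ := hCz x hxz
    have hxm := (hmemCV x).1 hxc
    rw [← hl, htdef, hvdef, ← map_mul, ← map_mul, ← map_mul, ← map_mul] at hxm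
    obtain ⟨-, hq⟩ := cent_klein l.1.2 (comm_pair.1 (hφ hxm.1)).2 (comm_pair.1 (hφ hxm.2)).2
    have hz5 := (comm_pair.1 (hφ (show d.φ (l * zL) = d.φ (zL * l) by
      rw [map_mul, map_mul, hl]; exact hxz))).1
    have hlo : l ^ orderOf x = 1 := hφ (by rw [map_pow, hl, map_one, pow_orderOf_eq_one])
    have hp : l.1.1 = 1 := pow_eq_one_of_coprime ((p3_facts l.1.1).2.2 hz5).2
      (congrArg (fun y : L35 => y.1.1) hlo) hxo
    exact ⟨⟨l.1.2, mem_W0.2 hq⟩, (congrArg d.φ (show i0 _ = l from Subtype.ext (Prod.ext hp.symm rfl))).trans hl⟩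
  have hfVcard : Nat.card fV.range = 4 := by
    rw [← Nat.card_congr (MonoidHom.ofInjective hfV).toEquiv, card_W0]
  -- the centraliser of `a` in `R'`
  set X : Subgroup G := R' ⊓ centralizer {a} with hXdef
  have hXmem : ∀ x : G, x ∈ X ↔ x ∈ R' ∧ x * a = a * x := fun x => by
    rw [hXdef, Subgroup.mem_inf, mem_centralizer_singleton_iff]
  let j : alternatingGroup (Fin 5) →* L35 :=
    emb (alternatingGroup (Fin 5)) fun q hq => Equiv.Perm.mem_alternatingGroup.1 hq
  let g : alternatingGroup (Fin 5) →* G := d.ψ.comp j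
  have hg : Function.Injective g := hψ.comp (emb_injective _ _)
  set Y := X.comap g with hYdef
  have hXY : ∀ x ∈ X, ∃ q ∈ Y, g q = x := by
    intro x hx
    obtain ⟨hxR, hxa⟩ := (hXmem x).1 hx
    obtain ⟨l, hl, hlz⟩ := hCa x hxa
    have hpz := (comm_pair.1 hlz).1
    obtain ⟨hsp, hp3⟩ := (p3_facts l.1.1).2.2 hpz
    have hlo : l ^ orderOf x = 1 := hψ (by rw [map_pow, hl, map_one, pow_orderOf_eq_one])
    have hp : l.1.1 = 1 := pow_eq_one_of_coprime hp3 (congrArg (fun y : L35 => y.1.1) hlo) (hord x hxR)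
    have hsq : l.1.2 ∈ alternatingGroup (Fin 5) := by
      rw [Equiv.Perm.mem_alternatingGroup]
      have := l_sign l
      rwa [hsp, one_mul] at this
    have hgx : g ⟨l.1.2, hsq⟩ = x :=
      (congrArg d.ψ (show j _ = l from Subtype.ext (Prod.ext hp.symm rfl))).trans hl
    exact ⟨⟨l.1.2, hsq⟩, by rw [hYdef, mem_comap, hgx]; exact hx, hgx⟩
  have hza' : z * a = a * z := hza.eq
  have hYconj : ∀ q ∈ Y, ∀ r : alternatingGroup (Fin 5),
      ((r : P5) = c1 q ∨ (r : P5) = c2 q) → r ∈ Y := by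
    intro q hq r hr
    rw [hYdef, mem_comap, hXmem] at hq ⊢
    obtain ⟨hqR, hqa⟩ := hq
    have haz' : Commute a z⁻¹ := (hza.inv_left).symm
    rcases hr with hr | hr
    · have e : g r = z * g q * z⁻¹ := by
        rw [show z = d.ψ aL from d.ψ_a.symm]
        simp only [g, MonoidHom.comp_apply, ← map_inv, ← map_mul]
        refine congrArg d.ψ (Subtype.ext (Prod.ext ?_ ?_))
        · simp [j, emb_val, aL, evL]
        · simp [j, emb_val, aL, evL, hr, c1, a5]
      rw [e]
      exact ⟨(hzR _ hqR).1,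
        ((hza.mul_left (show Commute (g q) a from hqa)).mul_left hza.inv_left).eq⟩
    · have e : g r = z⁻¹ * g q * z := by
        rw [show z = d.ψ aL from d.ψ_a.symm]
        simp only [g, MonoidHom.comp_apply, ← map_inv, ← map_mul]
        refine congrArg d.ψ (Subtype.ext (Prod.ext ?_ ?_))
        · simp [j, emb_val, aL, evL]
        · simp [j, emb_val, aL, evL, hr, c2, a5]
      rw [e]
      exact ⟨(hzR _ hqR).2,
        ((hza.inv_left.mul_left (show Commute (g q) a from hqa)).mul_left hza).eq⟩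
  have hY3 : ∀ q ∈ Y, (q : P5) * q * q = 1 → q = 1 := by
    intro q hq h3
    have h := ((hXmem _).1 (mem_comap.1 hq)).1
    have hq3 : q ^ 3 = 1 := Subtype.ext (by simpa [pow_succ, pow_zero] using h3)
    refine hg ((pow_eq_one_of_coprime ?_ (pow_orderOf_eq_one (g q)) (hord _ h)).trans (map_one g).symm)
    rw [← map_pow, hq3, map_one]
  have hYW : ∀ q ∈ Y, (q : P5) ∈ W0 ∨ (q : P5) ∈ W1 := by
    intro q hq
    have hA : ∀ r : P5, (r = c1 q ∨ r = c2 q) → ∃ h : r ∈ alternatingGroup (Fin 5),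
        (⟨r, h⟩ : alternatingGroup (Fin 5)) ∈ Y := by
      intro r hr
      have hm : r ∈ alternatingGroup (Fin 5) := by
        rw [Equiv.Perm.mem_alternatingGroup]
        have hq1 := Equiv.Perm.mem_alternatingGroup.1 q.2
        rcases hr with rfl | rfl <;> simp [c1, c2, hq1, mul_comm]
      exact ⟨hm, hYconj q hq _ hr⟩
    obtain ⟨h1, hY1⟩ := hA _ (Or.inl rfl)
    obtain ⟨h2, hY2⟩ := hA _ (Or.inr rfl)
    rcases words q (Equiv.Perm.mem_alternatingGroup.1 q.2) with h | h | ⟨hne, h3⟩ | ⟨hne, h3⟩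
    · exact Or.inl (mem_W0.2 h)
    · exact Or.inr (mem_W1.2 h)
    · exfalso
      have hw : q * ⟨_, h1⟩ * q * ⟨_, h1⟩ * ⟨_, h2⟩ ∈ Y :=
        mul_mem (mul_mem (mul_mem (mul_mem hq hY1) hq) hY1) hY2
      exact hne (congrArg Subtype.val (hY3 _ hw h3))
    · exfalso
      have hw : q * q * q * q * ⟨_, h2⟩ * ⟨_, h1⟩ ∈ Y :=
        mul_mem (mul_mem (mul_mem (mul_mem (mul_mem hq hq) hq) hq) hY2) hY1
      exact hne (congrArg Subtype.val (hY3 _ hw h3))
  have hW : (∀ q ∈ Y, (q : P5) ∈ W0) ∨ (∀ q ∈ Y, (q : P5) ∈ W1) := by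
    by_contra hcon
    push Not at hcon
    obtain ⟨⟨q₁, hq₁, hn₁⟩, q₀, hq₀, hn₀⟩ := hcon
    have m1 := (hYW q₁ hq₁).resolve_left hn₁
    have m0 := (hYW q₀ hq₀).resolve_right hn₀
    have n1 : (q₁ : P5) ≠ 1 := fun h => hn₁ (h ▸ one_mem W0)
    have n0 : (q₀ : P5) ≠ 1 := fun h => hn₀ (h ▸ one_mem W1)
    have c := cross q₀ q₁ (by simpa using (mem_W0.1 m0).resolve_left n0)
      (by simpa using (mem_W1.1 m1).resolve_left n1)
    rcases hYW _ (Y.mul_mem hq₀ hq₁) with h | h
    · exact c.1 (by simpa using mem_W0.1 h)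
    · exact c.2 (by simpa using mem_W1.1 h)
  have htri : X = ⊥ ∨ X = (d.ψ.comp i0).range ∨ X = (d.ψ.comp i1).range := by
    by_cases hb : X = ⊥
    · exact Or.inl hb
    · obtain ⟨x, hxX, hx1⟩ := X.bot_or_exists_ne_one.resolve_left hb
      obtain ⟨q, hq, rfl⟩ := hXY x hxX
      have hq1 : (q : P5) ≠ 1 := fun h => hx1 (by rw [show q = 1 from Subtype.ext h, map_one])
      right
      rcases hW with hW | hW
      · left
        have hqW := (mem_W0.1 (hW q hq)).resolve_left hq1
        ext y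
        constructor
        · intro hy
          obtain ⟨r, hr, rfl⟩ := hXY y hy
          exact ⟨⟨r, hW r hr⟩, rfl⟩
        · rintro ⟨⟨r, hr⟩, rfl⟩
          have hra : r ∈ alternatingGroup (Fin 5) := Equiv.Perm.mem_alternatingGroup.2 (W0_even r hr)
          suffices hs : (⟨r, hra⟩ : alternatingGroup (Fin 5)) ∈ Y from hs
          rcases mem_W0.1 hr with h | h
          · rw [show (⟨r, hra⟩ : alternatingGroup (Fin 5)) = 1 from Subtype.ext h]; exact Y.one_mem
          · rcases orbit0 q (by simpa using hqW) r (by simpa using h) with e | e | e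
            · rw [show (⟨r, hra⟩ : alternatingGroup (Fin 5)) = q from Subtype.ext e]; exact hq
            · exact hYconj q hq _ (Or.inl e)
            · exact hYconj q hq _ (Or.inr e)
      · right
        have hqW := (mem_W1.1 (hW q hq)).resolve_left hq1
        ext y
        constructor
        · intro hy
          obtain ⟨r, hr, rfl⟩ := hXY y hy
          exact ⟨⟨r, hW r hr⟩, rfl⟩
        · rintro ⟨⟨r, hr⟩, rfl⟩
          have hra : r ∈ alternatingGroup (Fin 5) := Equiv.Perm.mem_alternatingGroup.2 (W1_even r hr)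
          suffices hs : (⟨r, hra⟩ : alternatingGroup (Fin 5)) ∈ Y from hs
          rcases mem_W1.1 hr with h | h
          · rw [show (⟨r, hra⟩ : alternatingGroup (Fin 5)) = 1 from Subtype.ext h]; exact Y.one_mem
          · rcases orbit1 q (by simpa using hqW) r (by simpa using h) with e | e | e
            · rw [show (⟨r, hra⟩ : alternatingGroup (Fin 5)) = q from Subtype.ext e]; exact hq
            · exact hYconj q hq _ (Or.inl e)
            · exact hYconj q hq _ (Or.inr e)
  -- the order of `R'`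
  have hcomm : ∀ (p : fV.range) (x : X), Commute (fV.range.subtype p) (X.subtype x) := by
    rintro ⟨_, ⟨q, hq⟩, rfl⟩ ⟨x, hx⟩
    obtain ⟨h1, h2⟩ := (hmemCV x).1 ((hR'mem x).1 ((hXmem x).1 hx).1).1
    change Commute (d.φ (i0 ⟨q, hq⟩)) x
    rcases mem_W0.1 hq with h | h | h | h
    · rw [show i0 ⟨q, hq⟩ = 1 from Subtype.ext (Prod.ext rfl h), map_one]
      exact Commute.one_left x
    · rw [show i0 ⟨q, hq⟩ = tL from Subtype.ext (Prod.ext rfl h)]
      exact h1.symm
    · rw [show i0 ⟨q, hq⟩ = vL from Subtype.ext (Prod.ext rfl h)]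
      exact h2.symm
    · rw [show i0 ⟨q, hq⟩ = tL * vL from Subtype.ext (Prod.ext (show (1 : P3) = (tL * vL).1.1 by decide +kernel) h), map_mul]
      exact (show Commute t x from h1.symm).mul_left h2.symm
  let f := MonoidHom.noncommCoprod fV.range.subtype X.subtype hcomm
  have hab' : z ∉ zpowers a := by
    rw [hzdef, hadef, ← MonoidHom.map_zpowers]
    rintro ⟨l, hl, he⟩
    obtain rfl := hφ he
    obtain ⟨k, hk⟩ := hl
    have h1 : (1 : P3) ^ k = z3 := congrArg (fun y : L35 => y.1.1) hk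
    rw [one_zpow] at h1
    exact absurd h1 (by decide +kernel)
  have htwo : ∀ y : G, Nat.card (centralizer ({y} : Set G)) = 18 → Commute z y → Commute a y →
      ∀ x ∈ R', x * y = y * x → x = 1 := by
    intro y hy hzy hay x hx hxy
    by_contra hx1
    set K : Subgroup G := R' ⊓ centralizer {y} with hKdef
    have hK : Nat.card K ≤ 2 := by
      have h18 : Nat.card K ∣ 18 := hy ▸ card_dvd_of_le inf_le_right
      have hK3 : ¬ 3 ∣ Nat.card K := fun h => hR3 (hR'card ▸ h.trans (card_dvd_of_le inf_le_left))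
      have : Nat.card K ∣ 2 := by
        refine Nat.Coprime.dvd_of_dvd_mul_right ?_
          (show Nat.card K ∣ 2 * 3 ^ 2 by norm_num; exact h18)
        exact Nat.Coprime.pow_right 2 (Nat.prime_three.coprime_iff_not_dvd.2 hK3).symm
      exact Nat.le_of_dvd two_pos this
    have hmemK : ∀ w : G, w ∈ K ↔ w ∈ R' ∧ Commute w y := fun w => by
      rw [hKdef, Subgroup.mem_inf, mem_centralizer_singleton_iff]; rfl
    have hfix : ∀ b : G, Commute b y → b * x * b⁻¹ ∈ R' → b * x = x * b := by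
      intro b hb hbR
      have h1 : b * x * b⁻¹ ∈ K := (hmemK _).2 ⟨hbR, (hb.mul_left hxy).mul_left hb.inv_left⟩
      have h2 : x ∈ K := (hmemK x).2 ⟨hx, hxy⟩
      by_contra hne
      have hne' : b * x * b⁻¹ ≠ x := fun h => hne (mul_inv_eq_iff_eq_mul.1 h)
      have hne1 : b * x * b⁻¹ ≠ 1 := fun h => hx1 (conj_eq_one_iff.1 h)
      haveI := Fintype.ofFinite K
      have h3 : ({⟨1, K.one_mem⟩, ⟨x, h2⟩, ⟨_, h1⟩} : Finset K).card = 3 := by
        rw [Finset.card_insert_of_notMem, Finset.card_pair]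
        · simpa [Subtype.ext_iff] using hne'.symm
        · simp [Subtype.ext_iff, Ne.symm hx1, hne1.symm]
      have := Finset.card_le_univ ({⟨1, K.one_mem⟩, ⟨x, h2⟩, ⟨_, h1⟩} : Finset K)
      rw [Nat.card_eq_fintype_card] at hK
      omega
    have hxz := (hfix z hzy (hzR x hx).1).symm
    have hxa := (hfix a hay (haR x hx).1).symm
    obtain ⟨l, hl⟩ := hCz x hxz
    have hlz := comm_pair.1 (hφ (show d.φ (l * zL) = d.φ (zL * l) by rw [map_mul, map_mul, hl]; exact hxz))
    have hla := comm_pair.1 (hφ (show d.φ (l * aL) = d.φ (aL * l) by rw [map_mul, map_mul, hl]; exact hxa))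
    have hsq : Equiv.Perm.sign l.1.2 = 1 := by
      have := l_sign l
      rwa [((p3_facts l.1.1).2.2 hlz.1).1, one_mul] at this
    have hl3 : l ^ 3 = 1 := by
      refine Subtype.ext (Prod.ext ((p3_facts l.1.1).2.2 hlz.1).2 ?_)
      change l.1.2 ^ 3 = 1
      rcases cent_a5 l.1.2 hsq hla.2 with h | h | h <;> rw [h] <;> decide +kernel
    refine hx1 (pow_eq_one_of_coprime ?_ (pow_orderOf_eq_one x) (hord x hx))
    rw [← hl, ← map_pow, hl3, map_one]
  have hle : R' ≤ f.range := by
    refine Coprime.le_of_pair Nat.prime_three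
      (Nat.prime_three.coprime_iff_not_dvd.2 (hR'card ▸ hR3)) ?_ hza hz3 ha3 ha1 hab' ?_
    · rw [closure_le]
      rintro _ (rfl | rfl)
      · exact hnorm z hzR
      · exact hnorm a haR
    intro x hx hx1
    have hx' : ∃ l : L35, d.φ l = x ∧ l * zL = zL * l ∧ l * aL = aL * l := by
      rw [hzdef, hadef, show ({d.φ zL, d.φ aL} : Set G) = d.φ '' {zL, aL} by simp [Set.image_pair],
        ← MonoidHom.map_closure] at hx
      obtain ⟨l, hl, rfl⟩ := hx
      haveI := Coprime.isMulCommutative_closure_pair (a := zL) (b := aL) (by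
        change zL * aL = aL * zL; decide +kernel)
      refine ⟨l, rfl, ?_, ?_⟩
      · exact congrArg Subtype.val ((IsMulCommutative.is_comm).comm
          (⟨l, hl⟩ : closure ({zL, aL} : Set L35)) ⟨zL, subset_closure (by simp)⟩)
      · exact congrArg Subtype.val ((IsMulCommutative.is_comm).comm
          (⟨l, hl⟩ : closure ({zL, aL} : Set L35)) ⟨aL, subset_closure (by simp)⟩)
    obtain ⟨l, rfl, hlz, hla⟩ := hx'
    rintro w ⟨hwR, hwc⟩
    replace hwc : w * d.φ l = d.φ l * w := mem_centralizer_singleton_iff.1 hwc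
    have hsq : Equiv.Perm.sign l.1.2 = 1 := by
      have := l_sign l
      rwa [((p3_facts l.1.1).2.2 (comm_pair.1 hlz).1).1, one_mul] at this
    have viaZ : Commute w z → w ∈ f.range := fun h => by
      exact ⟨(⟨w, hCzR w hwR h.eq⟩, 1), by simp [f, MonoidHom.noncommCoprod_apply]⟩
    have viaA : Commute w a → w ∈ f.range := fun h => by
      exact ⟨(1, ⟨w, (hXmem w).2 ⟨hwR, h.eq⟩⟩), by simp [f, MonoidHom.noncommCoprod_apply]⟩
    have y1 : ∀ y : G, Nat.card (centralizer ({y} : Set G)) = 18 → Commute z y → Commute a y →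
        Commute w y → w ∈ f.range := fun y h1 h2 h3 h4 => by
      rw [htwo y h1 h2 h3 w hwR h4.eq]; exact one_mem _
    have hc18 : Nat.card (centralizer ({z * a⁻¹} : Set G)) = 18 := by
      have e : d.φ sw * (z * a) * (d.φ sw)⁻¹ = (z * a⁻¹)⁻¹ := by
        rw [hzdef, hadef, ← map_inv, ← map_inv, ← map_mul, ← map_mul, ← map_mul, ← map_mul, ← map_inv]
        exact congrArg d.φ (by decide +kernel)
      rw [← d.card_cent]
      symm
      refine Nat.card_congr ((MulAut.conj (d.φ sw)).toEquiv.subtypeEquiv fun w => ?_)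
      rw [mem_centralizer_singleton_iff, mem_centralizer_singleton_iff]
      change w * (z * a) = z * a * w ↔ Commute (d.φ sw * w * (d.φ sw)⁻¹) (z * a⁻¹)
      rw [← Commute.inv_right_iff, ← e, Commute.conj_iff]
      exact Iff.rfl
    have key : ∀ m : L35, l = m ^ 2 → m ^ 3 = 1 → Commute w (d.φ m) := by
      intro m h hm
      have hmm : d.φ m = d.φ l ^ 2 := by
        rw [← map_pow, h, ← pow_mul, show 2 * 2 = 3 + 1 by rfl, pow_succ m 3, hm, one_mul]
      rw [hmm]
      exact (show Commute w (d.φ l) from hwc).pow_right 2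
    have hwc' : Commute w (d.φ l) := hwc
    have hzz : Commute z z := Commute.refl z
    have haa : Commute a a := Commute.refl a
    rcases (p3_facts l.1.1).1 (comm_pair.1 hlz).1 with hp | hp | hp <;>
      rcases cent_a5 l.1.2 hsq (comm_pair.1 hla).2 with hq | hq | hq
    · exfalso
      exact hx1 (by rw [show l = 1 from Subtype.ext (Prod.ext hp hq), map_one])
    · rw [show l = aL from Subtype.ext (Prod.ext hp hq)] at hwc'
      exact viaA hwc'
    · exact viaA (key aL (Subtype.ext (Prod.ext (hp.trans (by decide +kernel)) (hq.trans (by decide +kernel))))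
        (by decide +kernel))
    · rw [show l = zL from Subtype.ext (Prod.ext hp (hq.trans (by decide +kernel)))] at hwc'
      exact viaZ hwc'
    · rw [show l = zL * aL from Subtype.ext (Prod.ext (hp.trans (by decide +kernel))
        (hq.trans (by decide +kernel))), map_mul] at hwc'
      exact y1 _ d.card_cent (hzz.mul_right hza) (hza.symm.mul_right haa) hwc'
    · rw [show l = zL * aL⁻¹ from Subtype.ext (Prod.ext (hp.trans (by decide +kernel))
        (hq.trans (by decide +kernel))), map_mul, map_inv] at hwc'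
      exact y1 _ hc18 (hzz.mul_right hza.inv_right) (hza.symm.mul_right haa.inv_right) hwc'
    · exact viaZ (key zL (Subtype.ext (Prod.ext (hp.trans (by decide +kernel)) (hq.trans (by decide +kernel))))
        (by decide +kernel))
    · have h2 := key (zL * aL⁻¹) (Subtype.ext (Prod.ext (hp.trans (by decide +kernel))
        (hq.trans (by decide +kernel)))) (by decide +kernel)
      rw [map_mul, map_inv] at h2
      exact y1 _ hc18 (hzz.mul_right hza.inv_right) (hza.symm.mul_right haa.inv_right) h2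
    · have h2 := key (zL * aL) (Subtype.ext (Prod.ext (hp.trans (by decide +kernel))
        (hq.trans (by decide +kernel)))) (by decide +kernel)
      rw [map_mul] at h2
      exact y1 _ d.card_cent (hzz.mul_right hza) (hza.symm.mul_right haa) h2
  have hrle : f.range ≤ R' := by
    rintro _ ⟨⟨p, x⟩, rfl⟩
    rw [MonoidHom.noncommCoprod_apply]
    exact mul_mem (hVR p.2) ((hXmem _).1 x.2).1
  have hfinj : Function.Injective f := by
    rw [injective_iff_map_eq_one]
    rintro ⟨⟨p, hp⟩, ⟨x, hx⟩⟩ h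
    simp only [f, MonoidHom.noncommCoprod_apply, coe_subtype] at h
    obtain ⟨hxR, hxa⟩ := (hXmem x).1 hx
    have hpx : p = x⁻¹ := eq_inv_of_mul_eq_one_left h
    have hpz : Commute x z := by
      obtain ⟨q, rfl⟩ := hp
      have hpc : Commute (fV q) z := by
        change fV q * z = z * fV q
        simp only [fV, MonoidHom.comp_apply, hzdef, ← map_mul]
        exact congrArg d.φ (comm_pair.2 ⟨by simp [i0, emb_val, zL, evL], by simp [i0, emb_val, zL, evL]⟩)
      rw [show x = (fV q)⁻¹ by rw [hpx, inv_inv]]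
      exact hpc.inv_left
    obtain ⟨l, hl⟩ := hCz x hpz.eq
    have hlz := comm_pair.1 (hφ (show d.φ (l * zL) = d.φ (zL * l) by rw [map_mul, map_mul, hl]; exact hpz.eq))
    have hla := comm_pair.1 (hφ (show d.φ (l * aL) = d.φ (aL * l) by rw [map_mul, map_mul, hl]; exact hxa))
    have hsq : Equiv.Perm.sign l.1.2 = 1 := by
      have := l_sign l
      rwa [((p3_facts l.1.1).2.2 hlz.1).1, one_mul] at this
    have hl3 : l ^ 3 = 1 := by
      refine Subtype.ext (Prod.ext ((p3_facts l.1.1).2.2 hlz.1).2 ?_)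
      change l.1.2 ^ 3 = 1
      rcases cent_a5 l.1.2 hsq hla.2 with h | h | h <;> rw [h] <;> decide +kernel
    have hx1 : x = 1 := pow_eq_one_of_coprime (by rw [← hl, ← map_pow, hl3, map_one])
      (pow_orderOf_eq_one x) (hord x hxR)
    subst hx1
    rw [mul_one] at h
    subst h
    rfl
  have hR'eq : Nat.card R' = 4 * Nat.card X := by
    rw [le_antisymm hle hrle, ← Nat.card_congr (MonoidHom.ofInjective hfinj).toEquiv, Nat.card_prod,
      hfVcard]
  have hcv : Nat.card d.CV = 12 * Nat.card X := by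
    rw [hRcard, ← hR'card, hR'eq]; ring
  have hi4 : ∀ (W : Subgroup P5) (h : ∀ q ∈ W, Equiv.Perm.sign q = 1), Nat.card W = 4 →
      Nat.card (d.ψ.comp (emb W h)).range = 4 := fun W h hW => by
    rw [← hW]
    exact (Nat.card_congr (MonoidHom.ofInjective (f := d.ψ.comp (emb W h))
      (hψ.comp (emb_injective W h))).toEquiv).symm
  have hgood : ∀ x ∈ X, ∀ s ∈ ({t, v} : Set G), s * x = x * s := by
    intro x hx s hs
    obtain ⟨h1, h2⟩ := (hmemCV x).1 ((hR'mem x).1 ((hXmem x).1 hx).1).1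
    rcases hs with rfl | rfl
    · exact h1.symm
    · exact h2.symm
  rcases htri with hX | hX | hX
  · left
    rw [hcv, hX, card_bot]
  · refine Or.inr ⟨d, rfl, ?_, ?_⟩
    · rw [hcv, hX, show i0 = emb W0 W0_even from rfl, hi4 W0 W0_even card_W0]
    · intro x hx y hy
      refine hgood y ?_ x hx
      rw [hX]
      rcases hy with rfl | rfl
      · exact ⟨⟨t5, mem_W0.2 (by simp)⟩, congrArg d.ψ (Subtype.ext (Prod.ext rfl rfl))⟩
      · exact ⟨⟨v5, mem_W0.2 (by simp)⟩, congrArg d.ψ (Subtype.ext (Prod.ext rfl rfl))⟩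
  · let ψ' : L35 →* G := d.ψ.comp (MulAut.conj sw).toMonoidHom
    have e : ∀ l, ψ' l = d.ψ (sw * l * sw⁻¹) := fun l => rfl
    let d' : Data G :=
      { φ := d.φ
        ψ := ψ'
        φ_inj := d.φ_inj
        ψ_inj := d.ψ_inj.comp (MulAut.conj sw).injective
        φ_range := d.φ_range
        ψ_range := by
          rw [← d.ψ_range]
          ext y
          constructor
          · rintro ⟨l, rfl⟩; exact ⟨_, rfl⟩
          · rintro ⟨l, rfl⟩
            exact ⟨sw⁻¹ * l * sw, by rw [e]; exact congrArg d.ψ (by group)⟩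
        ψ_a := by rw [e, show sw * aL * sw⁻¹ = aL by decide +kernel]; exact d.ψ_a
        ψ_z := by
          rw [e, show sw * zL * sw⁻¹ = zL⁻¹ by decide +kernel, map_inv]
          rcases d.ψ_z with h | h
          · exact Or.inr (by rw [h])
          · exact Or.inl (by rw [h, inv_inv])
        card_cent := d.card_cent
        sylow := d.sylow }
    refine Or.inr ⟨d', rfl, ?_, ?_⟩
    · change Nat.card d.CV = 48
      rw [hcv, hX, show i1 = emb W1 W1_even from rfl, hi4 W1 W1_even card_W1]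
    · intro x hx y hy
      change x ∈ ({t, v} : Set G) at hx
      refine hgood y ?_ x hx
      rw [hX]
      rcases hy with rfl | rfl
      · exact ⟨⟨t6, mem_W1.2 (by simp)⟩, congrArg d.ψ (by decide +kernel)⟩
      · exact ⟨⟨v6, mem_W1.2 (by simp)⟩, congrArg d.ψ (by decide +kernel)⟩

end Cfsg.Agent.Lib.AltEightThree6.DichPf

namespace Cfsg.Agent.Lib.AltEightThree6

universe u

theorem dich : DichStmt.{u} := fun _ _ _ d => DichPf.main d

end Cfsg.Agent.Lib.AltEightThree6
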