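import Cfsg.Agent.Lib.AltEightThree6.Perm
import Cfsg.Agent.Lib.Involution.Basic

/-!
Fusion of elements of a copy of `A8` containing the centralisers of its elements of order three.
-/

set_option autoImplicit false
set_option maxRecDepth 20000
set_option linter.unusedSectionVars false
set_option linter.style.haveILetI false

namespace Cfsg.Agent.Lib.AltEightThree6

open Equiv Equiv.Perm
open scoped Pointwise

universe u

/-- The three cycle `(345)`. -/
def d3 : A8 := evA (swap 3 4 * swap 4 5)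

theorem d3_spec : c3 * d3 = c33 ∧ c3 * d3 = d3 * c3 ∧ c3 * t0 = t0 * c3 ∧ c3 ^ 3 = 1 ∧ d3 ^ 3 = 1 ∧
    c33 ^ 3 = 1 ∧ c3 ≠ 1 ∧ c33 ≠ 1 ∧ d3 ≠ 1 ∧ d3 ≠ c3 ∧ d3 ≠ c3 * c3 := by
  decide +kernel

/-- The subgroup `⟨(012), (345)⟩`. -/
def subD : Subgroup A8 := Subgroup.zpowers c3 ⊔ Subgroup.zpowers d3

theorem zpowers_d3_le : Subgroup.zpowers d3 ≤ Subgroup.normalizer (Subgroup.zpowers c3 : Set A8) := by
  rw [Subgroup.zpowers_le]
  refine Subgroup.centralizer_le_normalizer _ (Subgroup.mem_centralizer_iff.2 ?_)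
  rintro _ ⟨k, rfl⟩
  exact ((show Commute c3 d3 from d3_spec.2.1).zpow_left k).eq

theorem not_tType_and_eType {i : A8} (ht : TType i) (he : EType i) : False :=
  absurd ht.2.2.choose_spec (he.2 _)

theorem nine_dvd_subD : 9 ∣ Nat.card subD := by
  obtain ⟨-, hc, -, h3, h3', -, h1, -, h1', hne, hne'⟩ := d3_spec
  haveI : Fact (Nat.Prime 3) := ⟨Nat.prime_three⟩
  have hoc : orderOf c3 = 3 := orderOf_eq_prime h3 h1
  let A : Subgroup A8 := Subgroup.zpowers c3
  have hlt : A < subD := by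
    refine lt_of_le_of_ne le_sup_left fun e => ?_
    have hd : d3 ∈ A := e ▸ (le_sup_right : Subgroup.zpowers d3 ≤ subD) (Subgroup.mem_zpowers d3)
    rw [Subgroup.mem_zpowers_iff] at hd
    obtain ⟨k, hk⟩ := hd
    rw [← zpow_mod_orderOf, hoc] at hk
    have := Int.emod_nonneg k (show ((3 : ℕ) : ℤ) ≠ 0 by norm_num)
    have := Int.emod_lt_of_pos k (show (0 : ℤ) < ((3 : ℕ) : ℤ) by norm_num)
    rcases (show k % ((3 : ℕ) : ℤ) = 0 ∨ k % ((3 : ℕ) : ℤ) = 1 ∨ k % ((3 : ℕ) : ℤ) = 2 by omega) with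
      e' | e' | e' <;> rw [e'] at hk
    · exact h1' (by rw [← hk, zpow_zero])
    · exact hne (by rw [← hk, zpow_one])
    · exact hne' (by rw [← hk]; rfl)
  have hp : IsPGroup 3 subD := by
    refine IsPGroup.to_sup_of_normal_left' ?_ ?_ ?_
    · exact IsPGroup.of_card (n := 1) (by rw [Nat.card_zpowers, hoc, pow_one])
    · exact IsPGroup.of_card (n := 1) (by rw [Nat.card_zpowers, orderOf_eq_prime h3' h1', pow_one])
    · exact zpowers_d3_le
  obtain ⟨n, hn⟩ := IsPGroup.iff_card.1 hp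
  have hlt' : Nat.card A < Nat.card subD :=
    lt_of_le_of_ne (Nat.le_of_dvd Nat.card_pos (Subgroup.card_dvd_of_le hlt.le))
      fun e => hlt.ne (Subgroup.eq_of_le_of_card_ge hlt.le e.ge)
  rw [Nat.card_zpowers, hoc, hn] at hlt'
  rw [hn]
  match n, hlt' with
  | 0, h | 1, h => simp at h
  | n + 2, _ => exact ⟨3 ^ n, by ring⟩

variable {G : Type u} [Group G] [Finite G] {θ : A8 →* G}

/-- The centraliser of a central element of order three is the image. -/
theorem Emb.centralizer_eq (hE : Emb θ) {c : A8} (hc : c = c3 ∨ c = c33) :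
    Subgroup.centralizer ({θ c} : Set G) = (Subgroup.centralizer ({c} : Set A8)).map θ := by
  refine le_antisymm (fun x hx => ?_) ?_
  · obtain ⟨y, rfl⟩ : x ∈ θ.range := by
      rcases hc with rfl | rfl
      · exact hE.c3_le hx
      · exact hE.c33_le hx
    refine ⟨y, Subgroup.mem_centralizer_singleton_iff.2 (hE.inj ?_), rfl⟩
    rw [map_mul, map_mul]
    exact Subgroup.mem_centralizer_singleton_iff.1 hx
  · rintro _ ⟨y, hy, rfl⟩
    rw [Subgroup.mem_centralizer_singleton_iff, ← map_mul, ← map_mul,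
      Subgroup.mem_centralizer_singleton_iff.1 hy]

theorem Emb.card_centralizer (hE : Emb θ) :
    Nat.card (Subgroup.centralizer ({θ c3} : Set G)) = 180 ∧
    Nat.card (Subgroup.centralizer ({θ c33} : Set G)) = 18 := by
  rw [hE.centralizer_eq (Or.inl rfl), hE.centralizer_eq (Or.inr rfl),
    Subgroup.card_map_of_injective hE.inj, Subgroup.card_map_of_injective hE.inj]
  exact ⟨card_centralizer_values.1, card_centralizer_values.2.1⟩

/-- The two classes of elements of order three do not fuse. -/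
theorem Emb.not_isConj_three (hE : Emb θ) : ¬ IsConj (θ c3) (θ c33) := by
  intro h
  obtain ⟨g, hg⟩ := isConj_iff.1 h
  have := Involution.card_centralizer_conj g (θ c3)
  rw [hg, hE.card_centralizer.1, hE.card_centralizer.2] at this
  omega

/-- An element of order three of `A8` is conjugate in `G` to its inverse. -/
theorem isConj_inv_three {c : A8} (h3 : c ^ 3 = 1) (h1 : c ≠ 1) : IsConj c c⁻¹ := by
  have h3' : c⁻¹ ^ 3 = 1 := by rw [inv_pow, h3, inv_one]
  have h1' : c⁻¹ ≠ 1 := by simpa using h1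
  have hcard : ∀ {a b : A8}, IsConj a b → Nat.card (Subgroup.centralizer ({a} : Set A8)) =
      Nat.card (Subgroup.centralizer ({b} : Set A8)) := fun {a b} h => by
    obtain ⟨g, rfl⟩ := isConj_iff.1 h
    exact (Involution.card_centralizer_conj g a).symm
  have hcc : Nat.card (Subgroup.centralizer ({c⁻¹} : Set A8)) =
      Nat.card (Subgroup.centralizer ({c} : Set A8)) := by
    congr 2
    ext x
    simp only [Subgroup.mem_centralizer_singleton_iff]
    exact ⟨fun h => (Commute.inv_right_iff.1 h), fun h => Commute.inv_right_iff.2 h⟩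
  obtain ⟨v1, v2, -⟩ := card_centralizer_values
  rcases three_cases h3 h1 with e | e <;> rcases three_cases h3' h1' with e' | e'
  · exact e.symm.trans e'
  · have := hcard e; have := hcard e'; omega
  · have := hcard e; have := hcard e'; omega
  · exact e.symm.trans e'

/-- No subgroup of order nine centralises the image of an involution. -/
theorem Emb.not_nine (hE : Emb θ) {i : A8} (h2 : i * i = 1) (h1 : i ≠ 1) :
    ¬ 9 ∣ Nat.card (Subgroup.centralizer ({θ i} : Set G)) := by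
  intro h9
  haveI : Fact (Nat.Prime 3) := ⟨Nat.prime_three⟩
  set W := Subgroup.centralizer ({θ i} : Set G)
  obtain ⟨Q⟩ : Nonempty (Sylow 3 W) := inferInstance
  have hQ : 9 ∣ Nat.card ((Q : Subgroup W).map W.subtype) := by
    rw [Subgroup.card_map_of_injective W.subtype_injective]
    exact Q.pow_dvd_card_of_pow_dvd_card (n := 2) h9
  obtain ⟨P, hP⟩ := (Q.isPGroup'.map W.subtype).exists_le_sylow
  have hPc : Nat.card P = 9 := by
    obtain ⟨n, hn⟩ := IsPGroup.iff_card.1 P.isPGroup'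
    have h27 : ¬ 27 ∣ Nat.card (P : Subgroup G) := fun h =>
      hE.sylow (h.trans (Subgroup.card_subgroup_dvd_card _))
    have h9' : 9 ∣ Nat.card (P : Subgroup G) := hQ.trans (Subgroup.card_dvd_of_le hP)
    rw [hn] at h27 h9' ⊢
    match n with
    | 0 | 1 => norm_num at h9'
    | 2 => rfl
    | k + 3 => exact absurd ⟨3 ^ k, by ring⟩ h27
  have hPW : (P : Subgroup G) ≤ W := by
    have : (Q : Subgroup W).map W.subtype = P :=
      Subgroup.eq_of_le_of_card_ge hP (by rw [hPc]; exact Nat.le_of_dvd Nat.card_pos hQ)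
    exact this ▸ Subgroup.map_subtype_le _
  have hD : IsPGroup 3 (subD.map θ) := by
    have h27 : ¬ 27 ∣ Nat.card subD := fun h => hE.sylow (h.trans (by
      rw [← Subgroup.card_map_of_injective (K := subD) hE.inj]
      exact Subgroup.card_subgroup_dvd_card _))
    obtain ⟨-, hc, -, h3, h3', -, h1c, -, h1', -, -⟩ := d3_spec
    refine IsPGroup.map ?_ θ
    have hab : ∀ x ∈ subD, x ^ 3 = 1 := by
      intro x hx
      have hcd : Commute c3 d3 := hc
      obtain ⟨a, ⟨k, rfl⟩, b, ⟨l, rfl⟩, rfl⟩ : x ∈ (Subgroup.zpowers c3 : Set A8) *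
          (Subgroup.zpowers d3 : Set A8) := by
        rw [← Subgroup.coe_mul_of_right_le_normalizer_left _ _ zpowers_d3_le]; exact hx
      show (c3 ^ k * d3 ^ l) ^ 3 = 1
      rw [((hcd.zpow_left k).zpow_right l).mul_pow, ← zpow_natCast, ← zpow_natCast, zpow_comm, zpow_natCast,
        h3, one_zpow, one_mul, zpow_comm, zpow_natCast, h3', one_zpow]
    exact fun x => ⟨1, Subtype.ext (by simpa using hab x.1 x.2)⟩
  obtain ⟨P', hP'⟩ := hD.exists_le_sylow
  obtain ⟨g, hg⟩ := MulAction.exists_smul_eq G P P'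
  -- the conjugate of `θ i` centralises the image of `subD`
  have hcomm : ∀ d ∈ subD, θ d * (g * θ i * g⁻¹) = (g * θ i * g⁻¹) * θ d := by
    intro d hd
    have hd' : θ d ∈ (P' : Subgroup G) := hP' (Subgroup.mem_map_of_mem θ hd)
    rw [← hg, Sylow.coe_subgroup_smul, Subgroup.mem_pointwise_smul_iff_inv_smul_mem] at hd'
    have := Subgroup.mem_centralizer_singleton_iff.1 (hPW hd')
    simp only [MulAut.smul_def, MulAut.inv_def, MulAut.conj_symm_apply] at this
    calc θ d * (g * θ i * g⁻¹) = g * (g⁻¹ * θ d * g * θ i) * g⁻¹ := by group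
      _ = g * (θ i * (g⁻¹ * θ d * g)) * g⁻¹ := by rw [this]
      _ = _ := by group
  obtain ⟨hcd, -, -, -⟩ := d3_spec
  have hc3 : c3 ∈ subD := (le_sup_left : _ ≤ subD) (Subgroup.mem_zpowers c3)
  have hd3 : d3 ∈ subD := (le_sup_right : _ ≤ subD) (Subgroup.mem_zpowers d3)
  obtain ⟨j, hj⟩ : g * θ i * g⁻¹ ∈ θ.range :=
    hE.c3_le (Subgroup.mem_centralizer_singleton_iff.2 (hcomm c3 hc3).symm)
  have hj2 : j * j = 1 := hE.inj (by
    rw [map_mul, map_one, hj]
    calc g * θ i * g⁻¹ * (g * θ i * g⁻¹) = g * θ (i * i) * g⁻¹ := by rw [map_mul]; group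
      _ = 1 := by rw [h2, map_one]; group)
  have hj1 : j ≠ 1 := fun e => h1 (hE.inj (by
    rw [e, map_one] at hj
    rw [map_one]
    exact (conj_eq_one_iff (a := g)).1 hj.symm))
  have hjd : ∀ d ∈ subD, j * d = d * j := fun d hd => hE.inj (by
    rw [map_mul, map_mul, hj]; exact (hcomm d hd).symm)
  exact not_tType_and_eType (ttype_of_commute_c3 hj1 hj2 (hjd c3 hc3))
    (etype_of_commute_c33 hj1 hj2 (by rw [← hcd]; exact hjd _ (mul_mem hc3 hd3)))

/-- The centraliser of an involution with fixed points has no conjugate of `θ c33`. -/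
theorem Emb.not_commute_c33 (hE : Emb θ) {i : A8} (hi : TType i) {x : G} (hx : IsConj (θ c33) x) :
    x * θ i ≠ θ i * x := by
  intro hxi
  haveI : Fact (Nat.Prime 3) := ⟨Nat.prime_three⟩
  obtain ⟨-, -, hct, h3, -, h33, h1, h1', -⟩ := d3_spec
  obtain ⟨r, hr⟩ := isConj_iff.1 hi.isConj
  set c := r * c3 * r⁻¹ with hc
  have hci : c * i = i * c := by
    rw [← hr, hc]
    calc r * c3 * r⁻¹ * (r * t0 * r⁻¹) = r * (c3 * t0) * r⁻¹ := by group
      _ = r * (t0 * c3) * r⁻¹ := by rw [hct]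
      _ = _ := by group
  have hco : orderOf (θ c) = 3 := by
    rw [orderOf_injective θ hE.inj, hc, Involution.orderOf_conj_eq, orderOf_eq_prime h3 h1]
  obtain ⟨a, ha⟩ := isConj_iff.1 hx
  have hxo : orderOf x = 3 := by
    rw [← ha, Involution.orderOf_conj_eq, orderOf_injective θ hE.inj, orderOf_eq_prime h33 h1']
  set W := Subgroup.centralizer ({θ i} : Set G)
  let c' : W := ⟨θ c, Subgroup.mem_centralizer_singleton_iff.2 (by rw [← map_mul, hci, map_mul])⟩
  let x' : W := ⟨x, Subgroup.mem_centralizer_singleton_iff.2 hxi⟩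
  have hW : ∀ Q : Sylow 3 W, Nat.card Q = 3 := by
    intro Q
    obtain ⟨n, hn⟩ := IsPGroup.iff_card.1 Q.isPGroup'
    have h3W : 3 ∣ Nat.card W := by
      have := orderOf_dvd_natCard c'
      rwa [← Subgroup.orderOf_coe, hco] at this
    have h3Q : 3 ∣ Nat.card (Q : Subgroup W) := Q.dvd_card_of_dvd_card h3W
    have h9 : ¬ 9 ∣ Nat.card (Q : Subgroup W) := fun h =>
      hE.not_nine hi.2.1 hi.1 (h.trans (Subgroup.card_subgroup_dvd_card _))
    rw [hn] at h3Q h9 ⊢
    match n with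
    | 0 => norm_num at h3Q
    | 1 => rfl
    | k + 2 => exact absurd ⟨3 ^ k, by ring⟩ h9
  have hsyl : ∀ y : W, orderOf (y : G) = 3 → ∃ Q : Sylow 3 W, (Q : Subgroup W) = Subgroup.zpowers y := by
    intro y hy
    rw [Subgroup.orderOf_coe] at hy
    have hp : IsPGroup 3 (Subgroup.zpowers y) := IsPGroup.of_card (n := 1) (by
      rw [Nat.card_zpowers, hy, pow_one])
    obtain ⟨Q, hQ⟩ := hp.exists_le_sylow
    exact ⟨Q, (Subgroup.eq_of_le_of_card_ge hQ (by rw [Nat.card_zpowers, hy, hW Q])).symm⟩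
  obtain ⟨Q1, hQ1⟩ := hsyl c' hco
  obtain ⟨Q2, hQ2⟩ := hsyl x' hxo
  obtain ⟨w, hw⟩ := MulAction.exists_smul_eq W Q2 Q1
  have hmem : MulAut.conj w x' ∈ (Q1 : Subgroup W) := by
    rw [← hw, Sylow.coe_subgroup_smul]
    exact Subgroup.smul_mem_pointwise_smul x' (MulAut.conj w) _ (hQ2 ▸ Subgroup.mem_zpowers x')
  rw [hQ1, Subgroup.mem_zpowers_iff] at hmem
  obtain ⟨k, hk⟩ := hmem
  have hk' : (θ c) ^ k = (w : G) * x * (w : G)⁻¹ := congrArg Subtype.val hk
  have hconj : IsConj (θ c) x ∨ IsConj (θ c)⁻¹ x := by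
    rw [← zpow_mod_orderOf, hco] at hk'
    have := Int.emod_nonneg k (show ((3 : ℕ) : ℤ) ≠ 0 by norm_num)
    have := Int.emod_lt_of_pos k (show (0 : ℤ) < ((3 : ℕ) : ℤ) by norm_num)
    rcases (show k % ((3 : ℕ) : ℤ) = 0 ∨ k % ((3 : ℕ) : ℤ) = 1 ∨ k % ((3 : ℕ) : ℤ) = 2 by omega) with
      e | e | e <;> rw [e] at hk'
    · exfalso
      rw [zpow_zero] at hk'
      rw [conj_eq_one_iff.1 hk'.symm, orderOf_one] at hxo
      omega
    · rw [zpow_one] at hk'
      exact Or.inl (isConj_iff.2 ⟨(w : G)⁻¹, by rw [hk']; group⟩)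
    · refine Or.inr (isConj_iff.2 ⟨(w : G)⁻¹, ?_⟩)
      have h' : (θ c)⁻¹ = (θ c) ^ (2 : ℤ) := by
        rw [inv_eq_iff_mul_eq_one]
        have := pow_orderOf_eq_one (θ c)
        rw [hco] at this
        rw [zpow_two, ← mul_assoc, ← pow_three', this]
      rw [h', hk']; group
  have hc3conj : IsConj (θ c3) (θ c) := θ.map_isConj (isConj_iff.2 ⟨r, rfl⟩)
  apply hE.not_isConj_three
  rcases hconj with h | h
  · exact (hc3conj.trans h).trans hx.symm
  · have hinv : IsConj (θ c) (θ c)⁻¹ := by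
      rw [← map_inv]
      exact θ.map_isConj (isConj_inv_three (by rw [hc, conj_pow, h3]; group)
        (fun e => h1 (conj_eq_one_iff.1 e)))
    exact ((hc3conj.trans hinv).trans h).trans hx.symm

/-- The two classes of involutions do not fuse. -/
theorem Emb.not_isConj_te (hE : Emb θ) {i j : A8} (hi : TType i) (hj : EType j) :
    ¬ IsConj (θ i) (θ j) := by
  intro h
  haveI : Fact (Nat.Prime 3) := ⟨Nat.prime_three⟩
  obtain ⟨b, hb⟩ := exists_prime_orderOf_dvd_card' (G := Subgroup.centralizer ({e0} : Set A8)) 3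
    (by rw [card_centralizer_values.2.2.2]; norm_num)
  rw [← Subgroup.orderOf_coe] at hb
  obtain ⟨s, hs⟩ := isConj_iff.1 hj.isConj
  set y := s * (b : A8) * s⁻¹ with hy
  clear_value y
  have hyj : y * j = j * y := by
    rw [← hs, hy]
    calc s * (b : A8) * s⁻¹ * (s * e0 * s⁻¹) = s * ((b : A8) * e0) * s⁻¹ := by group
      _ = s * (e0 * b) * s⁻¹ := by rw [Subgroup.mem_centralizer_singleton_iff.1 b.2]
      _ = _ := by group
  have hyo : orderOf y = 3 := by rw [hy, Involution.orderOf_conj_eq, hb]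
  have hy3 : y ^ 3 = 1 := by rw [← hyo, pow_orderOf_eq_one]
  have hy1 : y ≠ 1 := fun e => by rw [e, orderOf_one] at hyo; omega
  rcases three_cases hy3 hy1 with hc | hc
  · obtain ⟨q, hq⟩ := isConj_iff.1 hc
    have hcomm : (q⁻¹ * j * q) * c3 = c3 * (q⁻¹ * j * q) := by
      rw [show c3 = q⁻¹ * y * q by rw [← hq]; group]
      calc q⁻¹ * j * q * (q⁻¹ * y * q) = q⁻¹ * (j * y) * q := by group
        _ = q⁻¹ * (y * j) * q := by rw [hyj]
        _ = _ := by group
    have hj1 : j ≠ 1 := fun e => hj.2 0 (by rw [e]; rfl)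
    have hq2 : (q⁻¹ * j * q) * (q⁻¹ * j * q) = 1 := by
      calc q⁻¹ * j * q * (q⁻¹ * j * q) = q⁻¹ * (j * j) * q := by group
        _ = 1 := by rw [hj.1]; group
    have hq1 : q⁻¹ * j * q ≠ 1 := fun e => hj1 (by
      calc j = q * (q⁻¹ * j * q) * q⁻¹ := by group
        _ = 1 := by rw [e]; group)
    obtain ⟨r, hr⟩ := isConj_iff.1 (ttype_of_commute_c3 hq1 hq2 hcomm).isConj
    have hjt : IsConj t0 j := isConj_iff.2 ⟨q * r, by
      rw [show q * r * t0 * (q * r)⁻¹ = q * (r * t0 * r⁻¹) * q⁻¹ by group, hr]; group⟩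
    have hcard : ∀ {a b : A8}, IsConj a b → Nat.card (Subgroup.centralizer ({a} : Set A8)) =
        Nat.card (Subgroup.centralizer ({b} : Set A8)) := fun {a b} h => by
      obtain ⟨g, rfl⟩ := isConj_iff.1 h
      exact (Involution.card_centralizer_conj g a).symm
    have := hcard hjt
    have := hcard hj.isConj
    obtain ⟨-, -, v3, v4⟩ := card_centralizer_values
    omega
  · obtain ⟨g, hg⟩ := isConj_iff.1 h.symm
    refine hE.not_commute_c33 hi (x := g * θ y * g⁻¹)
      ((θ.map_isConj hc).trans (isConj_iff.2 ⟨g, rfl⟩)) ?_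
    rw [← hg]
    calc g * θ y * g⁻¹ * (g * θ j * g⁻¹) = g * θ (y * j) * g⁻¹ := by rw [map_mul]; group
      _ = g * θ (j * y) * g⁻¹ := by rw [hyj]
      _ = _ := by rw [map_mul]; group

/-- Fusion of involutions of the copy is controlled by the copy. -/
theorem Emb.isConj_of_isConj (hE : Emb θ) {i j : A8} (hi2 : i * i = 1) (hi1 : i ≠ 1)
    (h : IsConj (θ i) (θ j)) : IsConj i j := by
  have hj2 : j * j = 1 := hE.inj (by
    obtain ⟨g, hg⟩ := isConj_iff.1 h
    rw [map_mul, map_one, ← hg]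
    calc g * θ i * g⁻¹ * (g * θ i * g⁻¹) = g * θ (i * i) * g⁻¹ := by rw [map_mul]; group
      _ = 1 := by rw [hi2, map_one]; group)
  have hj1 : j ≠ 1 := fun e => hi1 (hE.inj (by
    obtain ⟨g, hg⟩ := isConj_iff.1 h
    rw [e, map_one] at hg
    rw [map_one]
    exact conj_eq_one_iff.1 hg))
  rcases involution_cases hi2 hi1 with ⟨hti, hci⟩ | ⟨hei, hci⟩ <;>
    rcases involution_cases hj2 hj1 with ⟨htj, hcj⟩ | ⟨hej, hcj⟩
  · exact hci.symm.trans hcj
  · exact absurd h (hE.not_isConj_te hti hej)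
  · exact absurd h.symm (hE.not_isConj_te htj hei)
  · exact hci.symm.trans hcj

end Cfsg.Agent.Lib.AltEightThree6
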