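import Cfsg.Agent.Lib.AltEightThree6.Spec

/-!
Elements, classes and a Sylow 2-subgroup of the alternating group of degree eight.
The element `el i` is the product of the generators `v0, t0, w0, w1, u0, swp` at the set bits of
`i`; `el i` for `i < 16` is `R`, for `i < 32` is `T`, for `i < 64` is `S`.
-/

set_option autoImplicit false
set_option maxRecDepth 20000

namespace Cfsg.Agent.Lib.AltEightThree6

open Equiv Equiv.Perm

/-- The involution `(01)(23)`. -/
def w0 : A8 := evA (swap 0 1 * swap 2 3)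
/-- The involution `(02)(13)`. -/
def w1 : A8 := evA (swap 0 2 * swap 1 3)
/-- The involution `(01)(45)`. -/
def u0 : A8 := evA (swap 0 1 * swap 4 5)
/-- The exchange of the two halves. -/
def swp : A8 := evA (swap 0 4 * swap 1 5 * swap 2 6 * swap 3 7)

/-- An involution with fixed points. -/
def TType (g : A8) : Prop := g ≠ 1 ∧ g * g = 1 ∧ ∃ i, (g : Perm (Fin 8)) i = i

/-- An involution without fixed points. -/
def EType (g : A8) : Prop := g * g = 1 ∧ ∀ i, (g : Perm (Fin 8)) i ≠ i

/-- The generators of `S`. -/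
def gen (b : Fin 6) : A8 := ![v0, t0, w0, w1, u0, swp] b

/-- Right multiplication by the generators. -/
def rgTab : List (List ℕ) :=
  [[1, 0, 3, 2, 5, 4, 7, 6, 9, 8, 11, 10, 13, 12, 15, 14, 19, 18, 17, 16, 23, 22, 21, 20, 27, 26, 25, 24, 31, 30, 29, 28, 40, 41, 42, 43, 44, 45, 46, 47, 32, 33, 34, 35, 36, 37, 38, 39, 60, 61, 62, 63, 56, 57, 58, 59, 52, 53, 54, 55, 48, 49, 50, 51],
   [2, 3, 0, 1, 6, 7, 4, 5, 10, 11, 8, 9, 14, 15, 12, 13, 18, 19, 16, 17, 22, 23, 20, 21, 26, 27, 24, 25, 30, 31, 28, 29, 36, 37, 38, 39, 32, 33, 34, 35, 44, 45, 46, 47, 40, 41, 42, 43, 52, 53, 54, 55, 48, 49, 50, 51, 60, 61, 62, 63, 56, 57, 58, 59],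
   [4, 5, 6, 7, 0, 1, 2, 3, 12, 13, 14, 15, 8, 9, 10, 11, 20, 21, 22, 23, 16, 17, 18, 19, 28, 29, 30, 31, 24, 25, 26, 27, 34, 35, 32, 33, 38, 39, 36, 37, 42, 43, 40, 41, 46, 47, 44, 45, 50, 51, 48, 49, 54, 55, 52, 53, 58, 59, 56, 57, 62, 63, 60, 61],
   [8, 9, 10, 11, 12, 13, 14, 15, 0, 1, 2, 3, 4, 5, 6, 7, 28, 29, 30, 31, 24, 25, 26, 27, 20, 21, 22, 23, 16, 17, 18, 19, 33, 32, 35, 34, 37, 36, 39, 38, 41, 40, 43, 42, 45, 44, 47, 46, 51, 50, 49, 48, 55, 54, 53, 52, 59, 58, 57, 56, 63, 62, 61, 60],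
   [16, 17, 18, 19, 20, 21, 22, 23, 24, 25, 26, 27, 28, 29, 30, 31, 0, 1, 2, 3, 4, 5, 6, 7, 8, 9, 10, 11, 12, 13, 14, 15, 48, 49, 50, 51, 52, 53, 54, 55, 56, 57, 58, 59, 60, 61, 62, 63, 32, 33, 34, 35, 36, 37, 38, 39, 40, 41, 42, 43, 44, 45, 46, 47],
   [32, 33, 34, 35, 36, 37, 38, 39, 40, 41, 42, 43, 44, 45, 46, 47, 48, 49, 50, 51, 52, 53, 54, 55, 56, 57, 58, 59, 60, 61, 62, 63, 0, 1, 2, 3, 4, 5, 6, 7, 8, 9, 10, 11, 12, 13, 14, 15, 16, 17, 18, 19, 20, 21, 22, 23, 24, 25, 26, 27, 28, 29, 30, 31]]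
/-- Inverses. -/
def invTab : List ℕ :=
  [0, 1, 2, 3, 4, 5, 6, 7, 8, 9, 10, 11, 12, 13, 14, 15, 16, 19, 18, 17, 20, 23, 22, 21, 28, 31, 30, 29, 24, 27, 26, 25, 32, 40, 36, 44, 34, 42, 38, 46, 33, 41, 37, 45, 35, 43, 39, 47, 48, 60, 52, 56, 50, 62, 54, 58, 51, 63, 55, 59, 49, 61, 53, 57]
/-- Which elements fix a point. -/
def fixTab : List Bool :=
  [true, true, true, true, true, false, false, false, true, false, false, false, true, false, false, false, true, true, true, true, true, true, true, true, true, false, true, false, true, false, true, false, false, false, false, false, false, false, false, false, false, false, false, false, false, false, false, false, false, false, false, false, false, false, false, false, false, false, false, false, false, false, false, false]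

/-- The index of a product. -/
def idxMul (i j : ℕ) : ℕ :=
  (List.range 6).foldl (fun a b => if j.testBit b then (rgTab.getD b []).getD a 0 else a) i

/-- The index of an inverse. -/
def idxInv (i : ℕ) : ℕ := invTab.getD i 0

/-- The elements of `S`. -/
def el (i : ℕ) : A8 :=
  (List.range 6).foldl (fun g b => if i.testBit b then g * gen (Fin.ofNat 6 b) else g) 1

/-- A code of a permutation. -/
def code (g : A8) : ℕ :=
  (List.finRange 8).foldl (fun a i => 8 * a + ((g : Perm (Fin 8)) i).val) 0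

theorem code_inj {g h : A8} (e : code g = code h) : g = h := by
  refine Subtype.ext (Equiv.ext fun i => ?_)
  unfold code at e
  rw [show List.finRange 8 = [0, 1, 2, 3, 4, 5, 6, 7] from rfl] at e
  simp only [List.foldl_cons, List.foldl_nil] at e
  have b := fun j => ((g : Perm (Fin 8)) j).isLt
  have b' := fun j => ((h : Perm (Fin 8)) j).isLt
  have := b 0; have := b 1; have := b 2; have := b 3; have := b 4; have := b 5; have := b 6
  have := b 7; have := b' 0; have := b' 1; have := b' 2; have := b' 3; have := b' 4; have := b' 5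
  have := b' 6; have := b' 7
  fin_cases i <;> apply Fin.ext <;> simp at * <;> omega

theorem right_check : ((List.range 64).all fun i => (List.range 6).all fun b =>
    Nat.beq (code (el ((rgTab.getD b []).getD i 0))) (code (el i * gen (Fin.ofNat 6 b))) &&
      Nat.blt ((rgTab.getD b []).getD i 0) 64) = true := by decide +kernel

theorem right_spec {i b : ℕ} (hi : i < 64) (hb : b < 6) :
    el ((rgTab.getD b []).getD i 0) = el i * gen (Fin.ofNat 6 b) ∧ (rgTab.getD b []).getD i 0 < 64 := by
  have h := right_check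
  simp only [List.all_eq_true, List.mem_range, Bool.and_eq_true, Nat.blt_eq] at h
  exact ⟨code_inj (Nat.eq_of_beq_eq_true (h i hi b hb).1), (h i hi b hb).2⟩

theorem el_idxMul {i j : ℕ} (hi : i < 64) : el (idxMul i j) = el i * el j ∧ idxMul i j < 64 := by
  have key : ∀ (l : List ℕ), (∀ b ∈ l, b < 6) → ∀ (a : ℕ) (g : A8), a < 64 → el a = el i * g →
      el (l.foldl (fun a b => if j.testBit b then (rgTab.getD b []).getD a 0 else a) a) =
        el i * l.foldl (fun g b => if j.testBit b then g * gen (Fin.ofNat 6 b) else g) g ∧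
      l.foldl (fun a b => if j.testBit b then (rgTab.getD b []).getD a 0 else a) a < 64 := by
    intro l
    induction l with
    | nil => exact fun _ a g ha e => ⟨e, ha⟩
    | cons b l ih =>
      intro hl a g ha e
      simp only [List.foldl_cons]
      by_cases h : j.testBit b = true
      · simp only [h, if_true]
        obtain ⟨h1, h2⟩ := right_spec ha (hl b List.mem_cons_self)
        exact ih (fun c hc => hl c (List.mem_cons_of_mem b hc)) _ _ h2 (by rw [h1, e, mul_assoc])
      · simp only [h]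
        exact ih (fun c hc => hl c (List.mem_cons_of_mem b hc)) a g ha e
  exact key _ (fun b hb => List.mem_range.1 hb) i 1 hi (mul_one _).symm

theorem table_check :
    (((List.range 64).all fun i => Nat.beq (code (el i)) (code 1) == Nat.beq i 0) &&
      ((List.range 64).all fun i => Nat.beq (idxMul i (idxInv i)) 0 && Nat.blt (idxInv i) 64) &&
      ((List.range 64).all fun i => (List.range 64).all fun j =>
        Nat.beq i j || !(Nat.beq (idxMul i (idxInv j)) 0))) = true := by decide +kernel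

theorem el_zero : el 0 = 1 := by decide +kernel

theorem el_eq_one_iff {i : ℕ} (hi : i < 64) : el i = 1 ↔ i = 0 := by
  refine ⟨fun e => ?_, fun e => e ▸ el_zero⟩
  have h := table_check
  simp only [Bool.and_eq_true, List.all_eq_true, List.mem_range] at h
  have h1 := h.1.1 i hi
  rw [e] at h1
  simp at h1
  exact h1

theorem el_idxInv {i : ℕ} (hi : i < 64) : el (idxInv i) = (el i)⁻¹ ∧ idxInv i < 64 := by
  have h := table_check
  simp only [Bool.and_eq_true, List.all_eq_true, List.mem_range, Nat.blt_eq] at h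
  refine ⟨eq_inv_of_mul_eq_one_right ?_, (h.1.2 i hi).2⟩
  rw [← (el_idxMul hi).1, Nat.eq_of_beq_eq_true (h.1.2 i hi).1, el_zero]

theorem el_inj {i j : ℕ} (hi : i < 64) (hj : j < 64) (e : el i = el j) : i = j := by
  by_contra hne
  have h := table_check
  simp only [Bool.and_eq_true, List.all_eq_true, List.mem_range, Bool.or_eq_true] at h
  rcases h.2 i hi j hj with hb | hb
  · exact hne (Nat.eq_of_beq_eq_true hb)
  · have h0 : idxMul i (idxInv j) = 0 := (el_eq_one_iff (el_idxMul hi).2).1 (by
      rw [(el_idxMul hi).1, (el_idxInv hj).1, e, mul_inv_cancel])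
    rw [h0] at hb
    simp at hb

theorem el_commute_iff {i j : ℕ} (hi : i < 64) (hj : j < 64) :
    el i * el j = el j * el i ↔ idxMul i j = idxMul j i := by
  rw [← (el_idxMul hi).1, ← (el_idxMul hj).1]
  exact ⟨el_inj (el_idxMul hi).2 (el_idxMul hj).2, congrArg el⟩

theorem el_gens : el 1 = v0 ∧ el 2 = t0 ∧ el 3 = t0 * v0 ∧ el 4 = w0 ∧ el 8 = w1 ∧ el 16 = u0 ∧
    el 32 = swp ∧ el 6 = e0 := by
  refine ⟨?_, ?_, ?_, ?_, ?_, ?_, ?_, ?_⟩ <;> apply code_inj <;> decide +kernel

theorem sub_check : ([4, 16, 32].all fun n => (List.range n).all fun i => (List.range n).all fun j =>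
    Nat.blt (idxMul i j) n && Nat.blt (idxInv i) n) = true := by decide +kernel

/-- The subgroup of the first `n` elements, for `n = 4, 16, 32, 64`. -/
def subN (n : ℕ) (hn : n = 4 ∨ n = 16 ∨ n = 32 ∨ n = 64) : Subgroup A8 where
  carrier := {g | ∃ i < n, el i = g}
  one_mem' := ⟨0, by omega, el_zero⟩
  mul_mem' := by
    rintro _ _ ⟨i, hi, rfl⟩ ⟨j, hj, rfl⟩
    have h64 : i < 64 := by omega
    refine ⟨idxMul i j, ?_, (el_idxMul h64).1⟩
    rcases hn with rfl | rfl | rfl | rfl
    all_goals first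
      | exact (el_idxMul h64).2
      | (have h := sub_check
         simp only [List.all_eq_true, List.mem_range, Bool.and_eq_true, Nat.blt_eq] at h
         exact (h _ (by simp) i hi j hj).1)
  inv_mem' := by
    rintro _ ⟨i, hi, rfl⟩
    have h64 : i < 64 := by omega
    refine ⟨idxInv i, ?_, (el_idxInv h64).1⟩
    rcases hn with rfl | rfl | rfl | rfl
    all_goals first
      | exact (el_idxInv h64).2
      | (have h := sub_check
         simp only [List.all_eq_true, List.mem_range, Bool.and_eq_true, Nat.blt_eq] at h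
         exact (h _ (by simp) i hi i hi).2)

/-- The four group `⟨t0, v0⟩`. -/
def subV : Subgroup A8 := subN 4 (Or.inl rfl)
/-- The elementary abelian group of order sixteen. -/
def subR : Subgroup A8 := subN 16 (Or.inr (Or.inl rfl))
/-- A Sylow subgroup of the centraliser of `t0`. -/
def subT : Subgroup A8 := subN 32 (Or.inr (Or.inr (Or.inl rfl)))
/-- A Sylow subgroup. -/
def subS : Subgroup A8 := subN 64 (Or.inr (Or.inr (Or.inr rfl)))

theorem mem_subV {g : A8} : g ∈ subV ↔ ∃ i < 4, el i = g := Iff.rfl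
theorem mem_subR {g : A8} : g ∈ subR ↔ ∃ i < 16, el i = g := Iff.rfl
theorem mem_subT {g : A8} : g ∈ subT ↔ ∃ i < 32, el i = g := Iff.rfl
theorem mem_subS {g : A8} : g ∈ subS ↔ ∃ i < 64, el i = g := Iff.rfl

theorem card_subN (n : ℕ) (hn : n = 4 ∨ n = 16 ∨ n = 32 ∨ n = 64) : Nat.card (subN n hn) = n := by
  refine Eq.trans ?_ (Nat.card_fin n)
  refine (Nat.card_eq_of_bijective (fun i : Fin n => (⟨el i, i.1, i.2, rfl⟩ : subN n hn)) ⟨?_, ?_⟩).symm
  · intro i j e
    exact Fin.ext (el_inj (by omega) (by omega) (congrArg Subtype.val e))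
  · rintro ⟨_, i, hi, rfl⟩
    exact ⟨⟨i, hi⟩, rfl⟩

theorem card_subV : Nat.card subV = 4 := card_subN _ _
theorem card_subR : Nat.card subR = 16 := card_subN _ _
theorem card_subT : Nat.card subT = 32 := card_subN _ _
theorem card_subS : Nat.card subS = 64 := card_subN _ _

/-- `el i` is an involution with fixed points. -/
def isT (i : ℕ) : Bool := !(Nat.beq i 0) && Nat.beq (idxMul i i) 0 && fixTab.getD i false

theorem fix_check : ((List.range 64).all fun i =>
    fixTab.getD i false == (List.finRange 8).any fun j => decide ((el i : Perm (Fin 8)) j = j)) = true := by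
  decide +kernel

theorem tType_el {i : ℕ} (hi : i < 64) : TType (el i) ↔ isT i = true := by
  have h := fix_check
  simp only [List.all_eq_true, List.mem_range, beq_iff_eq] at h
  simp only [isT, h i hi, Bool.and_eq_true, List.any_eq_true, List.mem_finRange, true_and,
    decide_eq_true_eq, Bool.not_eq_true', TType, ne_eq, el_eq_one_iff hi, ← (el_idxMul hi).1,
    el_eq_one_iff (el_idxMul hi).2, and_assoc]
  refine and_congr ⟨fun h => ?_, fun h e => ?_⟩ (and_congr_left' ⟨fun h => ?_, Nat.eq_of_beq_eq_true⟩)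
  · cases i with
    | zero => exact absurd rfl h
    | succ k => rfl
  · rw [e] at h; simp at h
  · rw [h]; simp

/-! ### classes -/

theorem isConj_of_commute_odd {g g' : A8} (h : IsConj (g : Perm (Fin 8)) (g' : Perm (Fin 8)))
    {p : Perm (Fin 8)} (hp : p * (g : Perm (Fin 8)) = (g : Perm (Fin 8)) * p)
    (hs : Perm.sign p = -1) : IsConj g g' := by
  obtain ⟨π, hπ⟩ := isConj_iff.1 h
  rcases Int.units_eq_one_or (Perm.sign π) with e | e
  · exact isConj_iff.2 ⟨⟨π, Perm.mem_alternatingGroup.2 e⟩, Subtype.ext (by simpa using hπ)⟩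
  · refine isConj_iff.2 ⟨⟨π * p, Perm.mem_alternatingGroup.2 (by simp [e, hs])⟩, Subtype.ext ?_⟩
    show π * p * (g : Perm (Fin 8)) * (π * p)⁻¹ = _
    rw [mul_assoc π p, hp, ← hπ]
    group

theorem involution_cycleType {g : A8} (h2 : g * g = 1) (h1 : g ≠ 1) :
    (g : Perm (Fin 8)).cycleType = {2, 2} ∨ (g : Perm (Fin 8)).cycleType = {2, 2, 2, 2} := by
  have ho : orderOf (g : Perm (Fin 8)) = 2 :=
    orderOf_eq_prime (by rw [pow_two, ← Subgroup.coe_mul, h2]; rfl)
      (fun e => h1 (Subtype.ext e))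
  obtain ⟨n, hn⟩ := Perm.cycleType_prime_order (hσ := by rw [ho]; exact Nat.prime_two)
  rw [ho] at hn
  have hsum := Finset.card_le_univ (g : Perm (Fin 8)).support
  rw [← Perm.sum_cycleType, hn, Multiset.sum_replicate, Fintype.card_fin, smul_eq_mul] at hsum
  have hs := Perm.mem_alternatingGroup.1 g.2
  rw [Perm.sign_of_cycleType, hn] at hs
  have : n ≤ 3 := by omega
  interval_cases n
  · exact absurd hs (by decide)
  · exact Or.inl hn
  · exact absurd hs (by decide)
  · exact Or.inr hn

theorem cycleType_swaps {a b c d : Fin 8} (hab : a ≠ b) (hcd : c ≠ d)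
    (hd : Perm.Disjoint (swap a b) (swap c d)) : (swap a b * swap c d).cycleType = {2, 2} := by
  rw [hd.cycleType_mul, (Perm.swap_isSwap_iff.2 hab).isCycle.cycleType,
    (Perm.swap_isSwap_iff.2 hcd).isCycle.cycleType, Perm.card_support_swap hab,
    Perm.card_support_swap hcd]
  rfl

theorem cycleType_t0 : (t0 : Perm (Fin 8)).cycleType = {2, 2} :=
  cycleType_swaps (by decide) (by decide) (by unfold Perm.Disjoint; decide +kernel)

theorem cycleType_e0 : (e0 : Perm (Fin 8)).cycleType = {2, 2, 2, 2} := by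
  show (swap 0 1 * swap 2 3 * swap 4 5 * swap 6 7 : Perm (Fin 8)).cycleType = _
  rw [show (swap 0 1 * swap 2 3 * swap 4 5 * swap 6 7 : Perm (Fin 8)) =
      (swap 0 1 * swap 2 3) * (swap 4 5 * swap 6 7) by group]
  rw [Perm.Disjoint.cycleType_mul (by unfold Perm.Disjoint; decide +kernel),
    cycleType_swaps (by decide) (by decide) (by unfold Perm.Disjoint; decide +kernel),
    cycleType_swaps (by decide) (by decide) (by unfold Perm.Disjoint; decide +kernel)]
  rfl

theorem cycleType_c3 : (c3 : Perm (Fin 8)).cycleType = {3} := by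
  show (swap 0 1 * swap 1 2 : Perm (Fin 8)).cycleType = _
  rw [swap_comm (0 : Fin 8) 1]
  exact (Perm.isThreeCycle_swap_mul_swap_same (a := (1 : Fin 8)) (b := 0) (c := 2) (by decide) (by decide) (by decide))

theorem cycleType_c33 : (c33 : Perm (Fin 8)).cycleType = {3, 3} := by
  show (swap 0 1 * swap 1 2 * (swap 3 4 * swap 4 5) : Perm (Fin 8)).cycleType = _
  rw [Perm.Disjoint.cycleType_mul (by unfold Perm.Disjoint; decide +kernel)]
  rw [swap_comm (0 : Fin 8) 1, swap_comm (3 : Fin 8) 4,
    (Perm.isThreeCycle_swap_mul_swap_same (a := (1 : Fin 8)) (b := 0) (c := 2) (by decide) (by decide) (by decide)),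
    (Perm.isThreeCycle_swap_mul_swap_same (a := (4 : Fin 8)) (b := 3) (c := 5) (by decide) (by decide) (by decide))]
  rfl

theorem support_eq_univ_iff {g : A8} :
    (∀ i, (g : Perm (Fin 8)) i ≠ i) ↔ (g : Perm (Fin 8)).support.card = 8 := by
  refine Iff.trans ?_ ((Finset.card_eq_iff_eq_univ (g : Perm (Fin 8)).support).symm.trans
    (by rw [Fintype.card_fin]))
  rw [Finset.eq_univ_iff_forall]
  simp

theorem involution_cases {g : A8} (h2 : g * g = 1) (h1 : g ≠ 1) :
    (TType g ∧ IsConj t0 g) ∨ (EType g ∧ IsConj e0 g) := by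
  rcases involution_cycleType h2 h1 with h | h
  · refine Or.inl ⟨⟨h1, h2, ?_⟩, isConj_of_commute_odd
      (Perm.isConj_iff_cycleType_eq.2 (cycleType_t0.trans h.symm)) (p := swap 4 5)
      (by decide +kernel) (by decide +kernel)⟩
    by_contra hf
    have := support_eq_univ_iff.1 (fun i e => hf ⟨i, e⟩)
    rw [← Perm.sum_cycleType, h] at this
    simp at this
  · refine Or.inr ⟨⟨h2, support_eq_univ_iff.2 (by rw [← Perm.sum_cycleType, h]; rfl)⟩,
      isConj_of_commute_odd (Perm.isConj_iff_cycleType_eq.2 (cycleType_e0.trans h.symm))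
        (p := swap 4 5) (by decide +kernel) (by decide +kernel)⟩

theorem TType.isConj {g : A8} (h : TType g) : IsConj t0 g := by
  rcases involution_cases h.2.1 h.1 with ⟨-, hc⟩ | ⟨he, -⟩
  · exact hc
  · exact absurd h.2.2.choose_spec (he.2 _)

theorem EType.isConj {g : A8} (h : EType g) : IsConj e0 g := by
  rcases involution_cases h.1 (fun e => h.2 0 (by rw [e]; rfl)) with ⟨ht, -⟩ | ⟨-, hc⟩
  · exact absurd ht.2.2.choose_spec (h.2 _)
  · exact hc

theorem tType_t0 : TType t0 ∧ TType v0 ∧ EType e0 := by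
  refine ⟨⟨?_, ?_, 0, ?_⟩, ⟨?_, ?_, 0, ?_⟩, ?_, ?_⟩
  all_goals decide +kernel

theorem three_cases {g : A8} (h3 : g ^ 3 = 1) (h1 : g ≠ 1) : IsConj c3 g ∨ IsConj c33 g := by
  have ho : orderOf (g : Perm (Fin 8)) = 3 :=
    orderOf_eq_prime (by rw [← SubgroupClass.coe_pow, h3]; rfl) (fun e => h1 (Subtype.ext e))
  obtain ⟨n, hn⟩ := Perm.cycleType_prime_order (hσ := by rw [ho]; exact Nat.prime_three)
  rw [ho] at hn
  have hsum := Finset.card_le_univ (g : Perm (Fin 8)).support
  rw [← Perm.sum_cycleType, hn, Multiset.sum_replicate, Fintype.card_fin, smul_eq_mul] at hsum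
  have : n ≤ 1 := by omega
  interval_cases n
  · exact Or.inl (isConj_of_commute_odd (Perm.isConj_iff_cycleType_eq.2
      (cycleType_c3.trans hn.symm)) (p := swap 6 7) (by decide +kernel) (by decide +kernel))
  · exact Or.inr (isConj_of_commute_odd (Perm.isConj_iff_cycleType_eq.2
      (cycleType_c33.trans hn.symm)) (p := swap 6 7) (by decide +kernel) (by decide +kernel))

/-! ### centralisers -/

theorem card_centralizer_mul_two (g : A8) {p : Perm (Fin 8)}
    (hp : p * (g : Perm (Fin 8)) = (g : Perm (Fin 8)) * p) (hs : Perm.sign p = -1) :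
    Nat.card (Subgroup.centralizer ({g} : Set A8)) * 2 =
      Nat.card (Subgroup.centralizer ({(g : Perm (Fin 8))} : Set (Perm (Fin 8)))) := by
  set C := Subgroup.centralizer ({(g : Perm (Fin 8))} : Set (Perm (Fin 8)))
  let f : C →* ℤˣ := Perm.sign.comp C.subtype
  have hsur : Function.Surjective f := by
    intro u
    rcases Int.units_eq_one_or u with rfl | rfl
    · exact ⟨1, map_one f⟩
    · exact ⟨⟨p, Subgroup.mem_centralizer_singleton_iff.2 hp⟩, hs⟩
  have h2 : f.ker.index = 2 := by
    rw [Subgroup.index_ker, MonoidHom.range_eq_top.2 hsur, Subgroup.card_top]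
    simp
  have hk : Nat.card f.ker = Nat.card (Subgroup.centralizer ({g} : Set A8)) :=
    Nat.card_congr
      { toFun := fun x => ⟨⟨(x.1 : Perm (Fin 8)), Perm.mem_alternatingGroup.2 x.2⟩,
          Subgroup.mem_centralizer_singleton_iff.2
            (Subtype.ext (Subgroup.mem_centralizer_singleton_iff.1 x.1.2))⟩
        invFun := fun x => ⟨⟨((x : A8) : Perm (Fin 8)), Subgroup.mem_centralizer_singleton_iff.2
          (congrArg Subtype.val (Subgroup.mem_centralizer_singleton_iff.1 x.2))⟩,
          Perm.mem_alternatingGroup.1 x.1.2⟩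
        left_inv := fun _ => rfl
        right_inv := fun _ => rfl }
  rw [← hk, ← h2]
  exact f.ker.card_mul_index

theorem card_centralizer_values :
    Nat.card (Subgroup.centralizer ({c3} : Set A8)) = 180 ∧
    Nat.card (Subgroup.centralizer ({c33} : Set A8)) = 18 ∧
    Nat.card (Subgroup.centralizer ({t0} : Set A8)) = 96 ∧
    Nat.card (Subgroup.centralizer ({e0} : Set A8)) = 192 := by
  refine ⟨?_, ?_, ?_, ?_⟩
  · have := card_centralizer_mul_two c3 (p := swap 6 7) (by decide +kernel) (by decide +kernel)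
    rw [Perm.nat_card_centralizer, cycleType_c3] at this
    simp [Nat.factorial] at this
    omega
  · have := card_centralizer_mul_two c33 (p := swap 6 7) (by decide +kernel) (by decide +kernel)
    rw [Perm.nat_card_centralizer, cycleType_c33] at this
    simp [Nat.factorial] at this
    omega
  · have := card_centralizer_mul_two t0 (p := swap 4 5) (by decide +kernel) (by decide +kernel)
    rw [Perm.nat_card_centralizer, cycleType_t0] at this
    simp [Nat.factorial] at this
    omega
  · have := card_centralizer_mul_two e0 (p := swap 4 5) (by decide +kernel) (by decide +kernel)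
    rw [Perm.nat_card_centralizer, cycleType_e0] at this
    simp [Nat.factorial] at this
    omega

theorem c3_points : (c3 : Perm (Fin 8)) 0 = 1 ∧ (c3 : Perm (Fin 8)) 1 = 2 ∧
    (c3 : Perm (Fin 8)) 2 = 0 ∧ (∀ x, (c3 : Perm (Fin 8)) x ≠ x → x = 0 ∨ x = 1 ∨ x = 2) ∧
    (c33 : Perm (Fin 8)) 0 = 1 ∧ (c33 : Perm (Fin 8)) 1 = 2 ∧ (c33 : Perm (Fin 8)) 2 = 0 ∧
    (c33 : Perm (Fin 8)) 3 = 4 ∧ (c33 : Perm (Fin 8)) 4 = 5 ∧ (c33 : Perm (Fin 8)) 5 = 3 ∧
    (∀ x, (c33 : Perm (Fin 8)) x = x ↔ x = 6 ∨ x = 7) := by decide +kernel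

/-- A point fixed by an involution which preserves a cycle through it. -/
theorem fixed_of_cycle {p c : Perm (Fin 8)} (hc : ∀ x, p (c x) = c (p x)) (hpp : ∀ x, p (p x) = x)
    {a b d : Fin 8} (hab : c a = b) (hbd : c b = d) (hda : c d = a) (hne : a ≠ b) (_hne' : b ≠ d)
    (hne'' : d ≠ a) (hp : p a = a ∨ p a = b ∨ p a = d) : p a = a ∧ p b = b ∧ p d = d := by
  rcases hp with e | e | e
  · have e1 : p b = b := by rw [← hab, hc, e]
    exact ⟨e, e1, by rw [← hbd, hc, e1]⟩
  · have e1 : p b = d := by rw [← hab, hc, e, hbd]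
    have := hpp a
    rw [e, e1] at this
    exact absurd this hne''
  · have e1 : p b = a := by rw [← hab, hc, e, hda]
    have e2 : p d = b := by rw [← hbd, hc, e1, hab]
    have := hpp a
    rw [e, e2] at this
    exact absurd this (Ne.symm hne)

/-- An involution centralising the three cycle has fixed points. -/
theorem ttype_of_commute_c3 {i : A8} (h1 : i ≠ 1) (h2 : i * i = 1) (h : i * c3 = c3 * i) :
    TType i := by
  set p := (i : Perm (Fin 8))
  have hc : ∀ x, p ((c3 : Perm (Fin 8)) x) = (c3 : Perm (Fin 8)) (p x) := fun x =>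
    congrArg (fun q : A8 => (q : Perm (Fin 8)) x) h
  have hpp : ∀ x, p (p x) = x := fun x => congrArg (fun q : A8 => (q : Perm (Fin 8)) x) h2
  obtain ⟨c0, c1, c2, key, -⟩ := c3_points
  have h0 : (c3 : Perm (Fin 8)) (p 0) ≠ p 0 := by
    rw [← hc]
    exact fun e => absurd (p.injective e) (by rw [c0]; decide)
  exact ⟨h1, h2, 0, (fixed_of_cycle hc hpp c0 c1 c2 (by decide) (by decide) (by decide) (key _ h0)).1⟩

theorem etype_of_commute_c33 {i : A8} (h1 : i ≠ 1) (h2 : i * i = 1) (h : i * c33 = c33 * i) :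
    EType i := by
  rcases involution_cases h2 h1 with ⟨ht, -⟩ | ⟨he, -⟩
  swap
  · exact he
  exfalso
  set p := (i : Perm (Fin 8))
  have hc : ∀ x, p ((c33 : Perm (Fin 8)) x) = (c33 : Perm (Fin 8)) (p x) := fun x =>
    congrArg (fun q : A8 => (q : Perm (Fin 8)) x) h
  have hpp : ∀ x, p (p x) = x := fun x => congrArg (fun q : A8 => (q : Perm (Fin 8)) x) h2
  obtain ⟨-, -, -, -, c0, c1, c2, c3', c4, c5, key⟩ := c3_points
  have hk : ∀ x, (x = 6 ∨ x = 7) → (p x = 6 ∨ p x = 7) := fun x hx => (key _).1 (by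
    rw [← hc, (key x).2 hx])
  have hinv : ∀ {x y}, p x = y → p y = x := fun {x y} e => by rw [← e, hpp]
  have hsupp : p.support.card = 4 := by
    rcases involution_cycleType h2 h1 with e | e
    · rw [← Perm.sum_cycleType, e]; rfl
    · have := support_eq_univ_iff.2 (by rw [← Perm.sum_cycleType, e]; rfl : p.support.card = 8)
      exact absurd ht.2.2.choose_spec (this _)
  have six : ∀ x : Fin 8, x = 0 ∨ x = 1 ∨ x = 2 ∨ x = 3 ∨ x = 4 ∨ x = 5 ∨ x = 6 ∨ x = 7 := by decide
  by_cases hh : p 0 = 0 ∨ p 0 = 1 ∨ p 0 = 2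
  · obtain ⟨f0, f1, f2⟩ := fixed_of_cycle hc hpp c0 c1 c2 (by decide) (by decide) (by decide) hh
    have h3 : p 3 = 3 ∨ p 3 = 4 ∨ p 3 = 5 := by
      rcases six (p 3) with g | g | g | g | g | g | g | g
      · exact absurd (hinv g) (by rw [f0]; decide)
      · exact absurd (hinv g) (by rw [f1]; decide)
      · exact absurd (hinv g) (by rw [f2]; decide)
      · exact Or.inl g
      · exact Or.inr (Or.inl g)
      · exact Or.inr (Or.inr g)
      · exact absurd (hk 6 (Or.inl rfl)) (by rw [hinv g]; decide)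
      · exact absurd (hk 7 (Or.inr rfl)) (by rw [hinv g]; decide)
    obtain ⟨f3, f4, f5⟩ := fixed_of_cycle hc hpp c3' c4 c5 (by decide) (by decide) (by decide) h3
    have hle : p.support ⊆ ({6, 7} : Finset (Fin 8)) := by
      intro x hx
      rw [Perm.mem_support] at hx
      rcases six x with rfl | rfl | rfl | rfl | rfl | rfl | rfl | rfl <;> simp_all
    have := Finset.card_le_card hle
    simp [hsupp] at this
  · have h1' : p 1 = (c33 : Perm (Fin 8)) (p 0) := by rw [← hc, c0]
    have h2' : p 2 = (c33 : Perm (Fin 8)) (p 1) := by rw [← hc, c1]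
    rcases six (p 0) with e | e | e | e | e | e | e | e
    · exact hh (Or.inl e)
    · exact hh (Or.inr (Or.inl e))
    · exact hh (Or.inr (Or.inr e))
    rotate_left 3
    · exact absurd (hk 6 (Or.inl rfl)) (by rw [hinv e]; decide)
    · exact absurd (hk 7 (Or.inr rfl)) (by rw [hinv e]; decide)
    all_goals
      rw [e] at h1'
      simp only [c3', c4, c5] at h1'
      rw [h1'] at h2'
      simp only [c3', c4, c5] at h2'
      have g0 := hinv e
      have g1 := hinv h1'
      have g2 := hinv h2'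
      have hle : ({0, 1, 2, 3, 4, 5} : Finset (Fin 8)) ⊆ p.support := by
        intro x hx
        rw [Perm.mem_support]
        rcases six x with rfl | rfl | rfl | rfl | rfl | rfl | rfl | rfl <;> simp_all
      have := Finset.card_le_card hle
      simp [hsupp] at this

end Cfsg.Agent.Lib.AltEightThree6
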