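import Cfsg.Agent.Lib.AltEightThree6.Spec

/-!
Two coordinate systems for the three-local characterisation of the alternating group of degree
eight: the normaliser of the Sylow subgroup interchanges the lines of `z` and `a`.
-/

set_option autoImplicit false

namespace Cfsg.Agent.Lib.AltEightThree6.SetupProof

open Equiv Equiv.Perm

universe u

/-- The three cycle `(234)` of five points. -/
def q0 : Perm (Fin 5) := swap 2 3 * swap 3 4

/-- The swap exchanging the two diagonal lines. -/
def sL : L35 := evL (swap 0 1) (swap 0 1)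

/-- An element inverting the two generators. -/
def kL : L35 := evL (swap 0 1) (swap 3 4)

theorem sL_z : sL * zL * sL⁻¹ = zL⁻¹ := by decide +kernel

theorem sL_a : sL * aL * sL⁻¹ = aL := by decide +kernel

theorem kL_z : kL * zL * kL⁻¹ = zL⁻¹ := by decide +kernel

theorem kL_a : kL * aL * kL⁻¹ = aL⁻¹ := by decide +kernel

theorem zL_cube : zL ^ 3 = 1 := by decide +kernel

theorem zL_ne : zL ≠ 1 := by decide +kernel

theorem aL_cube : aL ^ 3 = 1 := by decide +kernel

theorem aL_ne : aL ≠ 1 ∧ aL ≠ zL ∧ aL ≠ zL⁻¹ := by decide +kernel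

theorem two_step : ∀ q : Perm (Fin 5), q ^ 3 = 1 →
    (q0 * q * q0⁻¹ = q ∨ q0 * q * q0⁻¹ = q⁻¹) →
    (swap 1 2 * swap 3 4 * q * (swap 1 2 * swap 3 4)⁻¹ = q ∨
      swap 1 2 * swap 3 4 * q * (swap 1 2 * swap 3 4)⁻¹ = q⁻¹) →
    (swap 0 1 * swap 1 2 * q * (swap 0 1 * swap 1 2)⁻¹ = q ∨
      swap 0 1 * swap 1 2 * q * (swap 0 1 * swap 1 2)⁻¹ = q⁻¹) → q = 1 := by
  decide +kernel

theorem first_step : ∀ p : Perm (Fin 3), p ^ 3 = 1 →
    p = 1 ∨ p = swap 0 1 * swap 1 2 ∨ p = (swap 0 1 * swap 1 2)⁻¹ := by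
  decide +kernel

theorem conj_step : ∀ q : Perm (Fin 5), q ^ 3 = 1 → q ≠ 1 →
    ∃ h : Perm (Fin 5), Perm.sign h = 1 ∧ h * q0 * h⁻¹ = q := by
  decide +kernel

theorem stab_card :
    Fintype.card {x : Perm (Fin 3) × Perm (Fin 5) // Perm.sign x.1 * Perm.sign x.2 = 1 ∧
      (x.2 * q0 * x.2⁻¹ = q0 ∨ x.2 * q0 * x.2⁻¹ = q0⁻¹)} = 36 := by
  decide +kernel

variable {G : Type u} [Group G]

theorem mem_zpowers_cases {x w : G} (hx : x ^ 3 = 1) (hw : w ∈ Subgroup.zpowers x) :
    w = 1 ∨ w = x ∨ w = x⁻¹ := by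
  obtain ⟨k, rfl⟩ := Subgroup.mem_zpowers_iff.1 hw
  have h3 : x ^ (3 : ℤ) = 1 := by exact_mod_cast hx
  rw [zpow_eq_zpow_emod k h3]
  have h1 := Int.emod_nonneg k (b := 3) (by norm_num)
  have h2 := Int.emod_lt_of_pos k (b := 3) (by norm_num)
  rcases (show k % 3 = 0 ∨ k % 3 = 1 ∨ k % 3 = 2 by omega) with h | h | h <;> rw [h]
  · left; exact zpow_zero x
  · right; left; exact zpow_one x
  · right; right
    apply eq_inv_of_mul_eq_one_left
    rw [show x ^ (2 : ℤ) * x = x ^ 3 by rw [zpow_two, pow_three]; group, hx]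

/-- The nine elements of a commuting pair of elements of order three. -/
theorem mem_closure_pair {z a x : G} (hc : z * a = a * z) (hz : z ^ 3 = 1) (ha : a ^ 3 = 1)
    (hx : x ∈ Subgroup.closure ({z, a} : Set G)) :
    ∃ i j : G, (i = 1 ∨ i = z ∨ i = z⁻¹) ∧ (j = 1 ∨ j = a ∨ j = a⁻¹) ∧ x = i * j := by
  have key : ∃ m n : ℤ, x = z ^ m * a ^ n := by
    induction hx using Subgroup.closure_induction with
    | mem w hw =>
      rcases hw with rfl | hw
      · exact ⟨1, 0, by simp⟩
      · rw [Set.mem_singleton_iff] at hw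
        exact ⟨0, 1, by simp [hw]⟩
    | one => exact ⟨0, 0, by simp⟩
    | mul v w _ _ hv hw =>
      obtain ⟨m, n, rfl⟩ := hv
      obtain ⟨m', n', rfl⟩ := hw
      refine ⟨m + m', n + n', ?_⟩
      rw [zpow_add, zpow_add]
      exact (show Commute a z from hc.symm).zpow_zpow n m' |>.mul_mul_mul_comm (z ^ m) (a ^ n')
    | inv v _ hv =>
      obtain ⟨m, n, rfl⟩ := hv
      refine ⟨-m, -n, ?_⟩
      rw [mul_inv_rev, zpow_neg, zpow_neg]
      exact ((show Commute a z from hc.symm).zpow_zpow n m).inv_inv.eq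
  obtain ⟨m, n, rfl⟩ := key
  exact ⟨z ^ m, a ^ n, mem_zpowers_cases hz ⟨m, rfl⟩, mem_zpowers_cases ha ⟨n, rfl⟩, rfl⟩

theorem cent_inv (x : G) :
    Subgroup.centralizer ({x⁻¹} : Set G) = Subgroup.centralizer ({x} : Set G) := by
  ext w
  simp only [Subgroup.mem_centralizer_singleton_iff]
  constructor
  · intro h; have := (Commute.inv_right_iff (a := w) (b := x)).1 h; exact this
  · intro h; exact (Commute.inv_right_iff (a := w) (b := x)).2 h

theorem cent_conj (g x : G) :
    Nat.card (Subgroup.centralizer ({g * x * g⁻¹} : Set G)) =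
      Nat.card (Subgroup.centralizer ({x} : Set G)) := by
  have h : Subgroup.centralizer ({g * x * g⁻¹} : Set G) =
      (Subgroup.centralizer ({x} : Set G)).map (MulAut.conj g).toMonoidHom := by
    ext w
    rw [Subgroup.mem_map_equiv, MulAut.conj_symm_apply]
    simp only [Subgroup.mem_centralizer_singleton_iff]
    constructor
    · intro h
      calc g⁻¹ * w * g * x = g⁻¹ * (w * (g * x * g⁻¹)) * g := by group
        _ = g⁻¹ * ((g * x * g⁻¹) * w) * g := by rw [h]
        _ = x * (g⁻¹ * w * g) := by group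
    · intro h
      calc w * (g * x * g⁻¹) = g * (g⁻¹ * w * g * x) * g⁻¹ := by group
        _ = g * (x * (g⁻¹ * w * g)) * g⁻¹ := by rw [h]
        _ = g * x * g⁻¹ * w := by group
  rw [h]
  exact (Nat.card_congr ((Subgroup.centralizer ({x} : Set G)).equivMapOfInjective _
    (MulAut.conj g).injective).toEquiv).symm

theorem cent_of_sign {x x' : G} (h : x' = x ∨ x' = x⁻¹) :
    Subgroup.centralizer ({x'} : Set G) = Subgroup.centralizer ({x} : Set G) := by
  rcases h with rfl | rfl
  · rfl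
  · exact cent_inv x

theorem zpowers_of_sign {x x' : G} (h : x' = x ∨ x' = x⁻¹) :
    Subgroup.zpowers x' = Subgroup.zpowers x := by
  rcases h with rfl | rfl
  · rfl
  · exact Subgroup.zpowers_inv

theorem comp_conj_range (f : L35 →* G) (h : L35) :
    (f.comp (MulAut.conj h).toMonoidHom).range = f.range := by
  rw [MonoidHom.range_comp, MonoidHom.range_eq_top.2 (MulAut.conj h).surjective,
    ← MonoidHom.range_eq_map]

theorem setup : SetupStmt.{u} := by
  classical
  intro G _ _ P D hDP y z hgen hcomm hcard hexp _hC hN hy hzC hzN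
  obtain ⟨eN⟩ := hN
  obtain ⟨eC⟩ := hzC
  obtain ⟨eL⟩ := hzN
  have hcD : ∀ a ∈ D, ∀ b ∈ D, a * b = b * a := by
    intro a ha b hb
    exact congrArg Subtype.val (hcomm.is_comm.comm (⟨a, ha⟩ : D) ⟨b, hb⟩)
  have hyD : y ∈ D := hgen ▸ Subgroup.subset_closure (by simp)
  have hzD : z ∈ D := hgen ▸ Subgroup.subset_closure (by simp)
  have h180 : Nat.card (Subgroup.centralizer ({z} : Set G)) = 180 := by
    rw [Nat.card_congr eC.toEquiv, Nat.card_prod, Nat.card_congr Multiplicative.toAdd,
      Nat.card_zmod, nat_card_alternatingGroup, Nat.card_fin]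
    decide
  have hz1 : z ≠ 1 := by
    intro h
    have hle : D ≤ Subgroup.zpowers y := by
      rw [← hgen, Subgroup.closure_le]
      intro w hw
      rcases hw with rfl | hw
      · exact Subgroup.mem_zpowers _
      · rw [Set.mem_singleton_iff] at hw
        rw [hw, h]; exact one_mem _
    have h1 := Subgroup.card_le_of_le hle
    rw [hcard, Nat.card_zpowers] at h1
    have h2 : orderOf y ≤ 3 := orderOf_le_of_pow_eq_one (by norm_num) (hexp y hyD)
    omega
  -- the coordinate system at `z`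
  let f : L35 →* G :=
    (Subgroup.normalizer (Subgroup.zpowers z : Set G)).subtype.comp eL.symm.toMonoidHom
  have hf : Function.Injective f := (Subgroup.subtype_injective _).comp eL.symm.injective
  have hfr : f.range = Subgroup.normalizer (Subgroup.zpowers z : Set G) := by
    rw [MonoidHom.range_comp, MonoidHom.range_eq_top.2 eL.symm.surjective,
      ← MonoidHom.range_eq_map, Subgroup.range_subtype]
  have hzmem : z ∈ f.range := by
    rw [hfr]; exact Subgroup.le_normalizer (Subgroup.mem_zpowers z)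
  obtain ⟨x, hx⟩ := hzmem
  have hx3 : x ^ 3 = 1 := hf (by rw [map_pow, hx, map_one, hexp z hzD])
  have hx1 : x ≠ 1 := fun h => hz1 (by rw [← hx, h, map_one])
  have hxn : ∀ l : L35, l * x * l⁻¹ = x ∨ l * x * l⁻¹ = x⁻¹ := by
    intro l
    have hl : f l ∈ Subgroup.normalizer (Subgroup.zpowers z : Set G) := hfr ▸ ⟨l, rfl⟩
    have h := (Subgroup.mem_normalizer_iff.1 hl z).1 (Subgroup.mem_zpowers z)
    rcases mem_zpowers_cases (hexp z hzD) h with h1 | h1 | h1
    · exact absurd (conj_eq_one_iff.1 h1) hz1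
    · left; exact hf (by rw [map_mul, map_mul, map_inv, hx, h1])
    · right; exact hf (by rw [map_mul, map_mul, map_inv, map_inv, hx, h1])
  have hxz : zL = x ∨ zL = x⁻¹ := by
    obtain ⟨⟨p, q⟩, hpq⟩ := x
    have e3 : (p, q) ^ 3 = 1 := congrArg Subtype.val hx3
    have p3 : p ^ 3 = 1 := congrArg Prod.fst e3
    have q3 : q ^ 3 = 1 := congrArg Prod.snd e3
    have key : ∀ l : L35, l.1.2 * q * l.1.2⁻¹ = q ∨ l.1.2 * q * l.1.2⁻¹ = q⁻¹ := fun l =>
      (hxn l).imp (fun h => congrArg (fun w : L35 => w.1.2) h)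
        (fun h => congrArg (fun w : L35 => w.1.2) h)
    have q1 : q = 1 := two_step q q3 (key aL) (key tL)
      (key (evL 1 (swap 0 1 * swap 1 2)))
    subst q1
    rcases first_step p p3 with rfl | rfl | rfl
    · exact absurd rfl hx1
    · left; rfl
    · right; apply Subtype.ext; exact Prod.ext (inv_inv _).symm inv_one.symm
  have hfz : f zL = z ∨ f zL = z⁻¹ := by
    rcases hxz with h | h
    · left; rw [h, hx]
    · right; rw [h, map_inv, hx]
  have hDf : D ≤ f.range := by
    intro d hd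
    rw [hfr]
    have hc : d ∈ Subgroup.centralizer ((Subgroup.zpowers z : Subgroup G) : Set G) := by
      intro w hw
      obtain ⟨k, rfl⟩ := Subgroup.mem_zpowers_iff.1 hw
      exact ((show Commute z d from hcD z hzD d hd).zpow_left k).eq
    exact Subgroup.centralizer_le_normalizer _ hc
  have hfzD : f zL ∈ D := by rcases hfz with h | h <;> rw [h] <;> [exact hzD; exact inv_mem hzD]
  -- an element of `D` outside the line of `z`, moved to `(234)`
  obtain ⟨x', hx'⟩ := hDf hyD
  have hq1 : x'.1.2 ≠ 1 := by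
    intro h
    have h3 : x' ^ 3 = 1 := hf (by rw [map_pow, hx', map_one, hexp y hyD])
    have p3 : x'.1.1 ^ 3 = 1 := congrArg (fun w : L35 => w.1.1) h3
    have hyz : y ∈ Subgroup.zpowers z := by
      rw [← zpowers_of_sign hfz, ← hx']
      rcases first_step _ p3 with h' | h' | h'
      · rw [show x' = 1 from Subtype.ext (Prod.ext h' h), map_one]; exact one_mem _
      · rw [show x' = zL from Subtype.ext (Prod.ext h' h)]; exact Subgroup.mem_zpowers _
      · rw [show x' = zL⁻¹ from Subtype.ext (Prod.ext h' (h.trans inv_one.symm)), map_inv]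
        exact inv_mem (Subgroup.mem_zpowers _)
    have hle : D ≤ Subgroup.zpowers z := by
      rw [← hgen, Subgroup.closure_le]
      intro w hw
      rcases hw with rfl | hw
      · exact hyz
      · rw [Set.mem_singleton_iff] at hw
        rw [hw]; exact Subgroup.mem_zpowers _
    have h1 := Subgroup.card_le_of_le hle
    rw [hcard, Nat.card_zpowers] at h1
    have h2 : orderOf z ≤ 3 := orderOf_le_of_pow_eq_one (by norm_num) (hexp z hzD)
    omega
  have hq3 : x'.1.2 ^ 3 = 1 :=
    congrArg (fun w : L35 => w.1.2) (hf (by rw [map_pow, hx', map_one, hexp y hyD]) : x' ^ 3 = 1)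
  obtain ⟨h, hh, hhq⟩ := conj_step _ hq3 hq1
  let hL : L35 := ⟨(1, h), by
    show Perm.sign (1 : Perm (Fin 3)) * Perm.sign h = 1
    rw [map_one, hh, one_mul]⟩
  let φ : L35 →* G := f.comp (MulAut.conj hL).toMonoidHom
  have hφ : Function.Injective φ := hf.comp (MulAut.conj hL).injective
  have hzc : hL * zL * hL⁻¹ = zL := by
    apply Subtype.ext
    apply Prod.ext
    · show (1 : Perm (Fin 3)) * zL.1.1 * 1⁻¹ = zL.1.1
      simp
    · show h * zL.1.2 * h⁻¹ = zL.1.2
      rw [show zL.1.2 = 1 from rfl]; group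
  have hφz : φ zL = f zL := by
    show f (hL * zL * hL⁻¹) = f zL
    rw [hzc]
  have hφr : φ.range = Subgroup.normalizer (Subgroup.zpowers (φ zL) : Set G) := by
    rw [comp_conj_range, hfr, hφz, zpowers_of_sign hfz]
  have hφzD : φ zL ∈ D := hφz ▸ hfzD
  have hφaD : φ aL ∈ D := by
    have hp3 : x'.1.1 ^ 3 = 1 :=
      congrArg (fun w : L35 => w.1.1) (hf (by rw [map_pow, hx', map_one, hexp y hyD]) : x' ^ 3 = 1)
    have e : hL * aL * hL⁻¹ = ⟨(1, x'.1.2), by
        have := x'.2
        show Perm.sign (1 : Perm (Fin 3)) * Perm.sign x'.1.2 = 1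
        rw [← hhq, map_one, map_mul, map_mul, map_inv, hh]
        decide +kernel⟩ := by
      apply Subtype.ext
      apply Prod.ext
      · show (1 : Perm (Fin 3)) * aL.1.1 * 1⁻¹ = 1
        rw [show aL.1.1 = 1 from rfl]; group
      · exact hhq
    show f (hL * aL * hL⁻¹) ∈ D
    rw [e]
    rcases first_step _ hp3 with h' | h' | h'
    · rw [show (⟨(1, x'.1.2), _⟩ : L35) = x' from Subtype.ext (Prod.ext h'.symm rfl), hx']
      exact hyD
    · rw [show (⟨(1, x'.1.2), _⟩ : L35) = zL⁻¹ * x' from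
        Subtype.ext (Prod.ext (by
          show (1 : Perm (Fin 3)) = zL.1.1⁻¹ * x'.1.1
          rw [h']; exact (inv_mul_cancel _).symm) (by
          show x'.1.2 = zL.1.2⁻¹ * x'.1.2
          rw [show zL.1.2 = 1 from rfl]; group)), map_mul, map_inv, hx']
      exact mul_mem (inv_mem hfzD) hyD
    · rw [show (⟨(1, x'.1.2), _⟩ : L35) = zL * x' from
        Subtype.ext (Prod.ext (by
          show (1 : Perm (Fin 3)) = zL.1.1 * x'.1.1
          rw [h']; exact (mul_inv_cancel _).symm) (by
          show x'.1.2 = zL.1.2 * x'.1.2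
          rw [show zL.1.2 = 1 from rfl]; group)), map_mul, hx']
      exact mul_mem hfzD hyD
  have zz3 : φ zL ^ 3 = 1 := by rw [← map_pow, zL_cube, map_one]
  have aa3 : φ aL ^ 3 = 1 := by rw [← map_pow, aL_cube, map_one]
  have hza : φ zL * φ aL = φ aL * φ zL := hcD _ hφzD _ hφaD
  have haz : φ aL ∉ Subgroup.zpowers (φ zL) := by
    intro hm
    rcases mem_zpowers_cases zz3 hm with hm | hm | hm
    · exact aL_ne.1 (hφ (hm.trans (map_one φ).symm))
    · exact aL_ne.2.1 (hφ hm)
    · exact aL_ne.2.2 (hφ (hm.trans (map_inv φ zL).symm))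
  have hDgen : D = Subgroup.closure ({φ zL, φ aL} : Set G) := by
    have hle : Subgroup.closure ({φ zL, φ aL} : Set G) ≤ D := by
      rw [Subgroup.closure_le]
      rintro w (rfl | rfl) <;> assumption
    symm
    apply Subgroup.eq_of_le_of_card_ge hle
    rw [hcard]
    have hzp : Subgroup.zpowers (φ zL) ≤ Subgroup.closure ({φ zL, φ aL} : Set G) := by
      rw [Subgroup.zpowers_le]; exact Subgroup.subset_closure (by simp)
    have h3 : Nat.card (Subgroup.zpowers (φ zL)) = 3 := by
      rw [Nat.card_zpowers]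
      haveI : Fact (Nat.Prime 3) := ⟨Nat.prime_three⟩
      exact orderOf_eq_prime zz3 (fun e => zL_ne (hφ (e.trans (map_one φ).symm)))
    have d1 := Subgroup.card_dvd_of_le hzp
    have d2 := Subgroup.card_dvd_of_le hle
    rw [hcard] at d2
    rw [h3] at d1
    by_contra hlt
    push Not at hlt
    have he : Nat.card (Subgroup.closure ({φ zL, φ aL} : Set G)) = 3 := by
      generalize Nat.card (Subgroup.closure ({φ zL, φ aL} : Set G)) = n at d1 d2 hlt
      interval_cases n <;> omega
    have := Subgroup.eq_of_le_of_card_ge hzp (by rw [he, h3])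
    exact haz (this ▸ Subgroup.subset_closure (by simp))
  -- the stabiliser of the line of `z` in the normaliser of `D`
  set N := Subgroup.normalizer (D : Set G) with hNdef
  have hN72 : Nat.card N = 72 := by
    rw [Subgroup.card_eq_card_quotient_mul_card_subgroup (D.subgroupOf N),
      Nat.card_congr eN.toEquiv, DihedralGroup.nat_card,
      Nat.card_congr (Subgroup.subgroupOfEquivOfLe Subgroup.le_normalizer).toEquiv, hcard]
  have hmemN : ∀ l : L35, φ l ∈ N ↔
      (l.1.2 * q0 * l.1.2⁻¹ = q0 ∨ l.1.2 * q0 * l.1.2⁻¹ = q0⁻¹) := by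
    intro l
    constructor
    · intro hl
      have hm : φ (l * aL * l⁻¹) ∈ D := by
        rw [map_mul, map_mul, map_inv]
        exact (Subgroup.mem_normalizer_iff.1 hl _).1 hφaD
      rw [hDgen] at hm
      obtain ⟨i, j, hi, hj, he⟩ := mem_closure_pair hza zz3 aa3 hm
      obtain ⟨i', rfl, hi'⟩ : ∃ i', i = φ i' ∧ i'.1.2 = 1 := by
        rcases hi with rfl | rfl | rfl
        · exact ⟨1, (map_one φ).symm, rfl⟩
        · exact ⟨zL, rfl, rfl⟩
        · exact ⟨zL⁻¹, (map_inv φ zL).symm, inv_one⟩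
      obtain ⟨j', rfl, hj'⟩ : ∃ j', j = φ j' ∧
          (j'.1.2 = 1 ∨ j'.1.2 = q0 ∨ j'.1.2 = q0⁻¹) := by
        rcases hj with rfl | rfl | rfl
        · exact ⟨1, (map_one φ).symm, .inl rfl⟩
        · exact ⟨aL, rfl, .inr (.inl rfl)⟩
        · exact ⟨aL⁻¹, (map_inv φ aL).symm, .inr (.inr rfl)⟩
      rw [← map_mul] at he
      have h2 : l.1.2 * q0 * l.1.2⁻¹ = i'.1.2 * j'.1.2 :=
        congrArg (fun w : L35 => w.1.2) (hφ he)
      rw [hi', one_mul] at h2
      rcases hj' with h' | h' | h'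
      · rw [h', conj_eq_one_iff] at h2
        exact absurd h2 (by decide +kernel)
      · exact .inl (h2.trans h')
      · exact .inr (h2.trans h')
    · intro hl
      have hmap : ∀ w ∈ D, φ l * w * (φ l)⁻¹ ∈ D := by
        intro w hw
        rw [hDgen] at hw
        induction hw using Subgroup.closure_induction with
        | mem w hw =>
          rcases hw with rfl | hw
          · have hn : φ l ∈ Subgroup.normalizer (Subgroup.zpowers (φ zL) : Set G) :=
              hφr ▸ ⟨l, rfl⟩
            exact Subgroup.zpowers_le.2 hφzD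
              ((Subgroup.mem_normalizer_iff.1 hn _).1 (Subgroup.mem_zpowers _))
          · rw [Set.mem_singleton_iff] at hw
            subst hw
            rw [← map_inv, ← map_mul, ← map_mul]
            rcases hl with h | h
            · rw [show l * aL * l⁻¹ = aL from Subtype.ext (Prod.ext (by
                show l.1.1 * aL.1.1 * l.1.1⁻¹ = aL.1.1
                rw [show aL.1.1 = 1 from rfl]; group) h)]
              exact hφaD
            · rw [show l * aL * l⁻¹ = aL⁻¹ from Subtype.ext (Prod.ext (by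
                show l.1.1 * aL.1.1 * l.1.1⁻¹ = aL.1.1⁻¹
                rw [show aL.1.1 = 1 from rfl]; group) h), map_inv]
              exact inv_mem hφaD
        | one => simp
        | mul v w _ _ hv hw =>
          rw [show φ l * (v * w) * (φ l)⁻¹ = φ l * v * (φ l)⁻¹ * (φ l * w * (φ l)⁻¹) by group]
          exact mul_mem hv hw
        | inv v _ hv =>
          rw [show φ l * v⁻¹ * (φ l)⁻¹ = (φ l * v * (φ l)⁻¹)⁻¹ by group]
          exact inv_mem hv
      rw [hNdef, Subgroup.mem_normalizer_iff]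
      intro w
      refine ⟨hmap w, fun hw => ?_⟩
      have hmapD : D.map (MulAut.conj (φ l)).toMonoidHom = D := by
        apply Subgroup.eq_of_le_of_card_ge
        · rintro _ ⟨v, hv, rfl⟩; exact hmap v hv
        · exact le_of_eq (Nat.card_congr
            (D.equivMapOfInjective _ (MulAut.conj (φ l)).injective).toEquiv)
      rw [← hmapD] at hw
      obtain ⟨v, hv, he⟩ := hw
      have e2 : φ l * v * (φ l)⁻¹ = φ l * w * (φ l)⁻¹ := he
      rw [mul_left_inj, mul_right_inj] at e2
      rwa [← e2]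
  set K := N ⊓ φ.range with hKdef
  have hK36 : Nat.card K = 36 := by
    have hK : K = (N.comap φ).map φ := by
      rw [hKdef, Subgroup.map_comap_eq, inf_comm]
    rw [hK, ← Nat.card_congr ((N.comap φ).equivMapOfInjective φ hφ).toEquiv, ← stab_card,
      ← Nat.card_eq_fintype_card]
    apply Nat.card_congr
    exact
      { toFun := fun l => ⟨l.1.1, l.1.2, (hmemN l.1).1 l.2⟩
        invFun := fun w => ⟨⟨w.1, w.2.1⟩, (hmemN _).2 w.2.2⟩
        left_inv := fun l => rfl
        right_inv := fun w => rfl }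
  have hidx : (K.subgroupOf N).index = 2 := by
    have h1 := Subgroup.card_mul_index (K.subgroupOf N)
    rw [Nat.card_congr (Subgroup.subgroupOfEquivOfLe (inf_le_left : K ≤ N)).toEquiv, hK36,
      hN72] at h1
    omega
  obtain ⟨⟨g, hgN⟩, hgK⟩ : ∃ g : N, g ∉ K.subgroupOf N := by
    by_contra hcon
    push Not at hcon
    rw [(Subgroup.eq_top_iff' _).2 hcon, Subgroup.index_top] at hidx
    omega
  have hgz : g ∉ Subgroup.normalizer (Subgroup.zpowers (φ zL) : Set G) := fun h =>
    hgK ⟨hgN, hφr ▸ h⟩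
  have hconj : ∀ w ∈ D, g * w * g⁻¹ ∈ D := fun w hw =>
    (Subgroup.mem_normalizer_iff.1 hgN w).1 hw
  have hline : ∀ k : G, ∀ w : G, k * φ zL * k⁻¹ = w → (w = φ zL ∨ w = (φ zL)⁻¹) →
      k ∈ Subgroup.normalizer (Subgroup.zpowers (φ zL) : Set G) := by
    intro k w hk hw
    rw [Subgroup.mem_normalizer_iff]
    have hmap : (Subgroup.zpowers (φ zL)).map (MulAut.conj k).toMonoidHom =
        Subgroup.zpowers (φ zL) := by
      rw [MonoidHom.map_zpowers]
      show Subgroup.zpowers (k * φ zL * k⁻¹) = _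
      rw [hk, zpowers_of_sign hw]
    intro v
    constructor
    · intro hv
      rw [← hmap]
      exact ⟨v, hv, rfl⟩
    · intro hv
      rw [← hmap] at hv
      obtain ⟨v', hv', he⟩ := hv
      have e2 : k * v' * k⁻¹ = k * v * k⁻¹ := he
      rw [mul_left_inj, mul_right_inj] at e2
      rwa [← e2]
  -- the image of `z` is on the line of `a`
  have hs_z : φ sL * φ zL * (φ sL)⁻¹ = (φ zL)⁻¹ := by
    rw [← map_inv φ sL, ← map_mul, ← map_mul, sL_z, map_inv]
  have hs_a : φ sL * φ aL * (φ sL)⁻¹ = φ aL := by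
    rw [← map_inv φ sL, ← map_mul, ← map_mul, sL_a]
  have hsK : φ sL ∈ N := (hmemN sL).2 (.inl (by decide +kernel))
  have hwa : g * φ zL * g⁻¹ = φ aL ∨ g * φ zL * g⁻¹ = (φ aL)⁻¹ := by
    have hwD : g * φ zL * g⁻¹ ∈ D := hconj _ hφzD
    rw [hDgen] at hwD
    obtain ⟨i, j, hi, hj, he⟩ := mem_closure_pair hza zz3 aa3 hwD
    by_cases hi1 : i = 1
    · subst hi1
      rw [one_mul] at he
      rcases hj with rfl | rfl | rfl
      · exact absurd (conj_eq_one_iff.1 he) (fun e => zL_ne (hφ (e.trans (map_one φ).symm)))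
      · exact .inl he
      · exact .inr he
    by_cases hj1 : j = 1
    · subst hj1
      rw [mul_one] at he
      exfalso
      rcases hi with rfl | rfl | rfl
      · exact hi1 rfl
      · exact hgz (hline g _ he (.inl rfl))
      · exact hgz (hline g _ he (.inr rfl))
    exfalso
    -- conjugation by `g⁻¹ s g` fixes the line of `z`, so `s` fixes a diagonal line
    have hm : (⟨g, hgN⟩ : N)⁻¹ * ⟨φ sL, hsK⟩ * ⟨g, hgN⟩ ∈ K.subgroupOf N := by
      rw [Subgroup.mul_mem_iff_of_index_two hidx, Subgroup.mul_mem_iff_of_index_two hidx,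
        inv_mem_iff]
      have : (⟨φ sL, hsK⟩ : N) ∈ K.subgroupOf N := ⟨hsK, sL, rfl⟩
      tauto
    have hn : g⁻¹ * φ sL * g ∈ Subgroup.normalizer (Subgroup.zpowers (φ zL) : Set G) :=
      hφr ▸ hm.2
    have hpow := (Subgroup.mem_normalizer_iff.1 hn (φ zL)).1 (Subgroup.mem_zpowers _)
    have hsw : φ sL * (i * j) * (φ sL)⁻¹ = i⁻¹ * j := by
      have e1 : φ sL * i * (φ sL)⁻¹ = i⁻¹ := by
        rcases hi with rfl | rfl | rfl
        · exact absurd rfl hi1
        · exact hs_z
        · rw [show φ sL * (φ zL)⁻¹ * (φ sL)⁻¹ = (φ sL * φ zL * (φ sL)⁻¹)⁻¹ by group, hs_z]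
      have e2 : φ sL * j * (φ sL)⁻¹ = j := by
        rcases hj with rfl | rfl | rfl
        · exact absurd rfl hj1
        · exact hs_a
        · rw [show φ sL * (φ aL)⁻¹ * (φ sL)⁻¹ = (φ sL * φ aL * (φ sL)⁻¹)⁻¹ by group, hs_a]
      rw [show φ sL * (i * j) * (φ sL)⁻¹ = φ sL * i * (φ sL)⁻¹ * (φ sL * j * (φ sL)⁻¹) by
        group, e1, e2]
    have hi' : ∃ i', i = φ i' ∧ (i' = zL ∨ i' = zL⁻¹) := by
      rcases hi with rfl | rfl | rfl
      · exact absurd rfl hi1
      · exact ⟨zL, rfl, .inl rfl⟩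
      · exact ⟨zL⁻¹, (map_inv φ zL).symm, .inr rfl⟩
    have hj' : ∃ j', j = φ j' ∧ (j' = aL ∨ j' = aL⁻¹) := by
      rcases hj with rfl | rfl | rfl
      · exact absurd rfl hj1
      · exact ⟨aL, rfl, .inl rfl⟩
      · exact ⟨aL⁻¹, (map_inv φ aL).symm, .inr rfl⟩
    obtain ⟨i', rfl, hi2⟩ := hi'
    obtain ⟨j', rfl, hj2⟩ := hj'
    rcases mem_zpowers_cases zz3 hpow with h1 | h1 | h1
    · exact zL_ne (hφ ((conj_eq_one_iff.1 h1).trans (map_one φ).symm))
    · have e : φ sL * (φ i' * φ j') * (φ sL)⁻¹ = φ i' * φ j' := by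
        rw [← he]
        calc φ sL * (g * φ zL * g⁻¹) * (φ sL)⁻¹
            = g * (g⁻¹ * φ sL * g * φ zL * (g⁻¹ * φ sL * g)⁻¹) * g⁻¹ := by group
          _ = g * φ zL * g⁻¹ := by rw [h1]
      rw [hsw, ← map_inv, ← map_mul, ← map_mul] at e
      have e' := hφ e
      rcases hi2 with rfl | rfl <;> rcases hj2 with rfl | rfl <;> revert e' <;> decide +kernel
    · have e : φ sL * (φ i' * φ j') * (φ sL)⁻¹ = (φ i' * φ j')⁻¹ := by
        rw [← he]
        calc φ sL * (g * φ zL * g⁻¹) * (φ sL)⁻¹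
            = g * (g⁻¹ * φ sL * g * φ zL * (g⁻¹ * φ sL * g)⁻¹) * g⁻¹ := by group
          _ = (g * φ zL * g⁻¹)⁻¹ := by rw [h1]; group
      rw [hsw, ← map_inv, ← map_mul, ← map_mul, ← map_inv] at e
      have e' := hφ e
      rcases hi2 with rfl | rfl <;> rcases hj2 with rfl | rfl <;> revert e' <;> decide +kernel
  -- `g` interchanges the two lines
  have hga : g * φ aL * g⁻¹ = φ zL ∨ g * φ aL * g⁻¹ = (φ zL)⁻¹ := by
    have hg2 : g * g ∈ Subgroup.normalizer (Subgroup.zpowers (φ zL) : Set G) :=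
      hφr ▸ (Subgroup.mul_self_mem_of_index_two hidx (⟨g, hgN⟩ : N)).2
    have hm := (Subgroup.mem_normalizer_iff.1 hg2 (φ zL)).1 (Subgroup.mem_zpowers _)
    have hc := mem_zpowers_cases zz3 hm
    have e : g * g * φ zL * (g * g)⁻¹ = g * (g * φ zL * g⁻¹) * g⁻¹ := by group
    rw [e] at hc
    rcases hwa with h | h <;> rw [h] at hc
    · rcases hc with h1 | h1 | h1
      · exact absurd (hφ ((conj_eq_one_iff.1 h1).trans (map_one φ).symm)) aL_ne.1
      · exact .inl h1
      · exact .inr h1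
    · have e2 : g * (φ aL)⁻¹ * g⁻¹ = (g * φ aL * g⁻¹)⁻¹ := by group
      rw [e2, inv_eq_one, inv_eq_iff_eq_inv, inv_inj] at hc
      rcases hc with h1 | h1 | h1
      · exact absurd (hφ ((conj_eq_one_iff.1 h1).trans (map_one φ).symm)) aL_ne.1
      · exact .inr h1
      · exact .inl h1
  -- the second system
  let ψ₀ : L35 →* G := (MulAut.conj g).toMonoidHom.comp φ
  have hψ₀ : Function.Injective ψ₀ := (MulAut.conj g).injective.comp hφ
  have hψ₀r : ψ₀.range = Subgroup.normalizer (Subgroup.zpowers (φ aL) : Set G) := by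
    rw [MonoidHom.range_comp, hφr, Subgroup.map_equiv_normalizer_eq,
      MonoidHom.map_zpowers]
    show Subgroup.normalizer ((Subgroup.zpowers (g * φ zL * g⁻¹) : Subgroup G) : Set G) = _
    rw [zpowers_of_sign hwa]
  have hψa : ψ₀ aL = φ zL ∨ ψ₀ aL = (φ zL)⁻¹ := hga
  have hψz : ψ₀ zL = φ aL ∨ ψ₀ zL = (φ aL)⁻¹ := hwa
  have hcard180 : ∀ w : G, (w = φ aL ∨ w = (φ aL)⁻¹) →
      Nat.card (Subgroup.centralizer ({w} : Set G)) = 180 := by
    intro w hw
    rw [cent_of_sign hw, ← cent_of_sign hwa, cent_conj, cent_of_sign (hφz ▸ hfz), h180]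
  have h18 : Nat.card (Subgroup.centralizer ({φ zL * φ aL} : Set G)) = 18 := by
    have hyD' := hyD
    rw [hDgen] at hyD'
    obtain ⟨i, j, hi, hj, he⟩ := mem_closure_pair hza zz3 aa3 hyD'
    by_cases hi1 : i = 1
    · exfalso
      rw [hi1, one_mul] at he
      rcases hj with rfl | rfl | rfl
      · rw [he] at hy
        have hle := Subgroup.card_le_of_le
          (show Subgroup.centralizer ({z} : Set G) ≤ Subgroup.centralizer ({(1 : G)} : Set G) from
            fun w _ => Subgroup.mem_centralizer_singleton_iff.2 (by simp))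
        omega
      · rw [he, hcard180 _ (.inl rfl)] at hy; omega
      · rw [he, hcard180 _ (.inr rfl)] at hy; omega
    by_cases hj1 : j = 1
    · exfalso
      rw [hj1, mul_one] at he
      have : Subgroup.centralizer ({y} : Set G) = Subgroup.centralizer ({z} : Set G) := by
        rw [he]
        rcases hi with rfl | rfl | rfl
        · exact absurd rfl hi1
        · exact cent_of_sign (hφz ▸ hfz)
        · rw [cent_inv]; exact cent_of_sign (hφz ▸ hfz)
      rw [this, h180] at hy; omega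
    have hswap : Nat.card (Subgroup.centralizer ({(φ zL)⁻¹ * φ aL} : Set G)) =
        Nat.card (Subgroup.centralizer ({φ zL * φ aL} : Set G)) := by
      rw [show (φ zL)⁻¹ * φ aL = φ sL * (φ zL * φ aL) * (φ sL)⁻¹ by
        rw [show φ sL * (φ zL * φ aL) * (φ sL)⁻¹ =
          φ sL * φ zL * (φ sL)⁻¹ * (φ sL * φ aL * (φ sL)⁻¹) by group, hs_z, hs_a], cent_conj]
    rw [he] at hy
    rcases hi with rfl | rfl | rfl
    · exact absurd rfl hi1
    · rcases hj with rfl | rfl | rfl
      · exact absurd rfl hj1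
      · exact hy
      · rw [← hswap, ← cent_inv, mul_inv_rev, inv_inv,
          ← (show Commute (φ zL) (φ aL)⁻¹ from (show Commute (φ zL) (φ aL) from hza).inv_right).eq]
        exact hy
    · rcases hj with rfl | rfl | rfl
      · exact absurd rfl hj1
      · rw [← hswap]; exact hy
      · rw [← cent_inv, mul_inv_rev,
          ((show Commute (φ zL) (φ aL) from hza).inv_left.inv_right).symm.eq]
        exact hy
  have hsy : ¬ 27 ∣ Nat.card G := by
    intro h
    obtain ⟨Q, hQ⟩ := Sylow.exists_subgroup_card_pow_prime 3 (n := 3) (G := G) h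
    have hQ3 : IsPGroup 3 Q := IsPGroup.of_card hQ
    obtain ⟨R, hR⟩ := hQ3.exists_le_sylow
    have h1 := Subgroup.card_dvd_of_le hR
    have h2 : Nat.card (R : Subgroup G) = Nat.card (P : Subgroup G) :=
      Nat.card_congr (Sylow.equiv R P).toEquiv
    rw [h2, ← hDP, hcard, hQ] at h1
    norm_num at h1
  rcases hψa with ha | ha
  · exact ⟨⟨φ, ψ₀, hφ, hψ₀, hφr, hψ₀r, ha, hψz, h18, hsy⟩⟩
  · refine ⟨⟨φ, ψ₀.comp (MulAut.conj kL).toMonoidHom, hφ,
      hψ₀.comp (MulAut.conj kL).injective, hφr, (comp_conj_range _ _).trans hψ₀r, ?_, ?_, h18,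
      hsy⟩⟩
    · show ψ₀ (kL * aL * kL⁻¹) = φ zL
      rw [kL_a, map_inv, ha, inv_inv]
    · show ψ₀ (kL * zL * kL⁻¹) = φ aL ∨ ψ₀ (kL * zL * kL⁻¹) = (φ aL)⁻¹
      rw [kL_z, map_inv]
      rcases hψz with h | h
      · right; rw [h]
      · left; rw [h, inv_inv]

end Cfsg.Agent.Lib.AltEightThree6.SetupProof

namespace Cfsg.Agent.Lib.AltEightThree6

universe u

theorem setup : SetupStmt.{u} := SetupProof.setup

end Cfsg.Agent.Lib.AltEightThree6
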