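import Mathlib
import Cfsg.Prelude.Def_Solvable
import Cfsg.Prelude.Def_Involutions

/-!
Interface for the characterisation of the alternating group of degree eight by centralisers of
elements of order three.
-/

set_option autoImplicit false

namespace Cfsg.Agent.Lib.AltEightThree6

open Equiv Equiv.Perm

universe u

/-- The alternating group of degree eight. -/
abbrev A8 := alternatingGroup (Fin 8)

/-- An even permutation as an element of `A8`. -/
def evA (p : Perm (Fin 8)) (h : Perm.sign p = 1 := by decide +kernel) : A8 :=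
  ⟨p, Perm.mem_alternatingGroup.2 h⟩

/-- The three cycle on the first three points. -/
def c3 : A8 := evA (swap 0 1 * swap 1 2)
/-- A product of two three cycles. -/
def c33 : A8 := evA (swap 0 1 * swap 1 2 * (swap 3 4 * swap 4 5))
/-- The involution `(45)(67)`. -/
def t0 : A8 := evA (swap 4 5 * swap 6 7)
/-- The involution `(46)(57)`. -/
def v0 : A8 := evA (swap 4 6 * swap 5 7)
/-- The fixed point free involution. -/
def e0 : A8 := evA (swap 0 1 * swap 2 3 * swap 4 5 * swap 6 7)

/-- The sign condition cutting out `(S3 × S5)+`. -/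
def signPair : Perm (Fin 3) × Perm (Fin 5) →* ℤˣ :=
  (Perm.sign.comp (MonoidHom.fst (Perm (Fin 3)) (Perm (Fin 5)))) *
    (Perm.sign.comp (MonoidHom.snd (Perm (Fin 3)) (Perm (Fin 5))))

/-- The normaliser type `(S3 × S5)+`. -/
abbrev L35 := signPair.ker

/-- An element of `L35`. -/
def evL (p : Perm (Fin 3)) (q : Perm (Fin 5)) (h : signPair (p, q) = 1 := by decide +kernel) : L35 :=
  ⟨(p, q), h⟩

/-- The central element of order three. -/
def zL : L35 := evL (swap 0 1 * swap 1 2) 1
/-- The element `(234)` of the second factor. -/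
def aL : L35 := evL 1 (swap 2 3 * swap 3 4)
/-- The involution `(12)(34)` of the four group fixing `0`. -/
def tL : L35 := evL 1 (swap 1 2 * swap 3 4)
/-- The involution `(13)(24)` of the four group fixing `0`. -/
def vL : L35 := evL 1 (swap 1 3 * swap 2 4)

/-- Two coordinate systems at commuting elements `z`, `a` of order three. -/
structure Data (G : Type u) [Group G] where
  φ : L35 →* G
  ψ : L35 →* G
  φ_inj : Function.Injective φ
  ψ_inj : Function.Injective ψ
  φ_range : φ.range = Subgroup.normalizer (Subgroup.zpowers (φ zL) : Set G)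
  ψ_range : ψ.range = Subgroup.normalizer (Subgroup.zpowers (φ aL) : Set G)
  ψ_a : ψ aL = φ zL
  ψ_z : ψ zL = φ aL ∨ ψ zL = (φ aL)⁻¹
  card_cent : Nat.card (Subgroup.centralizer ({φ zL * φ aL} : Set G)) = 18
  sylow : ¬ 27 ∣ Nat.card G

/-- The centraliser of the four group of the first system. -/
def Data.CV {G : Type u} [Group G] (d : Data G) : Subgroup G :=
  Subgroup.centralizer {d.φ tL, d.φ vL}

/-- The four groups of the two systems commute. -/
def Data.Good {G : Type u} [Group G] (d : Data G) : Prop :=
  Nat.card d.CV = 48 ∧ ∀ x ∈ ({d.φ tL, d.φ vL} : Set G), ∀ y ∈ ({d.ψ tL, d.ψ vL} : Set G), x * y = y * x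

/-- A copy of `A8` containing the centralisers of its elements of order three. -/
structure Emb {G : Type u} [Group G] (θ : A8 →* G) : Prop where
  inj : Function.Injective θ
  c3_le : Subgroup.centralizer ({θ c3} : Set G) ≤ θ.range
  c33_le : Subgroup.centralizer ({θ c33} : Set G) ≤ θ.range
  v_le : Subgroup.centralizer ({θ t0, θ v0} : Set G) ≤ θ.range
  sylow : ¬ 27 ∣ Nat.card G

/-- The hypotheses give two coordinate systems. -/
def SetupStmt : Prop :=
  ∀ (G : Type u) [Group G] [Finite G] (P : Sylow 3 G) (D : Subgroup G), D = P → ∀ (y z : G),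
    Subgroup.closure {y, z} = D → IsMulCommutative D → Nat.card D = 9 → (∀ a ∈ D, a ^ 3 = 1) →
    Subgroup.centralizer (D : Set G) = D →
    Nonempty (Subgroup.normalizer (D : Set G) ⧸ D.subgroupOf (Subgroup.normalizer (D : Set G)) ≃*
      DihedralGroup 4) →
    Nat.card (Subgroup.centralizer ({y} : Set G)) = 18 →
    Nonempty (Subgroup.centralizer ({z} : Set G) ≃*
      Multiplicative (ZMod 3) × alternatingGroup (Fin 5)) →
    Nonempty (Subgroup.normalizer (Subgroup.zpowers z : Set G) ≃* L35) →
    Nonempty (Data G)

/-- Either the centraliser of the four group is small, or the systems may be chosen to commute. -/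
def DichStmt : Prop :=
  ∀ (G : Type u) [Group G] [Finite G] (d : Data G),
    Nat.card d.CV = 12 ∨ ∃ d' : Data G, d'.φ = d.φ ∧ d'.Good

/-- The small case does not occur. -/
def BadStmt : Prop :=
  ∀ (G : Type u) [Group G] [Finite G] (d : Data G), Nat.card d.CV = 12 → False

/-- Carmichael's presentation gives a copy of `A8`. -/
def EmbStmt : Prop :=
  ∀ (G : Type u) [Group G] [Finite G] (d : Data G), d.Good → ∃ θ : A8 →* G, Emb θ

/-- The centraliser of an involution with fixed points. -/
def CentTStmt : Prop :=
  ∀ (G : Type u) [Group G] [Finite G] (θ : A8 →* G), Emb θ →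
    Subgroup.centralizer ({θ t0} : Set G) ≤ θ.range

/-- The centraliser of a fixed point free involution. -/
def CentEStmt : Prop :=
  ∀ (G : Type u) [Group G] [Finite G] (θ : A8 →* G), Emb θ →
    Subgroup.centralizer ({θ t0} : Set G) ≤ θ.range →
    Subgroup.centralizer ({θ e0} : Set G) ≤ θ.range

/-- A copy with both involution centralisers is the whole group. -/
def TopStmt : Prop :=
  ∀ (G : Type u) [Group G] [Finite G] (θ : A8 →* G), Emb θ →
    Subgroup.centralizer ({θ t0} : Set G) ≤ θ.range →
    Subgroup.centralizer ({θ e0} : Set G) ≤ θ.range → θ.range = ⊤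

end Cfsg.Agent.Lib.AltEightThree6
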