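import Cfsg.Agent.Lib.AltEightThree6.Fusion
import Cfsg.Agent.Lib.Involution.StronglyEmbedded
import Cfsg.Agent.Lib.SECount.Basic

/-!
A copy of `A8` with all three cycle and involution centralisers is the whole group.
-/

set_option autoImplicit false

namespace Cfsg.Agent.Lib.AltEightThree6

universe u

theorem top : TopStmt.{u} := by
  intro G _ _ θ hE ht he
  by_contra hne
  have hinv : ∀ i : A8, i * i = 1 → i ≠ 1 →
      Subgroup.centralizer ({θ i} : Set G) ≤ θ.range := by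
    intro i h2 h1
    obtain ⟨k, hk, hkle⟩ : ∃ k, IsConj k i ∧ Subgroup.centralizer ({θ k} : Set G) ≤ θ.range := by
      rcases involution_cases h2 h1 with ⟨-, hc⟩ | ⟨-, hc⟩
      exacts [⟨t0, hc, ht⟩, ⟨e0, hc, he⟩]
    obtain ⟨a, ha⟩ := isConj_iff.1 hk
    intro x hx
    have hx' : (θ a)⁻¹ * x * θ a ∈ Subgroup.centralizer ({θ k} : Set G) := by
      rw [Subgroup.mem_centralizer_singleton_iff] at hx ⊢
      rw [show θ k = (θ a)⁻¹ * θ i * θ a by rw [← ha, map_mul, map_mul, map_inv]; group]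
      calc (θ a)⁻¹ * x * θ a * ((θ a)⁻¹ * θ i * θ a) = (θ a)⁻¹ * (x * θ i) * θ a := by group
        _ = (θ a)⁻¹ * (θ i * x) * θ a := by rw [hx]
        _ = _ := by group
    have := θ.range.mul_mem (θ.range.mul_mem ⟨a, rfl⟩ (hkle hx')) (θ.range.inv_mem ⟨a, rfl⟩)
    rwa [show θ a * ((θ a)⁻¹ * x * θ a) * (θ a)⁻¹ = x by group] at this
  have hcard : Nat.card θ.range = Nat.card A8 :=
    (Nat.card_congr (MonoidHom.ofInjective hE.inj).toEquiv).symm
  have ho : ∀ i : A8, orderOf (θ i) = 2 → i * i = 1 ∧ i ≠ 1 := fun i h => by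
    rw [orderOf_injective θ hE.inj] at h
    exact ⟨by rw [← pow_two, ← h, pow_orderOf_eq_one], fun e => by rw [e, orderOf_one] at h; omega⟩
  have hSE : Cfsg.IsStronglyEmbedded θ.range := by
    refine (Involution.isStronglyEmbedded_iff _).2 ⟨hne, ?_, ?_⟩
    · rw [hcard, nat_card_alternatingGroup]
      simp [Nat.factorial]
      decide
    · rintro _ ⟨i, rfl⟩ hi g ⟨j, hj⟩
      obtain ⟨h2, h1⟩ := ho i hi
      obtain ⟨b, hb⟩ := isConj_iff.1 (hE.isConj_of_isConj h2 h1 (isConj_iff.2 ⟨g, hj.symm⟩))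
      have hmem : (θ b)⁻¹ * g ∈ Subgroup.centralizer ({θ i} : Set G) := by
        rw [Subgroup.mem_centralizer_singleton_iff]
        calc (θ b)⁻¹ * g * θ i = (θ b)⁻¹ * (g * θ i * g⁻¹) * g := by group
          _ = (θ b)⁻¹ * (θ b * θ i * (θ b)⁻¹) * g := by rw [← hj, ← hb, map_mul, map_mul, map_inv]
          _ = θ i * ((θ b)⁻¹ * g) := by group
      have := θ.range.mul_mem ⟨b, rfl⟩ (hinv i h2 h1 hmem)
      rwa [mul_inv_cancel_left] at this
  have hord : ∀ i : A8, i * i = 1 → i ≠ 1 → orderOf (θ i) = 2 := fun i h2 h1 => by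
    rw [orderOf_injective θ hE.inj]
    exact orderOf_eq_prime (by rw [pow_two, h2]) h1
  obtain ⟨ht0, -, he0⟩ := tType_t0
  exact hE.not_isConj_te ht0 he0 (SECount.isConj_invo hSE (hord _ ht0.2.1 ht0.1)
    (hord _ he0.1 fun e => he0.2 0 (by rw [e]; rfl)))

/-- The characterisation from the bricks. -/
theorem main_of (hS : SetupStmt.{u}) (hD : DichStmt.{u}) (hB : BadStmt.{u}) (hC : EmbStmt.{u})
    (hT : CentTStmt.{u}) (hE : CentEStmt.{u}) (G : Type u) [Group G] [Finite G]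
    (P : Sylow 3 G) (D : Subgroup G) (hDP : D = P) (y z : G) (hgen : Subgroup.closure {y, z} = D)
    (hcomm : IsMulCommutative D) (hcard : Nat.card D = 9) (hexp : ∀ a ∈ D, a ^ 3 = 1)
    (hCD : Subgroup.centralizer (D : Set G) = D)
    (eN : Subgroup.normalizer (D : Set G) ⧸ D.subgroupOf (Subgroup.normalizer (D : Set G)) ≃*
      DihedralGroup 4)
    (hy : Nat.card (Subgroup.centralizer ({y} : Set G)) = 18)
    (eC : Subgroup.centralizer ({z} : Set G) ≃* Multiplicative (ZMod 3) × alternatingGroup (Fin 5))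
    (eL : Subgroup.normalizer (Subgroup.zpowers z : Set G) ≃* L35) :
    Nonempty (G ≃* alternatingGroup (Fin 8)) := by
  obtain ⟨d⟩ := hS G P D hDP y z hgen hcomm hcard hexp hCD ⟨eN⟩ hy ⟨eC⟩ ⟨eL⟩
  rcases hD G d with h12 | ⟨d', -, hgood⟩
  · exact (hB G d h12).elim
  · obtain ⟨θ, hθ⟩ := hC G d' hgood
    have h1 := hT G θ hθ
    have htop := top G θ hθ h1 (hE G θ hθ h1)
    exact ⟨((MulEquiv.subgroupCongr htop).trans Subgroup.topEquiv).symm.trans
      (MonoidHom.ofInjective hθ.inj).symm⟩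

end Cfsg.Agent.Lib.AltEightThree6
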